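import Cfsg.Agent.Lib.ONanP.Plane
import Cfsg.Prelude.Def_Sporadic

/-!
# Simplicity of the presented O'Nan group
-/

set_option autoImplicit false
set_option maxRecDepth 100000

namespace CfsgLib.ONanP

open CfsgLib.PresCert Cfsg.Spor

/-- A homomorphism to a commutative group is trivial. -/
theorem hom_trivial {A : Type*} [CommGroup A] (f : Cfsg.Spor.ON →* A) : f = 1 := by
  set t : ℕ → A := fun i => f (gen i) with ht
  have rel : ∀ w : List ℕ, presRels.contains w = true → (w.map t).prod = 1 := by
    intro w hw
    have h := congrArg f (rels_one (List.contains_iff_mem.1 hw))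
    rw [map_one] at h
    have key : ∀ v : List ℕ, f (act gen v) = (v.map t).prod := by
      intro v
      induction v with
      | nil => simp [act_nil]
      | cons g v ih => rw [act_cons, map_mul, ih, List.map_cons, List.prod_cons, mul_comm]
    rwa [key] at h
  have sq : ∀ i < 6, t i * t i = 1 := fun i hi => by
    rw [ht]; simp only; rw [← map_mul, gen_sq hi, map_one]
  have odd : ∀ x y : ℕ, x < 6 → y < 6 → presRels.contains [x, y, x, y, x, y] = true →
      t x = t y := by
    intro x y hx hy hw
    have h := rel _ hw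
    simp only [List.map_cons, List.map_nil, List.prod_cons, List.prod_nil, mul_one] at h
    have e : t x * (t y * (t x * (t y * (t x * t y)))) =
        (t x * t x) * (t y * t y) * (t x * t y) := by
      simp only [mul_assoc, mul_comm, mul_left_comm]
    rw [e, sq x hx, sq y hy, one_mul, one_mul] at h
    exact (eq_inv_of_mul_eq_one_left h).trans (inv_eq_of_mul_eq_one_right (sq y hy))
  have h01 := odd 0 1 (by norm_num) (by norm_num) (by decide +kernel)
  have h12 := odd 1 2 (by norm_num) (by norm_num) (by decide +kernel)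
  have h34 := odd 3 4 (by norm_num) (by norm_num) (by decide +kernel)
  have h45 := odd 4 5 (by norm_num) (by norm_num) (by decide +kernel)
  have r1 := rel [2, 3, 2, 3, 2, 3, 2, 3, 5, 0] (by decide +kernel)
  have r2 := rel [7, 7, 5, 0] (by decide +kernel)
  have r5 := rel [6, 3, 2, 1, 6, 3, 2, 1, 6, 3, 2, 1, 6, 3, 2, 1, 6, 3, 2, 1] (by decide +kernel)
  have r6 := rel [2, 6, 2, 1, 6, 1, 2, 6, 2, 1, 6] (by decide +kernel)
  simp only [List.map_cons, List.map_nil, List.prod_cons, List.prod_nil, mul_one, ← h12, ← h01,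
    ← h34, h45.symm.trans h34.symm] at r1 r2 r5 r6
  set A' := t 0 with hA
  set D' := t 3 with hD
  have hA2 : A' * A' = 1 := sq 0 (by norm_num)
  have hD2 : D' * D' = 1 := sq 3 (by norm_num)
  have h7 : t 7 = (t 6)⁻¹ := by
    rw [ht]; simp only
    rw [show gen 7 = (gen 6)⁻¹ from gen_invIx (i := 6) (by norm_num), map_inv]
  have hAD : A' = D' := by
    have e : A' * (D' * (A' * (D' * (A' * (D' * (A' * (D' * (D' * A')))))))) =
        (A' * A') * (A' * A') * (D' * D') * (D' * D') * (D' * A') := by
      simp only [mul_assoc, mul_comm, mul_left_comm]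
    rw [e, hA2, hD2, one_mul, one_mul, one_mul, one_mul] at r1
    exact ((eq_inv_of_mul_eq_one_left r1).trans (inv_eq_of_mul_eq_one_right hA2)).symm
  rw [← hAD] at r2 r5
  have hg2 : t 6 * t 6 = 1 := by
    rw [h7, hA2, mul_one] at r2
    rw [← mul_inv_rev] at r2
    exact inv_eq_one.1 r2
  have hga : t 6 = A' := by
    have e : t 6 * (A' * (A' * (A' * (t 6 * (A' * (A' * (A' * (t 6 * (A' * (A' * (A' *
        (t 6 * (A' * (A' * (A' * (t 6 * (A' * (A' * A')))))))))))))))))) =
        (t 6 * t 6) * (t 6 * t 6) * ((A' * A') * (A' * A') * (A' * A') * (A' * A') * (A' * A') *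
          (A' * A') * (A' * A')) * (t 6 * A') := by
      simp only [mul_assoc, mul_comm, mul_left_comm]
    rw [e, hg2, hA2] at r5
    simp only [one_mul] at r5
    exact (eq_inv_of_mul_eq_one_left r5).trans (inv_eq_of_mul_eq_one_right hA2)
  rw [hga] at r6
  have hA1 : A' = 1 := by
    have e : A' * (A' * (A' * (A' * (A' * (A' * (A' * (A' * (A' * (A' * A'))))))))) =
        (A' * A') * (A' * A') * (A' * A') * (A' * A') * (A' * A') * A' := by
      simp only [mul_assoc]
    rw [e, hA2] at r6
    simpa using r6
  refine PresentedGroup.ext fun x => ?_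
  rw [MonoidHom.one_apply, ← gen_ix]
  show t (genIx x) = 1
  cases x
  · exact hga.trans hA1
  · exact hA1
  · exact h01.symm.trans hA1
  · exact (h12.symm.trans h01.symm).trans hA1
  · exact hAD.symm.trans hA1
  · exact h34.symm.trans (hAD.symm.trans hA1)
  · exact (h45.symm.trans h34.symm).trans (hAD.symm.trans hA1)

theorem commutator_eq_top : commutator Cfsg.Spor.ON = ⊤ := by
  rw [eq_top_iff]
  intro m _
  have h := hom_trivial (Abelianization.of : Cfsg.Spor.ON →* Abelianization Cfsg.Spor.ON)
  rw [← Abelianization.ker_of, MonoidHom.mem_ker, h]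
  rfl

/-- The sums of orbit lengths that divide the degree. -/
theorem orbit_sums : ∀ a b c d : Bool,
    (1 + (if a then 58653 else 0) + (if b then 5586 else 0) + (if c then 52136 else 0) +
      (if d then 6384 else 0)) ∣ 122760 →
    (a = false ∧ b = false ∧ c = false ∧ d = false) ∨
    (a = true ∧ b = true ∧ c = true ∧ d = true) := by
  decide +kernel

/-- The subgroup of the six involutions is maximal. -/
theorem maximal {L : Subgroup Cfsg.Spor.ON} (hL : subH ≤ L) : L = subH ∨ L = ⊤ := by
  classical
  set O : Finset (Fin tab.n) := Finset.univ.filter fun p => ∃ m ∈ L, phi m p₀ = p with hO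
  have hmemO : ∀ p : Fin tab.n, p ∈ O ↔ ∃ m ∈ L, phi m p₀ = p := fun p => by simp [hO]
  set A : ℕ → Bool := fun k => decide (rootPt k ∈ O) with hA
  have hinv : ∀ p : Fin tab.n, p ∈ O ↔ A (orbitLab p.val) = true := by
    intro p
    obtain ⟨m, hm, e⟩ := orbit_reach p
    simp only [hA, decide_eq_true_eq, hmemO]
    constructor
    · rintro ⟨l, hl, hlp⟩
      refine ⟨m⁻¹ * l, mul_mem (inv_mem (hL hm)) hl, ?_⟩
      rw [map_mul, Equiv.Perm.mul_apply, hlp, map_inv, Equiv.Perm.inv_def, Equiv.symm_apply_eq,
        e]
    · rintro ⟨l, hl, hlp⟩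
      exact ⟨m * l, mul_mem (hL hm) hl, by rw [map_mul, Equiv.Perm.mul_apply, hlp, e]⟩
  have h0 : A 0 = true := by
    simp only [hA, decide_eq_true_eq, hmemO]
    exact ⟨1, one_mem _, by rw [map_one, Equiv.Perm.one_apply]; rfl⟩
  have hfib : ∀ k < 5, (Finset.univ.filter fun p : Fin tab.n => orbitLab p.val = k).card =
      orbitCount k := by
    intro k _
    rw [orbitCount, ← List.toFinset_card_of_nodup (List.nodup_range.filter _)]
    refine Finset.card_bij (fun p _ => p.val) (fun p hp => ?_) (fun a _ b _ e => Fin.ext e)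
      fun v hv => ?_
    · simp only [Finset.mem_filter] at hp
      simp only [List.mem_toFinset, List.mem_filter, List.mem_range, Nat.beq_eq]
      exact ⟨p.isLt, hp.2⟩
    · simp only [List.mem_toFinset, List.mem_filter, List.mem_range, Nat.beq_eq] at hv
      exact ⟨⟨v, hv.1⟩, Finset.mem_filter.2 ⟨Finset.mem_univ _, hv.2⟩, rfl⟩
  have hcardO : O.card = ∑ k ∈ Finset.range 5, if A k then orbitCount k else 0 := by
    rw [Finset.card_eq_sum_card_fiberwise (f := fun p : Fin tab.n => orbitLab p.val)
      (t := Finset.range 5) (fun p _ => Finset.mem_range.2 (orbit_spec p.isLt).1)]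
    refine Finset.sum_congr rfl fun k hk => ?_
    cases hAk : A k
    · simp only [Bool.false_eq_true, if_false, Finset.card_eq_zero,
        Finset.filter_eq_empty_iff]
      intro p hp e
      have := (hinv p).1 hp
      rw [e, hAk] at this
      exact Bool.noConfusion this
    · rw [if_pos rfl, ← hfib k (Finset.mem_range.1 hk)]
      refine congrArg Finset.card (Finset.ext fun p => ?_)
      simp only [Finset.mem_filter, Finset.mem_univ, true_and, and_iff_right_iff_imp]
      intro e
      exact (hinv p).2 (by rw [e, hAk])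
  obtain ⟨c0, c1, c2, c3, c4⟩ := counts
  simp only [Finset.sum_range_succ, Finset.sum_range_zero, zero_add, h0, if_true, c0, c1, c2, c3,
    c4] at hcardO
  have hindexL : O.card = subH.relIndex L := by
    letI : MulAction L (Fin tab.n) := MulAction.compHom _ (phi.comp L.subtype)
    have e1 : subH.subgroupOf L = MulAction.stabilizer L p₀ := by
      ext l
      rw [Subgroup.mem_subgroupOf, MulAction.mem_stabilizer_iff]
      exact stab_zero.symm
    rw [Subgroup.relIndex, e1, MulAction.index_stabilizer, ← Set.ncard_coe_finset]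
    refine congrArg Set.ncard (Set.ext fun p => ?_)
    rw [Finset.mem_coe, hmemO, MulAction.mem_orbit_iff]
    exact ⟨fun ⟨m, hm, e⟩ => ⟨⟨m, hm⟩, e⟩, fun ⟨m, e⟩ => ⟨m.1, m.2, e⟩⟩
  have hdvd : subH.relIndex L ∣ 122760 := index_subH ▸ Subgroup.relIndex_dvd_index_of_le hL
  rw [← hindexL, hcardO] at hdvd
  have hmul := Subgroup.relIndex_mul_index hL
  rw [index_subH, ← hindexL, hcardO] at hmul
  rcases orbit_sums _ _ _ _ hdvd with ⟨a, b, c, d⟩ | ⟨a, b, c, d⟩
  · left
    rw [hcardO] at hindexL
    simp only [a, b, c, d, Bool.false_eq_true, if_false, add_zero] at hindexL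
    exact le_antisymm (Subgroup.relIndex_eq_one.1 hindexL.symm) hL
  · right
    simp only [a, b, c, d, if_true] at hmul
    exact Subgroup.index_eq_one.1 (by omega)

theorem simple : IsSimpleGroup Cfsg.Spor.ON := by
  haveI : Nontrivial Cfsg.Spor.ON := Finite.one_lt_card_iff_nontrivial.1 (by
    rw [card_ON]; norm_num)
  refine ⟨fun N hN => ?_⟩
  haveI := hN
  by_contra hne
  push Not at hne
  obtain ⟨hbot, htop⟩ := hne
  have hsup : N ⊔ subH = ⊤ := by
    rcases maximal (L := N ⊔ subH) le_sup_right with h | h
    · exfalso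
      have hle : N ≤ subH := h ▸ le_sup_left
      refine hbot (eq_bot_iff.2 fun m hm => ?_)
      rw [Subgroup.mem_bot]
      refine phi_injective (Equiv.ext fun p => ?_)
      rw [map_one, Equiv.Perm.one_apply]
      obtain ⟨a, ha⟩ := phi_transitive p₀ p
      have := subH_fix_zero (hle (hN.conj_mem m hm a⁻¹))
      rw [inv_inv, map_mul, map_mul, Equiv.Perm.mul_apply, Equiv.Perm.mul_apply, ha] at this
      have h2 := congrArg (phi a) this
      rwa [← Equiv.Perm.mul_apply, ← map_mul, mul_inv_cancel, map_one, Equiv.Perm.one_apply,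
        ha] at h2
    · exact h
  let q : subH →* Cfsg.Spor.ON ⧸ N := (QuotientGroup.mk' N).comp subH.subtype
  have hqs : Function.Surjective q := by
    intro x
    obtain ⟨m, rfl⟩ := QuotientGroup.mk_surjective x
    have hm : m ∈ N ⊔ subH := hsup ▸ Subgroup.mem_top m
    obtain ⟨a, ha, b, hb, rfl⟩ := Subgroup.mem_sup_of_normal_left.1 hm
    refine ⟨⟨b, hb⟩, ?_⟩
    show ((b : Cfsg.Spor.ON) : Cfsg.Spor.ON ⧸ N) = ((a * b : Cfsg.Spor.ON) : Cfsg.Spor.ON ⧸ N)
    rw [QuotientGroup.eq]
    simpa [mul_assoc] using hN.conj_mem a ha b⁻¹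
  haveI := evenPart_simple
  haveI := evenPart_normal
  have hcomm : ∀ x y : Cfsg.Spor.ON ⧸ N, x * y = y * x := by
    have hker : evenPart ≤ q.ker ∨ Function.Injective q := by
      rcases (inferInstance : IsSimpleGroup evenPart).eq_bot_or_eq_top_of_normal
        (q.ker.subgroupOf evenPart) inferInstance with h | h
      · right
        rw [← MonoidHom.ker_eq_bot_iff, eq_bot_iff]
        intro k hk
        rw [Subgroup.mem_bot]
        have hk0 : ∀ e ∈ evenPart, e ∈ q.ker → e = 1 := fun e he he' => by
          have : (⟨e, he⟩ : evenPart) ∈ q.ker.subgroupOf evenPart := he'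
          rw [h, Subgroup.mem_bot] at this
          exact congrArg Subtype.val this
        refine center_subH fun g => ?_
        have h2 : k * g * k⁻¹ * g⁻¹ = 1 := by
          refine hk0 _ ?_ ?_
          · rw [Subgroup.mul_mem_iff_of_index_two evenPart_index.1,
              Subgroup.mul_mem_iff_of_index_two evenPart_index.1,
              Subgroup.mul_mem_iff_of_index_two evenPart_index.1, inv_mem_iff, inv_mem_iff]
            tauto
          · rw [mul_assoc, mul_assoc]
            refine mul_mem hk ?_
            rw [← mul_assoc]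
            exact (MonoidHom.normal_ker q).conj_mem _ (inv_mem hk) g
        exact mul_inv_eq_iff_eq_mul.1 (mul_inv_eq_one.1 h2)
      · left
        intro e he
        have : (⟨e, he⟩ : evenPart) ∈ q.ker.subgroupOf evenPart := h ▸ Subgroup.mem_top _
        exact this
    rcases hker with h | h
    · intro x y
      obtain ⟨a, rfl⟩ := hqs x
      obtain ⟨b, rfl⟩ := hqs y
      have hidx : ∀ c d : subH, c⁻¹ * d⁻¹ * c * d ∈ evenPart := by
        intro c d
        have h2 := Subgroup.mul_mem_iff_of_index_two evenPart_index.1 (a := c⁻¹ * d⁻¹) (b := c * d)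
        rw [mul_assoc (c⁻¹ * d⁻¹), h2, Subgroup.mul_mem_iff_of_index_two evenPart_index.1,
          Subgroup.mul_mem_iff_of_index_two evenPart_index.1, inv_mem_iff, inv_mem_iff]
      have := MonoidHom.mem_ker.1 (h (hidx a b))
      rw [map_mul, map_mul, map_mul, map_inv, map_inv] at this
      calc q a * q b = q b * q a * ((q a)⁻¹ * (q b)⁻¹ * q a * q b) := by
            simp [mul_assoc]
        _ = q b * q a := by rw [this, mul_one]
    · exfalso
      let eQ := MulEquiv.ofBijective q ⟨h, hqs⟩
      let e2 : subH ⧸ evenPart ≃* Multiplicative (ZMod 2) :=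
        mulEquivOfPrimeCardEq (p := 2) (by rw [← Subgroup.index_eq_card, evenPart_index.1])
          (by simp)
      let sgn : subH ⧸ evenPart →* Multiplicative (ZMod 2) := e2.toMonoidHom
      let f : Cfsg.Spor.ON →* Multiplicative (ZMod 2) :=
        (sgn.comp (QuotientGroup.mk' evenPart)).comp
          (eQ.symm.toMonoidHom.comp (QuotientGroup.mk' N))
      have hf := hom_trivial f
      have hsurj : Function.Surjective f :=
        ((e2.surjective).comp
          (QuotientGroup.mk'_surjective evenPart)).comp
            (eQ.symm.surjective.comp (QuotientGroup.mk'_surjective N))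
      obtain ⟨m, hm⟩ := hsurj (Multiplicative.ofAdd 1)
      rw [hf, MonoidHom.one_apply] at hm
      exact absurd hm (by decide)
  letI : CommGroup (Cfsg.Spor.ON ⧸ N) := { (inferInstance : Group (Cfsg.Spor.ON ⧸ N)) with
    mul_comm := hcomm }
  have hmk := hom_trivial (QuotientGroup.mk' N)
  refine htop (eq_top_iff.2 fun m _ => ?_)
  rw [← QuotientGroup.ker_mk' N, MonoidHom.mem_ker, hmk]
  rfl

/-- The presented group is a simple group of the order of the O'Nan group. -/
theorem isON : Cfsg.IsON Cfsg.Spor.ON := ⟨simple, card_ON⟩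

end CfsgLib.ONanP
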