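import Cfsg.Agent.Lib.ONanP.TabChecks

/-!
# The single facts checked at every point
-/

set_option autoImplicit false
set_option maxRecDepth 100000

namespace CfsgLib.ONanP

theorem tab_col0 (i : ℕ) : tab.img 0 i = col0 i := rfl

theorem tab_col1 (i : ℕ) : tab.img 1 i = col1 i := rfl

theorem tab_col2 (i : ℕ) : tab.img 2 i = col2 i := rfl

theorem tab_col3 (i : ℕ) : tab.img 3 i = col3 i := rfl

theorem tab_col4 (i : ℕ) : tab.img 4 i = col4 i := rfl

theorem tab_col5 (i : ℕ) : tab.img 5 i = col5 i := rfl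

theorem tab_col6 (i : ℕ) : tab.img 6 i = col6 i := rfl

theorem tab_col7 (i : ℕ) : tab.img 7 i = col7 i := rfl

theorem point_ok {i : ℕ} (hi : i < 122760) : pointOk i = true := by
  have hb := tab_blocks (i / 1000) (by omega)
  simp only [tabBlock, List.all_eq_true, List.mem_range, Bool.or_eq_true,
    Bool.not_eq_true'] at hb
  have h := hb (i % 1000) (Nat.mod_lt _ (by norm_num))
  rw [Nat.div_add_mod] at h
  refine h.resolve_left fun e => ?_
  have : Nat.blt i 122760 = true := by rw [Nat.blt_eq]; exact hi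
  rw [this] at e
  exact Bool.noConfusion e

theorem img_ok0 {i : ℕ} (hi : i < 122760) :
    tab.img 0 i < 122760 ∧ tab.img 0 (tab.img 0 i) = i := by
  have h := point_ok hi
  simp only [pointOk, invAt, Bool.and_eq_true, Nat.blt_eq, Nat.beq_eq] at h
  exact h.1.1.1.1.1.1.1.1.1.1.1.1.1.1.1.1.1.1.1.1.1.1.1.1.1.1.1.1.1.1

theorem img_ok1 {i : ℕ} (hi : i < 122760) :
    tab.img 1 i < 122760 ∧ tab.img 1 (tab.img 1 i) = i := by
  have h := point_ok hi
  simp only [pointOk, invAt, Bool.and_eq_true, Nat.blt_eq, Nat.beq_eq] at h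
  exact h.1.1.1.1.1.1.1.1.1.1.1.1.1.1.1.1.1.1.1.1.1.1.1.1.1.1.1.1.1.2

theorem img_ok2 {i : ℕ} (hi : i < 122760) :
    tab.img 2 i < 122760 ∧ tab.img 2 (tab.img 2 i) = i := by
  have h := point_ok hi
  simp only [pointOk, invAt, Bool.and_eq_true, Nat.blt_eq, Nat.beq_eq] at h
  exact h.1.1.1.1.1.1.1.1.1.1.1.1.1.1.1.1.1.1.1.1.1.1.1.1.1.1.1.1.2

theorem img_ok3 {i : ℕ} (hi : i < 122760) :
    tab.img 3 i < 122760 ∧ tab.img 3 (tab.img 3 i) = i := by
  have h := point_ok hi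
  simp only [pointOk, invAt, Bool.and_eq_true, Nat.blt_eq, Nat.beq_eq] at h
  exact h.1.1.1.1.1.1.1.1.1.1.1.1.1.1.1.1.1.1.1.1.1.1.1.1.1.1.1.2

theorem img_ok4 {i : ℕ} (hi : i < 122760) :
    tab.img 4 i < 122760 ∧ tab.img 4 (tab.img 4 i) = i := by
  have h := point_ok hi
  simp only [pointOk, invAt, Bool.and_eq_true, Nat.blt_eq, Nat.beq_eq] at h
  exact h.1.1.1.1.1.1.1.1.1.1.1.1.1.1.1.1.1.1.1.1.1.1.1.1.1.1.2

theorem img_ok5 {i : ℕ} (hi : i < 122760) :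
    tab.img 5 i < 122760 ∧ tab.img 5 (tab.img 5 i) = i := by
  have h := point_ok hi
  simp only [pointOk, invAt, Bool.and_eq_true, Nat.blt_eq, Nat.beq_eq] at h
  exact h.1.1.1.1.1.1.1.1.1.1.1.1.1.1.1.1.1.1.1.1.1.1.1.1.1.2

theorem img_ok6 {i : ℕ} (hi : i < 122760) :
    tab.img 6 i < 122760 ∧ tab.img 7 (tab.img 6 i) = i := by
  have h := point_ok hi
  simp only [pointOk, invAt, Bool.and_eq_true, Nat.blt_eq, Nat.beq_eq] at h
  exact ⟨h.1.1.1.1.1.1.1.1.1.1.1.1.1.1.1.1.1.1.1.1.1.1.1.1.2, h.1.1.1.1.1.1.1.1.1.1.1.1.1.1.1.1.1.1.1.1.1.1.2⟩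

theorem img_ok7 {i : ℕ} (hi : i < 122760) :
    tab.img 7 i < 122760 ∧ tab.img 6 (tab.img 7 i) = i := by
  have h := point_ok hi
  simp only [pointOk, invAt, Bool.and_eq_true, Nat.blt_eq, Nat.beq_eq] at h
  exact ⟨h.1.1.1.1.1.1.1.1.1.1.1.1.1.1.1.1.1.1.1.1.1.1.1.2, h.1.1.1.1.1.1.1.1.1.1.1.1.1.1.1.1.1.1.1.1.1.2⟩

theorem comm02 {i : ℕ} (hi : i < 122760) :
    (tab.img 2 (tab.img 0 i)) = (tab.img 0 (tab.img 2 i)) := by
  have h := point_ok hi
  simp only [pointOk, invAt, Bool.and_eq_true, Nat.blt_eq, Nat.beq_eq] at h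
  exact h.1.1.1.1.1.1.1.1.1.1.1.1.1.1.1.1.1.1.1.1.2

theorem comm03 {i : ℕ} (hi : i < 122760) :
    (tab.img 3 (tab.img 0 i)) = (tab.img 0 (tab.img 3 i)) := by
  have h := point_ok hi
  simp only [pointOk, invAt, Bool.and_eq_true, Nat.blt_eq, Nat.beq_eq] at h
  exact h.1.1.1.1.1.1.1.1.1.1.1.1.1.1.1.1.1.1.1.2

theorem comm04 {i : ℕ} (hi : i < 122760) :
    (tab.img 4 (tab.img 0 i)) = (tab.img 0 (tab.img 4 i)) := by
  have h := point_ok hi
  simp only [pointOk, invAt, Bool.and_eq_true, Nat.blt_eq, Nat.beq_eq] at h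
  exact h.1.1.1.1.1.1.1.1.1.1.1.1.1.1.1.1.1.1.2

theorem comm05 {i : ℕ} (hi : i < 122760) :
    (tab.img 5 (tab.img 0 i)) = (tab.img 0 (tab.img 5 i)) := by
  have h := point_ok hi
  simp only [pointOk, invAt, Bool.and_eq_true, Nat.blt_eq, Nat.beq_eq] at h
  exact h.1.1.1.1.1.1.1.1.1.1.1.1.1.1.1.1.1.2

theorem comm13 {i : ℕ} (hi : i < 122760) :
    (tab.img 3 (tab.img 1 i)) = (tab.img 1 (tab.img 3 i)) := by
  have h := point_ok hi
  simp only [pointOk, invAt, Bool.and_eq_true, Nat.blt_eq, Nat.beq_eq] at h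
  exact h.1.1.1.1.1.1.1.1.1.1.1.1.1.1.1.1.2

theorem comm14 {i : ℕ} (hi : i < 122760) :
    (tab.img 4 (tab.img 1 i)) = (tab.img 1 (tab.img 4 i)) := by
  have h := point_ok hi
  simp only [pointOk, invAt, Bool.and_eq_true, Nat.blt_eq, Nat.beq_eq] at h
  exact h.1.1.1.1.1.1.1.1.1.1.1.1.1.1.1.2

theorem comm15 {i : ℕ} (hi : i < 122760) :
    (tab.img 5 (tab.img 1 i)) = (tab.img 1 (tab.img 5 i)) := by
  have h := point_ok hi
  simp only [pointOk, invAt, Bool.and_eq_true, Nat.blt_eq, Nat.beq_eq] at h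
  exact h.1.1.1.1.1.1.1.1.1.1.1.1.1.1.2

theorem comm24 {i : ℕ} (hi : i < 122760) :
    (tab.img 4 (tab.img 2 i)) = (tab.img 2 (tab.img 4 i)) := by
  have h := point_ok hi
  simp only [pointOk, invAt, Bool.and_eq_true, Nat.blt_eq, Nat.beq_eq] at h
  exact h.1.1.1.1.1.1.1.1.1.1.1.1.1.2

theorem comm25 {i : ℕ} (hi : i < 122760) :
    (tab.img 5 (tab.img 2 i)) = (tab.img 2 (tab.img 5 i)) := by
  have h := point_ok hi
  simp only [pointOk, invAt, Bool.and_eq_true, Nat.blt_eq, Nat.beq_eq] at h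
  exact h.1.1.1.1.1.1.1.1.1.1.1.1.2

theorem comm35 {i : ℕ} (hi : i < 122760) :
    (tab.img 5 (tab.img 3 i)) = (tab.img 3 (tab.img 5 i)) := by
  have h := point_ok hi
  simp only [pointOk, invAt, Bool.and_eq_true, Nat.blt_eq, Nat.beq_eq] at h
  exact h.1.1.1.1.1.1.1.1.1.1.1.2

theorem braid01 {i : ℕ} (hi : i < 122760) :
    (tab.img 0 (tab.img 1 (tab.img 0 i))) = (tab.img 1 (tab.img 0 (tab.img 1 i))) := by
  have h := point_ok hi
  simp only [pointOk, invAt, Bool.and_eq_true, Nat.blt_eq, Nat.beq_eq] at h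
  exact h.1.1.1.1.1.1.1.1.1.1.2

theorem braid12 {i : ℕ} (hi : i < 122760) :
    (tab.img 1 (tab.img 2 (tab.img 1 i))) = (tab.img 2 (tab.img 1 (tab.img 2 i))) := by
  have h := point_ok hi
  simp only [pointOk, invAt, Bool.and_eq_true, Nat.blt_eq, Nat.beq_eq] at h
  exact h.1.1.1.1.1.1.1.1.1.2

theorem braid34 {i : ℕ} (hi : i < 122760) :
    (tab.img 3 (tab.img 4 (tab.img 3 i))) = (tab.img 4 (tab.img 3 (tab.img 4 i))) := by
  have h := point_ok hi
  simp only [pointOk, invAt, Bool.and_eq_true, Nat.blt_eq, Nat.beq_eq] at h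
  exact h.1.1.1.1.1.1.1.1.2

theorem braid45 {i : ℕ} (hi : i < 122760) :
    (tab.img 4 (tab.img 5 (tab.img 4 i))) = (tab.img 5 (tab.img 4 (tab.img 5 i))) := by
  have h := point_ok hi
  simp only [pointOk, invAt, Bool.and_eq_true, Nat.blt_eq, Nat.beq_eq] at h
  exact h.1.1.1.1.1.1.1.2

theorem extra0 {i : ℕ} (hi : i < 122760) :
    tab.walk i [7, 7, 5, 0] = i := by
  have h := point_ok hi
  simp only [pointOk, invAt, Bool.and_eq_true, Nat.blt_eq, Nat.beq_eq] at h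
  simp only [CfsgLib.PresCert.Fast.Tab.walk, tab_col0, tab_col1, tab_col2, tab_col3, tab_col4, tab_col5, tab_col6, tab_col7]
  exact h.1.1.1.1.1.1.2

theorem extra1 {i : ℕ} (hi : i < 122760) :
    tab.walk i [2, 3, 2, 3, 2, 3, 2, 3, 5, 0] = i := by
  have h := point_ok hi
  simp only [pointOk, invAt, Bool.and_eq_true, Nat.blt_eq, Nat.beq_eq] at h
  simp only [CfsgLib.PresCert.Fast.Tab.walk, tab_col0, tab_col1, tab_col2, tab_col3, tab_col4, tab_col5, tab_col6, tab_col7]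
  exact h.1.1.1.1.1.2

theorem extra2 {i : ℕ} (hi : i < 122760) :
    tab.walk i [6, 3, 6, 3, 2, 3, 7, 3, 7, 2] = i := by
  have h := point_ok hi
  simp only [pointOk, invAt, Bool.and_eq_true, Nat.blt_eq, Nat.beq_eq] at h
  simp only [CfsgLib.PresCert.Fast.Tab.walk, tab_col0, tab_col1, tab_col2, tab_col3, tab_col4, tab_col5, tab_col6, tab_col7]
  exact h.1.1.1.1.2

theorem extra3 {i : ℕ} (hi : i < 122760) :
    tab.walk i [6, 2, 6, 2, 3, 2, 7, 2, 7, 3] = i := by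
  have h := point_ok hi
  simp only [pointOk, invAt, Bool.and_eq_true, Nat.blt_eq, Nat.beq_eq] at h
  simp only [CfsgLib.PresCert.Fast.Tab.walk, tab_col0, tab_col1, tab_col2, tab_col3, tab_col4, tab_col5, tab_col6, tab_col7]
  exact h.1.1.1.2

theorem extra4 {i : ℕ} (hi : i < 122760) :
    tab.walk i [6, 3, 2, 1, 6, 3, 2, 1, 6, 3, 2, 1, 6, 3, 2, 1, 6, 3, 2, 1] = i := by
  have h := point_ok hi
  simp only [pointOk, invAt, Bool.and_eq_true, Nat.blt_eq, Nat.beq_eq] at h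
  simp only [CfsgLib.PresCert.Fast.Tab.walk, tab_col0, tab_col1, tab_col2, tab_col3, tab_col4, tab_col5, tab_col6, tab_col7]
  exact h.1.1.2

theorem extra5 {i : ℕ} (hi : i < 122760) :
    tab.walk i [2, 6, 2, 1, 6, 1, 2, 6, 2, 1, 6] = i := by
  have h := point_ok hi
  simp only [pointOk, invAt, Bool.and_eq_true, Nat.blt_eq, Nat.beq_eq] at h
  simp only [CfsgLib.PresCert.Fast.Tab.walk, tab_col0, tab_col1, tab_col2, tab_col3, tab_col4, tab_col5, tab_col6, tab_col7]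
  exact h.1.2

theorem extra6 {i : ℕ} (hi : i < 122760) :
    tab.walk i [3, 6, 3, 4, 6, 4, 3, 6, 3, 4, 6] = i := by
  have h := point_ok hi
  simp only [pointOk, invAt, Bool.and_eq_true, Nat.blt_eq, Nat.beq_eq] at h
  simp only [CfsgLib.PresCert.Fast.Tab.walk, tab_col0, tab_col1, tab_col2, tab_col3, tab_col4, tab_col5, tab_col6, tab_col7]
  exact h.2

end CfsgLib.ONanP
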