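import Cfsg.Agent.Lib.ONanP.Pres
import Cfsg.Agent.Lib.ONanP.Points

/-!
# The action of the presented group on 122760 points
-/

set_option autoImplicit false
set_option maxRecDepth 100000

namespace CfsgLib.ONanP

open CfsgLib.PresCert Cfsg.Spor

theorem tab_n : tab.n = 122760 := rfl

theorem tab_ng : tab.ng = 8 := rfl

theorem img_ok {g i : ℕ} (hg : g < 8) (hi : i < 122760) :
    tab.img g i < 122760 ∧ tab.img (invIx g) (tab.img g i) = i := by
  interval_cases g
  exacts [img_ok0 hi, img_ok1 hi, img_ok2 hi, img_ok3 hi, img_ok4 hi, img_ok5 hi, img_ok6 hi,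
    img_ok7 hi]

/-- The walk reversed returns. -/
theorem walk_reverse : ∀ {w : List ℕ}, (∀ g ∈ w, g < 6) → ∀ {i : ℕ}, i < 122760 →
    tab.walk i w < 122760 ∧ tab.walk (tab.walk i w) w.reverse = i
  | [], _, i, hi => ⟨hi, rfl⟩
  | g :: w, hw, i, hi => by
    have hg : g < 6 := hw g (by simp)
    obtain ⟨h1, h2⟩ := img_ok (g := g) (by omega) hi
    obtain ⟨h3, h4⟩ := walk_reverse (w := w) (fun a ha => hw a (by simp [ha])) h1
    refine ⟨h3, ?_⟩
    have app : ∀ (u v : List ℕ) (p : ℕ), tab.walk p (u ++ v) = tab.walk (tab.walk p u) v := by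
      intro u
      induction u with
      | nil => intro v p; rfl
      | cons a u ih => intro v p; exact ih v _
    rw [List.reverse_cons, app]
    show tab.img g (tab.walk (tab.walk (tab.img g i) w) w.reverse) = i
    rw [h4]
    have e : invIx g = g := by interval_cases g <;> rfl
    rwa [e] at h2

/-- The words that are checked or follow at once from checked ones. -/
def baseRels : List (List ℕ) :=
  (List.range 6).map (fun x => [x, x]) ++
  [[0, 2, 0, 2], [0, 3, 0, 3], [0, 4, 0, 4], [0, 5, 0, 5], [1, 3, 1, 3], [1, 4, 1, 4],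
    [1, 5, 1, 5], [2, 4, 2, 4], [2, 5, 2, 5], [3, 5, 3, 5], [0, 1, 0, 1, 0, 1],
    [1, 2, 1, 2, 1, 2], [3, 4, 3, 4, 3, 4], [4, 5, 4, 5, 4, 5],
    [2, 3, 2, 3, 2, 3, 2, 3, 2, 3, 2, 3, 2, 3, 2, 3],
    [7, 7, 5, 0], [2, 3, 2, 3, 2, 3, 2, 3, 5, 0], [6, 3, 6, 3, 2, 3, 7, 3, 7, 2],
    [6, 2, 6, 2, 3, 2, 7, 2, 7, 3],
    [6, 3, 2, 1, 6, 3, 2, 1, 6, 3, 2, 1, 6, 3, 2, 1, 6, 3, 2, 1],
    [2, 6, 2, 1, 6, 1, 2, 6, 2, 1, 6], [3, 6, 3, 4, 6, 4, 3, 6, 3, 4, 6]]

theorem base_fix {w : List ℕ} (hw : w ∈ baseRels) {i : ℕ} (hi : i < 122760) :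
    tab.walk i w = i := by
  have inv : ∀ {g p : ℕ}, g < 6 → p < 122760 → tab.img g p < 122760 ∧
      tab.img g (tab.img g p) = p := by
    intro g p hg hp
    have := img_ok (g := g) (by omega) hp
    have e : invIx g = g := by interval_cases g <;> rfl
    rwa [e] at this
  have hcom : ∀ x y : ℕ, x < 6 → y < 6 →
      (∀ p, p < 122760 → tab.img y (tab.img x p) = tab.img x (tab.img y p)) →
      tab.walk i [x, y, x, y] = i := by
    intro x y hx hy hc
    obtain ⟨a1, a2⟩ := inv hx hi
    obtain ⟨b1, b2⟩ := inv hy a1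
    show tab.img y (tab.img x (tab.img y (tab.img x i))) = i
    rw [hc _ b1, b2, a2]
  have hbr : ∀ x y : ℕ, x < 6 → y < 6 →
      (∀ p, p < 122760 → tab.img x (tab.img y (tab.img x p)) =
        tab.img y (tab.img x (tab.img y p))) →
      tab.walk i [x, y, x, y, x, y] = i := by
    intro x y hx hy hc
    obtain ⟨a1, a2⟩ := inv hx hi
    obtain ⟨b1, b2⟩ := inv hy a1
    obtain ⟨c1, c2⟩ := inv hx b1
    show tab.img y (tab.img x (tab.img y (tab.img x (tab.img y (tab.img x i))))) = i
    rw [← hc _ c1, c2, b2, a2]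
  simp only [baseRels, List.map, List.range, List.range.loop, List.cons_append, List.nil_append,
    List.mem_cons, List.not_mem_nil, or_false] at hw
  rcases hw with rfl | rfl | rfl | rfl | rfl | rfl | rfl | rfl | rfl | rfl | rfl | rfl | rfl |
    rfl | rfl | rfl | rfl | rfl | rfl | rfl | rfl | rfl | rfl | rfl | rfl | rfl | rfl | rfl
  iterate 6 exact (inv (by norm_num) hi).2
  · exact hcom 0 2 (by norm_num) (by norm_num) fun p hp => comm02 hp
  · exact hcom 0 3 (by norm_num) (by norm_num) fun p hp => comm03 hp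
  · exact hcom 0 4 (by norm_num) (by norm_num) fun p hp => comm04 hp
  · exact hcom 0 5 (by norm_num) (by norm_num) fun p hp => comm05 hp
  · exact hcom 1 3 (by norm_num) (by norm_num) fun p hp => comm13 hp
  · exact hcom 1 4 (by norm_num) (by norm_num) fun p hp => comm14 hp
  · exact hcom 1 5 (by norm_num) (by norm_num) fun p hp => comm15 hp
  · exact hcom 2 4 (by norm_num) (by norm_num) fun p hp => comm24 hp
  · exact hcom 2 5 (by norm_num) (by norm_num) fun p hp => comm25 hp
  · exact hcom 3 5 (by norm_num) (by norm_num) fun p hp => comm35 hp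
  · exact hbr 0 1 (by norm_num) (by norm_num) fun p hp => braid01 hp
  · exact hbr 1 2 (by norm_num) (by norm_num) fun p hp => braid12 hp
  · exact hbr 3 4 (by norm_num) (by norm_num) fun p hp => braid34 hp
  · exact hbr 4 5 (by norm_num) (by norm_num) fun p hp => braid45 hp
  · -- the eighth power is the square of an involution
    set v : List ℕ := [2, 3, 2, 3, 2, 3, 2, 3] with hv
    have app : ∀ (u u' : List ℕ) (p : ℕ), tab.walk p (u ++ u') = tab.walk (tab.walk p u) u' := by
      intro u
      induction u with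
      | nil => intro u' p; rfl
      | cons a u ih => intro u' p; exact ih u' _
    have hq : ∀ p, p < 122760 → tab.walk p v < 122760 ∧
        tab.walk p v = tab.img 5 (tab.img 0 p) := by
      intro p hp
      obtain ⟨h1, -⟩ := walk_reverse (w := v) (by decide) hp
      refine ⟨h1, ?_⟩
      have hz : tab.img 0 (tab.img 5 (tab.walk p v)) = p := extra1 hp
      obtain ⟨d1, d2⟩ := inv (show (5 : ℕ) < 6 by norm_num) h1
      conv_rhs => rw [← hz, (inv (show (0 : ℕ) < 6 by norm_num) d1).2, d2]
    show tab.walk i (v ++ v) = i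
    obtain ⟨q1, q2⟩ := hq i hi
    rw [app, (hq _ q1).2, q2]
    obtain ⟨a1, a2⟩ := inv (show (0 : ℕ) < 6 by norm_num) hi
    obtain ⟨b1, b2⟩ := inv (show (5 : ℕ) < 6 by norm_num) a1
    have hc : tab.img 5 (tab.img 0 (tab.img 5 (tab.img 0 i))) =
        tab.img 0 (tab.img 5 (tab.img 5 (tab.img 0 i))) := by
      exact (comm05 b1)
    rw [hc, b2, a2]
  · exact extra0 hi
  · exact extra1 hi
  · exact extra2 hi
  · exact extra3 hi
  · exact extra4 hi
  · exact extra5 hi
  · exact extra6 hi

/-- The permutation of a letter. -/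
noncomputable def letterPerm (g : ℕ) : Equiv.Perm (Fin tab.n) :=
  if hg : g < 8 then
    { toFun := fun i => ⟨tab.img g i.val, (img_ok hg i.isLt).1⟩
      invFun := fun i => ⟨tab.img (invIx g) i.val, (img_ok (invIx_lt g hg).1 i.isLt).1⟩
      left_inv := fun i => Fin.ext (img_ok hg i.isLt).2
      right_inv := fun i => Fin.ext (by
        have := (img_ok (invIx_lt g hg).1 i.isLt).2
        rwa [(invIx_lt g hg).2] at this) }
  else 1

theorem letterPerm_apply {g : ℕ} (hg : g < 8) (i : Fin tab.n) :
    ((letterPerm g i : Fin tab.n) : ℕ) = tab.img g i.val := by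
  simp [letterPerm, dif_pos hg]

theorem letterPerm_inv {g : ℕ} (hg : g < 8) : (letterPerm g)⁻¹ = letterPerm (invIx g) := by
  refine inv_eq_of_mul_eq_one_left (Equiv.ext fun i => Fin.ext ?_)
  rw [Equiv.Perm.mul_apply, letterPerm_apply (invIx_lt g hg).1, letterPerm_apply hg]
  exact (img_ok hg i.isLt).2

theorem lift_eq_act (L : List (ON.Gen × Bool)) :
    FreeGroup.lift (fun x => letterPerm (genIx x)) (FreeGroup.mk L) =
      act letterPerm (L.map letter).reverse := by
  induction L with
  | nil =>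
    rw [← FreeGroup.one_eq_mk, map_one]
    rfl
  | cons p L ih =>
    obtain ⟨x, b⟩ := p
    rw [show FreeGroup.mk ((x, b) :: L) = FreeGroup.mk [(x, b)] * FreeGroup.mk L from rfl, map_mul,
      ih, List.map_cons, List.reverse_cons, act_append, act_cons, act_nil, one_mul]
    congr 1
    cases b
    · have e : FreeGroup.mk [(x, false)] = (FreeGroup.of x)⁻¹ := rfl
      rw [e, map_inv, FreeGroup.lift_apply_of, letterPerm_inv (by cases x <;> decide)]
      rfl
    · exact FreeGroup.lift_apply_of

theorem realised_id : Fast.Realised letterPerm tab (MonoidHom.id _) :=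
  ⟨fun _ _ hg hi => (img_ok hg hi).1, fun _ hg i => letterPerm_apply hg i⟩

/-- Reversals of checked words in the involutions. -/
theorem covered : presRels.all (fun w => w.all (fun g => Nat.blt g 8) &&
    (baseRels.contains w || w.all (fun g => Nat.blt g 6) && baseRels.contains w.reverse)) = true := by
  decide +kernel

theorem perm_rels : ∀ w ∈ presRels, act letterPerm w = 1 := by
  intro w hw
  have h := List.all_eq_true.1 covered w hw
  simp only [Bool.and_eq_true, Bool.or_eq_true, List.all_eq_true, Nat.blt_eq,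
    List.contains_iff_mem] at h
  obtain ⟨hlt, h⟩ := h
  refine Equiv.ext fun i => Fin.ext ?_
  have h1 := realised_id.act_apply (w := w) hlt i
  rw [MonoidHom.id_apply] at h1
  rw [h1]
  rcases h with h | ⟨h6, h⟩
  · exact base_fix h i.isLt
  · obtain ⟨a, b⟩ := walk_reverse (w := w) h6 i.isLt
    have := base_fix h a
    rw [b] at this
    exact this.symm

/-- The action on the points. -/
noncomputable def phi : Cfsg.Spor.ON →* Equiv.Perm (Fin tab.n) :=
  PresentedGroup.toGroup (f := fun x => letterPerm (genIx x)) fun r hr => by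
    rw [← FreeGroup.mk_toWord (x := r), lift_eq_act]
    exact perm_rels _ (List.mem_map.2 ⟨r, relList_mem.2 hr, rfl⟩)

theorem phi_gen {g : ℕ} (hg : g < 8) : phi (gen g) = letterPerm g := by
  have key : ∀ x : ON.Gen, phi (PresentedGroup.of x) = letterPerm (genIx x) :=
    fun x => PresentedGroup.toGroup.of _
  by_cases h7 : g = 7
  · subst h7
    show phi (PresentedGroup.of ON.Gen.g)⁻¹ = _
    rw [map_inv, key, letterPerm_inv (by decide)]
    rfl
  · rw [show gen g = PresentedGroup.of (genAt g) from if_neg h7, key]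
    congr 1
    interval_cases g <;> first | rfl | exact absurd rfl h7

theorem realised : Fast.Realised gen tab phi :=
  ⟨fun _ _ hg hi => (img_ok hg hi).1, fun g hg i => by
    rw [phi_gen hg]; exact letterPerm_apply hg i⟩

theorem phi_act {w : List ℕ} (hw : ∀ g ∈ w, g < 8) (i : Fin tab.n) :
    ((phi (act gen w) i : Fin tab.n) : ℕ) = tab.walk i.val w :=
  realised.act_apply hw i

theorem walk_lt {w : List ℕ} (hw : ∀ g ∈ w, g < 8) {i : ℕ} (hi : i < 122760) :
    tab.walk i w < 122760 := by
  rw [← phi_act hw ⟨i, hi⟩]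
  exact Fin.isLt _

end CfsgLib.ONanP
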