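import Cfsg.Agent.Lib.ONanP.Pres
import Cfsg.Agent.Lib.PresCert.Paired
import Cfsg.Agent.Lib.ONanP.CertGData

/-!
# Kernel checks of an enumeration certificate, part 0
-/

set_option autoImplicit false
set_option maxRecDepth 100000

namespace CfsgLib.ONanP

open CfsgLib.PresCert

theorem certG_shape : shapeOk certG = true := by decide +kernel

theorem certG_block0 : Paired.block certG invIx 0 = true := by decide +kernel

theorem certG_block1 : Paired.block certG invIx 1 = true := by decide +kernel

theorem certG_block2 : Paired.block certG invIx 2 = true := by decide +kernel

theorem certG_block3 : Paired.block certG invIx 3 = true := by decide +kernel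

theorem certG_block4 : Paired.block certG invIx 4 = true := by decide +kernel

theorem certG_block5 : Paired.block certG invIx 5 = true := by decide +kernel

theorem certG_block6 : Paired.block certG invIx 6 = true := by decide +kernel

theorem certG_valid : Paired.Valid certG invIx := by
  refine ⟨certG_shape, fun b hb => ?_⟩
  have h : certG.N = 6258 := rfl
  have : b < 7 := by omega
  interval_cases b
  exact certG_block0
  exact certG_block1
  exact certG_block2
  exact certG_block3
  exact certG_block4
  exact certG_block5
  exact certG_block6

theorem certG_goals : certGGoals.all (fun w => w.all (fun g => Nat.blt g certG.ng) &&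
    endsAt certG (certG.rm - 1) (walk certG (certG.rm - 1) 0 w) 0) = true := by
  decide +kernel

end CfsgLib.ONanP
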