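import Cfsg.Agent.Lib.PresCert.Check

/-!
# Enumeration certificate CertS (generated)
-/

set_option autoImplicit false
set_option maxRecDepth 100000

namespace CfsgLib.ONanP

open CfsgLib.PresCert

/-- Packed values. -/
def certSCells0 : List ℕ :=
  [0x854031009f80000334c02b10a5a000055e60abc08b300000aeb03fd01060000042c0b1709a0000056a20b79039e00000ba804ba01c4000004e90bd3033f00003529045b0c3300000a8d13510c95000008e30cc405d600000a2e06050cf200000d200518057700000b4a0d50063400000c070c660d8000000663069206c1,
    0x7050e260762000030b8073707bc000052670ee408210000317707f50879000054350912987d00000941025300a700000282096e01650000079609cf7733,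
    0x0, 0x0, 0x0, 0x0, 0x0, 0x0, 0x0, 0x0, 0x0, 0x0, 0x0, 0x0, 0x0, 0x0]

/-- Packed values. -/
def certSCells : List (List ℕ) :=
  [certSCells0]

/-- Packed values. -/
def certSPars0 : List ℕ :=
  [0xda4cdbdf5aee61e96359c68a24f346081000]

/-- Packed values. -/
def certSPars : List (List ℕ) :=
  [certSPars0]

/-- Packed values. -/
def certSLive0 : List ℕ :=
  [0xbdab49ca307b9ac5a928398a418820]

/-- Packed values. -/
def certSLive : List (List ℕ) :=
  [certSLive0]

/-- Packed values. -/
def certSIdx0 : List ℕ :=
  [0xbdab49ca307b9ac5a928398a418820]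

/-- Packed values. -/
def certSIdx : List (List ℕ) :=
  [certSIdx0]

/-- Words. -/
def certSWords0 : List (List ℕ × ℕ × List ℕ) :=
  [([], 1, [0, 1, 0, 1, 0]),
    ([], 2, [0, 2, 0]),
    ([], 2, [1, 2, 1, 2, 1]),
    ([], 0, [1, 0, 1, 0, 1]),
    ([], 0, [2, 0, 2])]

/-- The certificate. -/
def certS : Data :=
  { ng := 3, n := 24, N := 256, vm := 24, rm := 73, cw := 16, R := 64
    cells := certSCells
    pw := 6, pars := certSPars, iw := 5, live := certSLive, idx := certSIdx
    nrel := 5
    words := [certSWords0] }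

/-- The relators. -/
def certSRels : List (List ℕ) :=
  [[0, 0],
    [1, 1],
    [2, 2],
    [1, 0, 1, 0, 1, 0],
    [2, 0, 2, 0],
    [2, 1, 2, 1, 2, 1]]

/-- The origins of the words. -/
def certSHints : List (ℕ × ℕ × Bool) :=
  [(3, 0, false), (4, 0, false), (5, 0, false), (3, 1, false), (4, 1, false)]

end CfsgLib.ONanP
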