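import Cfsg.Agent.Lib.ONanP.CertSData
import Cfsg.Agent.Lib.PresCert.Paired
import Cfsg.Agent.Lib.ONanP.CertTData

/-!
# Kernel checks of an enumeration certificate, part 2
-/

set_option autoImplicit false
set_option maxRecDepth 100000

namespace CfsgLib.ONanP

open CfsgLib.PresCert

theorem certS_closed : Closed certS [[0], [1], [2]] := by
  refine ⟨⟨by decide +kernel, fun b hb => ?_⟩, by decide +kernel, fun b hb => ?_⟩
  · have h : certS.N = 256 := rfl
    have : b = 0 := by omega
    subst this
    decide +kernel
  · have h : certS.n = 24 := rfl
    have : b = 0 := by omega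
    subst this
    decide +kernel

theorem certT_closed : Closed certT [[0], [1], [2], [3]] := by
  refine ⟨⟨by decide +kernel, fun b hb => ?_⟩, by decide +kernel, fun b hb => ?_⟩
  · have h : certT.N = 205 := rfl
    have : b = 0 := by omega
    subst this
    decide +kernel
  · have h : certT.n = 28 := rfl
    have : b = 0 := by omega
    subst this
    decide +kernel

end CfsgLib.ONanP
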