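import Cfsg.Agent.Lib.PresCert.Paired
import Cfsg.Agent.Lib.ONanP.CertUData

/-!
# Kernel checks of an enumeration certificate, part 1
-/

set_option autoImplicit false
set_option maxRecDepth 100000

namespace CfsgLib.ONanP

open CfsgLib.PresCert

theorem certU_shape : shapeOk certU = true := by decide +kernel

theorem certU_block0 : block certU 0 = true := by decide +kernel

theorem certU_block1 : block certU 1 = true := by decide +kernel

theorem certU_block2 : block certU 2 = true := by decide +kernel

theorem certU_block3 : block certU 3 = true := by decide +kernel

theorem certU_block4 : block certU 4 = true := by decide +kernel

theorem certU_block5 : block certU 5 = true := by decide +kernel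

theorem certU_block6 : block certU 6 = true := by decide +kernel

theorem certU_block7 : block certU 7 = true := by decide +kernel

theorem certU_block8 : block certU 8 = true := by decide +kernel

theorem certU_block9 : block certU 9 = true := by decide +kernel

theorem certU_closedBlock0 : closedBlock certU [[0], [1], [2], [3], [4], [5]] 0 = true := by decide +kernel

theorem certU_closedBlock1 : closedBlock certU [[0], [1], [2], [3], [4], [5]] 1 = true := by decide +kernel

theorem certU_closedBlock2 : closedBlock certU [[0], [1], [2], [3], [4], [5]] 2 = true := by decide +kernel

theorem certU_closedBlock3 : closedBlock certU [[0], [1], [2], [3], [4], [5]] 3 = true := by decide +kernel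

theorem certU_closedBlock4 : closedBlock certU [[0], [1], [2], [3], [4], [5]] 4 = true := by decide +kernel

theorem certU_closedBlock5 : closedBlock certU [[0], [1], [2], [3], [4], [5]] 5 = true := by decide +kernel

theorem certU_closed : Closed certU [[0], [1], [2], [3], [4], [5]] := by
  refine ⟨⟨certU_shape, fun b hb => ?_⟩, by decide +kernel, fun b hb => ?_⟩
  · have h : certU.N = 9655 := rfl
    have : b < 10 := by omega
    interval_cases b
    exact certU_block0
    exact certU_block1
    exact certU_block2
    exact certU_block3
    exact certU_block4
    exact certU_block5
    exact certU_block6
    exact certU_block7
    exact certU_block8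
    exact certU_block9
  · have h : certU.n = 5586 := rfl
    have : b < 6 := by omega
    interval_cases b
    exact certU_closedBlock0
    exact certU_closedBlock1
    exact certU_closedBlock2
    exact certU_closedBlock3
    exact certU_closedBlock4
    exact certU_closedBlock5

end CfsgLib.ONanP
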