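import Cfsg.Agent.Lib.ONanP.Claims

/-!
# The derived equations of cosets (generated)
-/

set_option autoImplicit false
set_option maxRecDepth 100000

namespace CfsgLib.ONanP

/-- Derivations. -/
def derivs0 : List Deriv :=
  [⟨0, 1, 1, [],
    [⟨0, [], []⟩],
    0, [], [5, 0]⟩,
  ⟨0, 1, 2, [],
    [⟨1, [], []⟩],
    1, [3], [1, 1]⟩,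
  ⟨0, 1, 3, [3, 2, 1, 0, 3, 2, 1, 4, 3, 2, 1, 0, 3, 5, 4, 3, 2, 3, 2, 1, 0, 4, 3, 2, 1, 3, 2, 4, 3, 2, 5, 4,
      3, 2, 1, 3, 2, 3, 2, 1, 4, 3, 2],
    [⟨2, [2, 0, 2, 0, 2, 1, 2], [0, 1, 0, 2, 1, 3]⟩],
    1, [1], [2, 0, 2, 1, 2, 0, 2]⟩,
  ⟨0, 2, 1, [1, 0, 3],
    [⟨3, [2, 0, 2, 0, 2, 0, 2], [2, 0, 2, 0, 2, 1, 2]⟩],
    4, [4, 3, 2, 1, 3, 2, 3, 4, 3, 2, 1, 3, 2, 1, 3, 4, 3, 2, 1, 3, 2, 1, 3, 2, 1, 4, 3, 2, 1, 3, 2], [3, 2]⟩,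
  ⟨4, 5, 1, [2, 1],
    [⟨4, [], []⟩, ⟨0, [], [2, 1]⟩, ⟨1, [2, 0, 2, 0, 2, 0, 2], [2, 1, 2, 0, 2, 1, 2]⟩],
    2, [4, 3, 2, 1, 0, 3, 5, 4, 3, 2, 1, 3, 2, 1, 4, 3, 2, 1, 0, 3, 5, 4, 3, 2, 3, 2, 1, 0, 4, 3, 2, 1,
      3, 2, 4, 3, 2], [0, 1, 2, 1, 0, 2, 1, 0, 2, 1, 0, 2]⟩,
  ⟨4, 8, 2, [4, 3, 2, 1, 0, 3, 5, 4, 3, 2, 1, 3, 2, 1, 4, 3, 2, 1, 0, 3, 5, 4, 3, 2, 3, 2, 1, 0, 4, 3, 2, 1,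
      3, 2, 4, 3],
    [⟨5, [2, 0, 2, 0, 2, 0, 2], [1, 0, 2, 1, 2, 1, 0, 2, 1]⟩, ⟨4, [], [2, 1, 2, 0, 2, 1, 2]⟩,
    ⟨0, [], [2, 1]⟩],
    1, [1, 2], []⟩,
  ⟨4, 8, 1, [1, 2, 1],
    [⟨1, [2, 0, 2, 0, 2, 0, 2], [2, 1, 2, 0, 2, 1, 2]⟩,
    ⟨5, [2, 0, 2, 0, 2, 0, 2], [1, 2, 1, 2, 1, 2, 1]⟩, ⟨2, [2, 0, 2, 1, 2, 0, 2], [0, 1]⟩],
    3, [3, 2, 1, 0, 3, 2, 1, 4, 3, 2, 1, 0, 3, 5, 4, 3, 2, 3, 2, 1, 0, 4, 3, 2, 1, 3, 2, 4, 3, 2, 5, 4,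
      3, 2, 1, 3, 2, 3, 2, 1, 4, 3], [0, 1, 0, 2, 1, 0, 3]⟩,
  ⟨4, 8, 3, [3, 2, 1, 3, 2, 4, 3, 2, 1, 0, 5, 4, 3, 2, 1, 3, 2, 3, 2, 4, 3, 2, 1, 3, 2, 4, 3, 2, 5, 4, 3, 2,
      1, 0, 3, 2, 1, 3, 2, 4, 3],
    [⟨6, [], [0, 2, 3, 3]⟩, ⟨9, [], []⟩, ⟨5, [2, 0, 2, 0, 2, 0, 2], [1, 0, 2, 1, 2, 1, 0, 2, 1]⟩],
    1, [1, 2, 1], [2, 1, 2, 0, 2, 1, 2]⟩]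

/-- Derivations. -/
def derivs1 : List Deriv :=
  [⟨4, 5, 2, [4, 3, 2, 1, 0, 3, 5, 4, 3, 2, 1, 3, 2, 1, 4, 3, 2, 1, 0, 3, 5, 4, 3, 2, 3, 2, 1, 0, 4, 3, 2, 1,
      3, 2, 4, 3, 2],
    [⟨5, [2, 0, 2, 0, 2, 0, 2], [0, 2, 1, 0, 2, 1, 0, 2, 1, 2, 1, 0]⟩,
    ⟨2, [2, 0, 2, 1, 2, 0, 2], [0, 1]⟩, ⟨10, [1, 1], [1, 0, 2, 1, 0, 3, 3]⟩],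
    1, [2, 1, 0], [1, 1]⟩,
  ⟨4, 8, 1, [1, 0, 2],
    [⟨2, [2, 0, 2, 0, 2, 1, 2], [2, 0, 2, 1, 2, 0, 2]⟩, ⟨10, [], [1, 0, 2, 1, 0, 3, 3]⟩,
    ⟨1, [2, 0, 2, 0, 2, 0, 2], [2, 1, 2, 0, 2, 1, 2]⟩],
    2, [4, 3, 2, 1, 0, 3, 5, 4, 3, 2, 1, 3, 2, 1, 4, 3, 2, 1, 0, 3, 5, 4, 3, 2, 3, 2, 1, 0, 4, 3, 2, 1,
      3, 2, 4, 3], [1, 0, 2, 1, 2, 1, 0, 2, 1]⟩,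
  ⟨4, 8, 1, [1, 0, 2, 1, 0],
    [⟨11, [1, 1], [1, 1]⟩, ⟨6, [], [0]⟩, ⟨11, [], []⟩],
    3, [3, 2, 1, 0, 3, 2, 1, 4, 3, 2, 1, 0, 3, 5, 4, 3, 2, 3, 2, 1, 0, 4, 3, 2, 1, 3, 2, 4, 3, 2, 5, 4,
      3, 2, 1, 3, 2, 3, 2, 4, 3], [0, 2, 3, 3]⟩,
  ⟨4, 8, 1, [1, 0, 3, 2, 1, 0, 3, 2],
    [⟨11, [1], [0, 1]⟩, ⟨6, [1], [0]⟩, ⟨11, [1, 1, 1], [1]⟩],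
    3, [3, 2, 1, 0, 3, 2, 1, 4, 3, 2, 1, 3, 2, 1, 4, 3, 2, 1, 0, 3, 5, 4, 3, 2, 1, 3, 2, 4, 3, 2, 5, 4,
      3, 2, 1, 3, 2, 3, 4], [3, 3]⟩,
  ⟨4, 8, 3, [3, 2, 1, 0, 3, 2, 1, 4, 3, 2, 1, 3, 2, 1, 4, 3, 2, 1, 0, 3, 5, 4, 3, 2, 1, 3, 2, 4, 3, 2, 5, 4,
      3, 2, 1, 3, 2, 3, 4],
    [⟨10, [1], [0, 3]⟩, ⟨12, [1], [0]⟩,
    ⟨13, [1, 1, 1], [0, 2, 1, 2, 1, 0, 2, 1, 2, 1, 2, 1, 0, 2, 1, 2, 1]⟩],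
    1, [1, 0, 3, 2, 1, 3, 2], []⟩,
  ⟨4, 8, 3, [3, 2, 1, 0, 3, 2, 1, 4, 3, 2, 1, 0, 3, 5, 4, 3, 2, 3, 2, 1, 0, 4, 3, 2, 1, 3, 2, 4, 3, 2, 5, 4,
      3, 2, 1, 3, 2, 3, 2, 4, 3],
    [⟨10, [1, 1], [2, 3]⟩, ⟨12, [], [0]⟩, ⟨13, [], [1, 0, 2, 1, 0, 2, 1, 2, 1, 0, 2, 1, 0, 2, 1]⟩],
    1, [1, 0, 2, 1], [0, 1, 1]⟩,
  ⟨1, 7, 4, [2, 3, 2],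
    [⟨7, [2, 0, 2, 1, 2, 0, 2], [0, 3, 2]⟩, ⟨2, [], [0, 2, 0, 2, 0, 2, 1, 2]⟩,
    ⟨10, [2, 0, 2, 1, 2, 0, 2], [1, 0, 2, 1, 0, 3, 3]⟩],
    1, [2, 3, 4, 3, 5], [2, 1, 2, 0, 2, 1, 2]⟩,
  ⟨1, 9, 1, [3, 4, 3, 2],
    [⟨11, [2, 0, 2, 0, 2, 1, 2], [2, 0, 2, 1, 2, 0, 2]⟩, ⟨6, [2, 0, 2, 1, 2, 0, 2], [0]⟩,
    ⟨3, [0], [0, 2, 0, 2, 0, 2, 1, 2]⟩],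
    4, [2, 3], [1]⟩]

/-- Derivations. -/
def derivs2 : List Deriv :=
  [⟨3, 13, 2, [4, 3, 2, 1, 3, 2, 1, 4, 3, 2, 1, 0, 5, 4, 3, 2, 1, 3, 2, 3, 2, 4, 3, 2, 1, 3, 2, 4, 3, 5, 4],
    [⟨13, [1], [0, 1, 0, 2, 1, 2, 1, 0, 2, 1, 0, 2, 1, 2, 1, 2, 1, 0]⟩, ⟨1, [], [0]⟩,
    ⟨5, [], [2, 1, 0]⟩, ⟨12, [1, 1], [0]⟩],
    2, [4, 3, 2, 1, 0, 3, 5, 4, 3, 2, 3, 2, 1, 0, 4, 3, 2, 1, 3, 2, 3, 4, 3, 2, 1, 5, 4, 3, 2, 1, 3, 2,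
      4, 3], []⟩,
  ⟨3, 13, 3, [3, 2, 1, 4, 3, 2, 1, 0, 3, 5, 4, 3, 2, 1, 3, 2, 1, 4, 3, 2, 1, 3, 2, 4, 3, 5, 4, 3, 2, 1, 0, 3,
      2, 1, 3, 4],
    [⟨14, [1, 1, 1], [0, 2, 3]⟩, ⟨19, [2, 0, 2, 0, 2, 1, 2], [2, 0, 2, 1, 2, 0, 2]⟩,
    ⟨3, [2, 1, 2, 0, 2, 1, 2], [1, 2]⟩, ⟨17, [], [2, 0, 2, 1, 2, 0, 2]⟩],
    3, [3, 2, 1, 0, 3, 2, 1, 4, 3, 2, 1, 3, 5, 4, 3, 2, 3, 2, 1, 0, 4, 3, 2, 1, 3, 2, 3, 2, 4, 3, 2, 1,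
      5, 4, 3, 2, 3, 4], []⟩,
  ⟨4, 5, 2, [4, 3, 2, 1, 0, 3, 2, 4, 3, 5, 4, 3, 2, 1, 0, 3, 2, 1, 3, 2, 4, 3, 2, 5, 4, 3, 2, 1, 3, 2, 3, 4],
    [⟨20, [1], [0, 2]⟩, ⟨13, [1, 1], [0, 1, 0, 2, 1, 2, 1, 2, 1, 0, 2, 1, 2, 1, 2, 1, 0]⟩,
    ⟨2, [2, 0, 2, 1, 2, 0, 2], [0, 2, 0, 2, 0, 2, 1, 2]⟩],
    3, [3, 2, 1, 0, 3, 2, 1, 4, 3, 2, 1, 3, 2, 1, 4, 3, 2, 1, 0, 3, 5, 4, 3, 2, 1, 3, 2, 4, 3, 2, 5, 4,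
      3, 2, 1, 3, 2, 3, 2, 4, 3], [1, 0, 2, 1, 0, 3]⟩,
  ⟨4, 8, 3, [3, 2, 1, 0, 3, 2, 1, 4, 3, 2, 1, 0, 3, 5, 4, 3, 2, 3, 2, 1, 0, 4, 3, 2, 1, 3, 2, 3, 4, 3, 2, 1,
      5, 4, 3, 2, 3, 4],
    [⟨15, [1, 1], [1, 2, 1, 3, 3]⟩, ⟨16, [1, 1, 1], [1, 1]⟩, ⟨21, [], [2]⟩],
    3, [3, 2, 1, 4, 3, 2, 1, 0, 3, 5, 4, 3, 2, 3, 2, 1, 0, 4, 3, 2, 1, 3, 2, 3, 4, 3, 2, 1, 5, 4, 3, 2,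
      3, 4], []⟩,
  ⟨4, 5, 4, [4, 3, 2, 1, 3, 2, 3, 4, 3, 2, 1, 3, 2, 1, 3, 4, 3, 2, 1, 3, 2, 1, 3, 2, 1, 4, 3, 2],
    [⟨3, [2, 0, 2, 1, 2, 0, 2], [3, 1, 2]⟩, ⟨19, [2, 0, 2, 1, 2, 0, 2], []⟩,
    ⟨3, [2, 0, 2, 0, 2, 1, 2], [0, 1]⟩],
    1, [1, 0, 2, 1, 3], [0, 2, 0, 2, 0, 2, 1, 2]⟩,
  ⟨4, 8, 1, [1, 0, 2, 1, 0, 3, 2],
    [⟨19, [2, 0, 2, 0, 2, 1, 2], [0, 2, 0, 2, 0, 2, 1, 2]⟩, ⟨3, [2, 0, 2, 1, 2, 0, 2], [0, 1]⟩,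
    ⟨19, [2, 0, 2, 1, 2, 0, 2], []⟩],
    4, [4, 3, 2, 1, 3, 2, 1, 3, 4, 3, 2, 1, 3, 2, 3, 5, 4, 3, 2, 1, 0, 3, 2, 1, 3, 4, 3], [0, 2, 3, 3]⟩,
  ⟨4, 5, 4, [4, 3, 2, 1, 3, 2, 3, 4, 3, 2, 1, 3, 2, 1, 3, 4, 3, 2, 1, 3, 2, 1, 3, 2, 1, 4, 3, 2, 3],
    [⟨3, [2, 0, 2, 0, 2, 0, 2], [3, 2]⟩, ⟨19, [2, 1, 2, 0, 2, 1, 2], [1, 1, 1]⟩,
    ⟨3, [2, 1, 2, 0, 2, 1, 2], [0, 1]⟩],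
    1, [1, 0, 3, 2, 1], [2, 0, 2, 1, 2, 0, 2]⟩,
  ⟨4, 8, 1, [1, 0, 3, 2, 1, 0],
    [⟨19, [2, 0, 2, 0, 2, 0, 2], [2, 1, 2, 0, 2, 1, 2]⟩, ⟨3, [2, 0, 2, 0, 2, 0, 2], [0, 1]⟩,
    ⟨19, [2, 1, 2, 0, 2, 1, 2], [1, 1, 1]⟩],
    4, [4, 3, 2, 1, 3, 2, 3, 4, 3, 2, 1, 3, 2, 1, 3, 4, 3, 2, 1, 3, 2, 1, 3, 2, 1, 4, 3, 2, 3], [1, 2, 3, 3]⟩]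

/-- Derivations. -/
def derivs3 : List Deriv :=
  [⟨1, 3, 4, [1, 4, 3, 2, 5, 4, 3, 2, 1, 3, 2, 3, 2, 1, 4, 3, 2, 1, 3, 2, 1, 4, 3, 2, 1, 3, 4],
    [⟨24, [1], [3, 2, 2, 3]⟩, ⟨14, [1], [0]⟩, ⟨22, [1, 1, 1], [2]⟩],
    2, [4, 3, 2, 1, 0, 3, 5, 4, 3, 2, 1, 3, 2, 1, 4, 3, 2, 1, 3, 2, 4, 3, 5, 4, 3, 2, 1, 3, 2, 3, 4], [0, 1, 0, 2, 1, 2, 1, 0, 2, 1, 2, 1, 0, 2, 1, 2]⟩,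
  ⟨1, 7, 4, [3, 4, 3, 5],
    [⟨24, [2, 0, 2, 1, 2, 0, 2], [0, 1, 3, 2]⟩, ⟨17, [2, 0, 2, 1, 2, 0, 2], []⟩,
    ⟨22, [2, 0, 2, 1, 2, 0, 2], [2]⟩],
    2, [4, 3, 2, 3, 2, 4], [1, 2, 1, 2, 1, 0, 2, 1, 2, 1, 2, 1, 0, 2, 1, 2, 1]⟩,
  ⟨3, 9, 1, [1, 0, 2, 3, 2, 1],
    [⟨12, [1, 1, 1], [1]⟩, ⟨13, [1, 1, 1], [0, 1, 0, 2, 1, 2, 1, 2, 1, 0, 2, 1, 2, 1]⟩,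
    ⟨7, [], [0, 1, 1]⟩, ⟨27, [], [0, 1]⟩],
    1, [1, 2, 1, 3, 2, 1, 3, 2], [0, 1]⟩,
  ⟨3, 9, 1, [1, 2, 1, 3, 2, 1, 0, 3, 2],
    [⟨26, [1, 1, 1], [0, 1, 1]⟩, ⟨18, [2, 0, 2, 0, 2, 0, 2], [3, 2, 2]⟩,
    ⟨12, [], [0, 2, 1, 2, 0, 2, 1, 2]⟩, ⟨13, [], [1, 0, 2, 1, 0, 2, 1, 2, 1, 2, 1, 0, 2, 1]⟩],
    1, [1, 0, 2, 3, 2, 1], []⟩,
  ⟨3, 13, 4, [4, 3, 2, 1, 3, 2, 3, 4, 3, 2, 1, 3, 2, 1, 3, 4, 3, 2, 1, 3, 2, 3, 2, 4],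
    [⟨29, [2, 0, 2, 1, 2, 0, 2], [3, 0, 2, 2]⟩,
    ⟨8, [1], [1, 2, 1, 0, 2, 1, 2, 1, 2, 1, 0, 2, 1, 2, 1, 0]⟩, ⟨24, [1, 1], []⟩,
    ⟨27, [1, 1], [0, 3, 0, 2, 2]⟩],
    1, [1, 2, 3, 2, 1, 3, 2], []⟩,
  ⟨3, 13, 3, [3, 2, 1, 0, 3, 4, 3, 2, 1, 3, 2, 1, 3, 4, 3, 2, 1, 3, 2, 3, 4, 3, 2, 1, 3, 2, 1, 3, 4, 3, 2, 1,
      0, 3, 2, 3, 4],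
    [⟨6, [1], [2]⟩, ⟨24, [], [0]⟩, ⟨18, [2, 0, 2, 1, 2, 0, 2], [3, 1, 2, 2]⟩,
    ⟨32, [1, 1, 1], [2, 1, 2, 0, 2, 1, 2]⟩],
    4, [1, 0, 2, 5, 4, 3, 2, 1, 3, 2, 4, 3, 2, 1, 0, 3, 2, 1, 4, 3, 2, 1, 3, 4], [0, 1, 2]⟩,
  ⟨3, 17, 1, [1, 2, 1, 0, 3, 2, 1],
    [⟨2, [2, 1, 2, 0, 2, 1, 2], [0, 2, 1, 2, 0, 2, 1, 2]⟩, ⟨15, [1, 1, 1], [1, 0, 2, 1, 0, 3, 3]⟩,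
    ⟨19, [2, 0, 2, 0, 2, 0, 2], [0, 2, 0, 2, 0, 2, 0, 2]⟩, ⟨33, [1], [3, 2, 2]⟩],
    3, [3, 2, 1, 0, 3, 4, 3, 2, 1, 3, 2, 3, 5, 4, 3, 2, 1, 3, 2, 3, 4, 3, 2, 1, 3, 2, 1, 3, 4, 3, 2, 1,
      3, 2, 3, 4], [3, 3]⟩,
  ⟨3, 5, 1, [1, 2, 3, 2, 1, 0, 3, 2],
    [⟨26, [1], [1]⟩, ⟨25, [1], [0, 2, 2, 3]⟩, ⟨9, [1, 1], []⟩,
    ⟨28, [1, 1], [0, 1, 2, 1, 2, 1, 2, 1, 0, 2]⟩],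
    4, [4, 3, 2, 1, 3, 2, 3, 4, 3, 2, 1, 3, 2, 1, 3, 4, 3, 2, 1, 3, 2, 3, 2, 4], [3, 2, 2, 3]⟩]

/-- Derivations. -/
def derivs4 : List Deriv :=
  [⟨3, 1, 1, [1, 2, 3, 2, 1, 0],
    [⟨30, [1, 1], [0, 1]⟩, ⟨32, [1], [1]⟩, ⟨35, [1, 1, 1], [0, 3, 1, 2, 2]⟩, ⟨31, [1, 1], [0]⟩],
    1, [1, 2, 3, 2, 1, 3, 2, 3, 2], [0, 1]⟩,
  ⟨4, 2, 1, [1, 2, 1, 3, 2, 1, 0],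
    [⟨31, [1, 1], [0]⟩, ⟨16, [1], [1]⟩, ⟨23, [1, 1, 1], [0, 3, 3]⟩],
    3, [3, 2, 1, 4, 3, 2, 1, 0, 3, 5, 4, 3, 2, 1, 3, 2, 1, 4, 3, 2, 1, 3, 2, 4, 3, 5, 4, 3, 2, 1, 3, 2,
      3, 4], [2, 1, 0, 3, 3]⟩,
  ⟨4, 0, 3, [3, 2, 1, 0, 4, 3, 2, 1, 3, 2, 4, 3, 2, 5, 4, 3, 2, 1, 3, 2, 3, 2, 1, 0, 4, 3, 2, 1, 3, 2, 3, 2,
      4, 3, 5, 4],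
    [⟨34, [1, 1, 1], [1, 0, 2, 3]⟩, ⟨36, [1], [1, 1, 1]⟩, ⟨26, [1, 1, 1], [0, 1, 1, 1]⟩],
    4, [1, 0, 2, 3, 4, 3, 5, 4, 3, 2, 1, 3, 2, 4, 3, 2, 1, 3, 2, 4, 3, 2, 1, 3, 2, 3, 4], [1, 3]⟩,
  ⟨4, 8, 4, [1, 0, 5, 4, 3, 2, 1, 3, 2, 3, 2, 4, 3, 2, 1, 3, 2, 4],
    [⟨38, [2, 0, 2, 0], [0, 3, 1, 3]⟩, ⟨37, [2, 0, 2, 0, 2, 0], [1, 2, 1]⟩,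
    ⟨12, [2, 1, 2, 0, 2, 1], [2, 1, 2, 0, 2, 1]⟩],
    2, [4, 3, 2, 1, 0, 3, 2, 3, 4, 3, 2, 1, 3, 2, 3, 5, 4, 3, 2, 1, 3, 2], [1, 0, 2, 1, 2, 1, 0, 2, 1, 0, 2, 1, 2, 1, 2, 1]⟩]

/-- All derivations. -/
def derivs : List Deriv :=
  derivs0 ++ derivs1 ++ derivs2 ++ derivs3 ++ derivs4

/-- The first equations, holding by definition. -/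
def startClaims : List Claim :=
  [⟨0, [], 1, []⟩, ⟨1, [3], 2, []⟩, ⟨1, [4], 3, []⟩, ⟨4, [], 1, [4, 3, 2, 3]⟩]

/-- The two sides of the coincidence. -/
def mergeStart : ℕ × List ℕ := (2, [4, 3, 2, 5, 4, 3, 2, 1, 0])

/-- The first side. -/
def mergeFirst : Use := ⟨39, [2, 0, 2], [0, 2, 1, 2, 1, 2, 1, 0, 2, 1, 2, 1, 2, 1, 0, 2]⟩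

/-- The second side. -/
def mergeSecond : Use := ⟨39, [2, 0, 2, 0], [0, 1, 2, 1, 2, 1, 0, 2, 1, 2, 1, 2, 1, 0, 2]⟩

/-- The new element as a product. -/
def mergeWitness : List ℕ := [3, 3, 1, 3, 4]

end CfsgLib.ONanP
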