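import Cfsg.Agent.Lib.ONanP.Pres

/-!
# Equations between cosets of the subgroup, with witnesses

An equation says that the further generator takes one coset, given by a root and a word in the
involutions, to another one.
-/

set_option autoImplicit false

namespace CfsgLib.ONanP

/-- The equation: the generator takes the coset `(a, u)` to `(b, v)`. -/
structure Claim where
  /-- The first root. -/
  a : ℕ
  /-- The first word. -/
  u : List ℕ
  /-- The second root. -/
  b : ℕ
  /-- The second word. -/
  v : List ℕ

/-- The use of an equation, translated and up to the stabiliser. -/
structure Use where
  /-- The number of the equation. -/
  k : ℕ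
  /-- The translating product. -/
  t : List ℕ
  /-- The stabilising product. -/
  s : List ℕ

/-- The derivation of an equation from a rotated relator. -/
structure Deriv where
  /-- The relator. -/
  rel : ℕ
  /-- The rotation. -/
  rot : ℕ
  /-- The root of the start. -/
  i0 : ℕ
  /-- The word of the start. -/
  w0 : List ℕ
  /-- The equations used. -/
  uses : List Use
  /-- The root of the end. -/
  i1 : ℕ
  /-- The word of the end. -/
  w1 : List ℕ
  /-- The stabilising product at the end. -/
  s : List ℕ

end CfsgLib.ONanP
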