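import Cfsg.Agent.Lib.ONanP.Equations
import Cfsg.Agent.Lib.ONanP.DedData

/-!
# The points are the cosets
-/

set_option autoImplicit false
set_option maxRecDepth 100000

namespace CfsgLib.ONanP

open CfsgLib.PresCert Cfsg.Spor

theorem root_walks : ∀ i < 5, tab.walk 0 (lead i) = orbitRoot i ∧ (∀ g ∈ lead i, g < 8) := by
  decide +kernel

theorem level_gens :
    levels1.all (fun l => l.gens.all fun w => edgeWords.contains w) = true ∧
    levels2.all (fun l => l.gens.all fun w => wordsFix2.contains w) = true ∧
    levels3.all (fun l => l.gens.all fun w => wordsFix3.contains w) = true ∧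
    levels4.all (fun l => l.gens.all fun w => (wordsSmall ++ [wordSeven]).contains w) = true := by
  decide +kernel

theorem stab_fix {i : ℕ} (hi : i < 5) {m : Cfsg.Spor.ON} (hm : m ∈ subH)
    (hp : phi m (rootPt i) = rootPt i) : m • cr i = cr i := by
  obtain ⟨l1, l2, l3, l4, p1, p2, p3, p4, -⟩ := levels_checks
  obtain ⟨g1, g2, g3, g4⟩ := level_gens
  obtain ⟨-, c1, c2, c3, c4⟩ := counts
  have key : ∀ {k c s : ℕ} {ls : List Fast.Level} {L : List (List ℕ)}, k < 5 →
      Fast.levelsOk tabH [orbitRoot k] ls = true →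
      (ls.map fun l => l.pts.length).prod = s → orbitCount k = c → c * s = 3753792 → 0 < c →
      ls.all (fun l => l.gens.all fun w => L.contains w) = true →
      (∀ w ∈ L, act gen w • cr k = cr k) → phi m (rootPt k) = rootPt k → m • cr k = cr k := by
    intro k c s ls L hk hls hprod hc hcs h0 hg hfix hp'
    have hmem := stab_le (S := MulAction.stabilizer Cfsg.Spor.ON (cr k)) hk hls hprod hc hcs h0
      (fun l hl w hw => hfix w (List.contains_iff_mem.1
        (List.all_eq_true.1 (List.all_eq_true.1 hg l hl) w hw))) hm hp'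
    exact hmem
  interval_cases i
  · show m • (act gen (lead 0) • x₀) = act gen (lead 0) • x₀
    rw [show lead 0 = [] from rfl, act_nil, one_smul]
    exact x₀_fix hm
  · exact key (by norm_num) l1 p1 c1 (by norm_num) (by norm_num) g1
      (fun w hw => fixWords_fix (i := 1) (by norm_num) hw) hp
  · exact key (by norm_num) l2 p2 c2 (by norm_num) (by norm_num) g2
      (fun w hw => fixWords_fix (i := 2) (by norm_num) hw) hp
  · exact key (by norm_num) l3 p3 c3 (by norm_num) (by norm_num) g3
      (fun w hw => fixWords_fix (i := 3) (by norm_num) hw) hp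
  · refine key (by norm_num) l4 p4 c4 (by norm_num) (by norm_num) g4 (fun w hw => ?_) hp
    rcases List.mem_append.1 hw with hw | hw
    · exact fixWords_fix (i := 4) (by norm_num) hw
    · rw [List.mem_singleton.1 hw]; exact seven_fix

/-- The coset of a point. -/
noncomputable def cp (p : Fin tab.n) : Coset :=
  Classical.choose (orbit_reach p) • cr (orbitLab p.val)

theorem cp_spec {p : Fin tab.n} {m : Cfsg.Spor.ON} (hm : m ∈ subH) {i : ℕ} (hi : i < 5)
    (hp : phi m (rootPt i) = p) : cp p = m • cr i := by
  have hlab : orbitLab p.val = i := by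
    rw [← hp, orbit_invariant hm, rootPt_val hi, (orbitRoot_lt i hi).2]
  obtain ⟨h1, h2⟩ := Classical.choose_spec (orbit_reach p)
  simp only [cp]
  generalize Classical.choose (orbit_reach p) = m' at h1 h2
  rw [hlab] at h2 ⊢
  have hs := stab_fix hi (mul_mem (inv_mem hm) h1) (by
    rw [map_mul, Equiv.Perm.mul_apply, h2, ← hp, ← Equiv.Perm.mul_apply, ← map_mul,
      inv_mul_cancel, map_one, Equiv.Perm.one_apply])
  rw [mul_smul, inv_smul_eq_iff] at hs
  exact hs

theorem cp_smul {m : Cfsg.Spor.ON} (hm : m ∈ subH) (p : Fin tab.n) : cp (phi m p) = m • cp p := by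
  obtain ⟨m', hm', e⟩ := orbit_reach p
  have hl : orbitLab p.val < 5 := (orbit_spec p.isLt).1
  rw [cp_spec (p := phi m p) (mul_mem hm hm') hl (by rw [map_mul, Equiv.Perm.mul_apply, e]),
    cp_spec hm' hl e, mul_smul]

/-- The generator respects the coset of a target. -/
def Known (z : Fin tab.n) : Prop := cp z = gen 6 • cp (phi (gen 7) z)

theorem known_move {s t : Cfsg.Spor.ON} (hs : s ∈ subH) (ht : t ∈ subH)
    (h : gen 6 * t = s * gen 6) {z : Fin tab.n} (hz : Known z) : Known (phi s z) := by
  have h7 : gen 7 = (gen 6)⁻¹ := gen_invIx (i := 6) (by norm_num)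
  have e : gen 7 * s = t * gen 7 := by
    rw [h7, eq_mul_inv_iff_mul_eq, mul_assoc, ← h, inv_mul_cancel_left]
  rw [Known] at hz ⊢
  rw [← Equiv.Perm.mul_apply (phi (gen 7)), ← map_mul, e, map_mul, Equiv.Perm.mul_apply,
    cp_smul ht, ← mul_smul, h, mul_smul, ← hz, cp_smul hs]

theorem known_edge {j : ℕ} (hj : j < 3) {z : Fin tab.n} :
    Known (phi (act gen (edgeWords.getD j [])) z) ↔ Known z := by
  obtain ⟨ht, he, -, -⟩ := twist_checks.2.2 j hj
  refine ⟨fun h => ?_, known_move (act_mem_subH he) (act_mem_subH ht) (twist_one hj)⟩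
  have h' : gen 6 * (act gen (twistWords.getD j []))⁻¹ =
      (act gen (edgeWords.getD j []))⁻¹ * gen 6 := by
    rw [eq_inv_mul_iff_mul_eq, ← mul_assoc, ← twist_one hj, mul_inv_cancel_right]
  have := known_move (inv_mem (act_mem_subH he)) (inv_mem (act_mem_subH ht)) h' h
  rwa [← Equiv.Perm.mul_apply, ← map_mul, inv_mul_cancel, map_one, Equiv.Perm.one_apply] at this

/-- A point from a number. -/
noncomputable def ptN (i : ℕ) : Fin tab.n :=
  if h : i < tab.n then ⟨i, h⟩ else ⟨0, show 0 < 122760 by norm_num⟩

theorem ptN_val {i : ℕ} (h : i < 122760) : (ptN i).val = i := by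
  rw [ptN, dif_pos (show i < tab.n from h)]

theorem ptN_self (p : Fin tab.n) : ptN p.val = p := Fin.ext (ptN_val p.isLt)

theorem known_class {p : ℕ} (hp : p < 122760) :
    Known (ptN p) ↔ Known (ptN (edgeRoot (edgeLab p))) := by
  suffices ∀ d, ∀ p, p < 122760 → edgeDepth p = d →
      (Known (ptN p) ↔ Known (ptN (edgeRoot (edgeLab p)))) from this _ p hp rfl
  intro d
  induction d using Nat.strong_induction_on with
  | h d ih =>
    intro p hp hd
    rcases (edge_spec hp).2 with h0 | ⟨j, hj, q, hq, hlt, hl, e⟩
    · rw [← h0]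
    · have hmove : phi (act gen (edgeWords.getD j [])) (ptN q) = ptN p := by
        refine Fin.ext ?_
        rw [phi_act (fun g hg => lt_trans ((twist_checks.2.2 j hj).2.1 g hg) (by norm_num)),
          ptN_val hq, ptN_val hp]
        exact e
      rw [← hmove, known_edge hj, ih _ (hd ▸ hlt) q hq rfl, hl]

/-- The class of the edge of a letter at a point. -/
noncomputable def edgeOf (g p : ℕ) : ℕ :=
  if Nat.beq g 6 then edgeLab (tab.img 6 p) else edgeLab p

/-- The classes known from the equations. -/
noncomputable def claimMask : List Claim → ℕ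
  | [] => 0
  | c :: cs => claimMask cs ||| 2 ^ edgeLab (tab.walk (orbitRoot c.b) c.v)

/-- The equations match the table. -/
noncomputable def claimsOk (cs : List Claim) : Bool :=
  cs.all fun c => Nat.blt c.a 5 && Nat.blt c.b 5 && c.u.all (fun g => Nat.blt g 6) &&
    c.v.all (fun g => Nat.blt g 6) &&
    Nat.beq (tab.img 7 (tab.walk (orbitRoot c.b) c.v)) (tab.walk (orbitRoot c.a) c.u)

/-- A walk along known edges. -/
noncomputable def walkKnown (m : ℕ) : ℕ → List ℕ → Option ℕ
  | p, [] => some p
  | p, g :: w =>
    if Nat.blt g 6 || (Nat.blt g 8 && m.testBit (edgeOf g p)) then walkKnown m (tab.img g p) w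
    else none

/-- One deduction. -/
noncomputable def dedStep (m : ℕ) (e : ℕ × ℕ × ℕ) : Option ℕ :=
  let w := (genRels.getD e.1 []).rotate e.2.1
  match w.getLast? with
  | none => none
  | some g =>
    if Nat.blt e.2.2 122760 then
      match walkKnown m e.2.2 w.dropLast with
      | some p => if Nat.beq g 6 || Nat.beq g 7 then some (m ||| 2 ^ edgeOf g p) else none
      | none => none
    else none

/-- All deductions. -/
noncomputable def dedRun : ℕ → List (ℕ × ℕ × ℕ) → Option ℕ
  | m, [] => some m
  | m, e :: l => match dedStep m e with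
    | some m' => dedRun m' l
    | none => none

/-- The classes in the mask are known. -/
def MaskOk (m : ℕ) : Prop := ∀ p, p < 122760 → m.testBit (edgeLab p) = true → Known (ptN p)

theorem maskOk_or {m : ℕ} (hm : MaskOk m) {z : Fin tab.n} (hz : Known z) :
    MaskOk (m ||| 2 ^ edgeLab z.val) := by
  intro p hp h
  rw [Nat.testBit_or, Bool.or_eq_true] at h
  rcases h with h | h
  · exact hm p hp h
  · rw [Nat.testBit_two_pow, decide_eq_true_eq] at h
    rw [known_class hp, ← h, ← known_class z.isLt, ptN_self]
    exact hz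

theorem claim_known {c : Claim} (hc : c.Holds) (h : claimsOk [c] = true) :
    Known (ptN (tab.walk (orbitRoot c.b) c.v)) ∧
      tab.walk (orbitRoot c.b) c.v < 122760 := by
  simp only [claimsOk, List.all_cons, List.all_nil, Bool.and_true, Bool.and_eq_true,
    Nat.blt_eq, List.all_eq_true, Nat.beq_eq] at h
  obtain ⟨⟨⟨⟨ha, hb⟩, hu⟩, hv⟩, he⟩ := h
  have hu8 : ∀ g ∈ c.u, g < 8 := fun g hg => lt_trans (hu g hg) (by norm_num)
  have hv8 : ∀ g ∈ c.v, g < 8 := fun g hg => lt_trans (hv g hg) (by norm_num)
  have hz := walk_lt hv8 (orbitRoot_lt c.b hb).1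
  refine ⟨?_, hz⟩
  have e1 : phi (act gen c.v) (rootPt c.b) = ptN (tab.walk (orbitRoot c.b) c.v) := by
    refine Fin.ext ?_
    rw [phi_act hv8, rootPt_val hb, ptN_val hz]
  have e2 : phi (act gen c.u) (rootPt c.a) = phi (gen 7) (ptN (tab.walk (orbitRoot c.b) c.v)) := by
    refine Fin.ext ?_
    rw [phi_act hu8, rootPt_val ha, realised.app 7 (show 7 < 8 by norm_num), ptN_val hz, he]
  rw [Known, cp_spec (act_mem_subH hv) hb e1, cp_spec (act_mem_subH hu) ha e2]
  exact hc.symm

theorem maskOk_claims : ∀ {cs : List Claim}, (∀ c ∈ cs, c.Holds) → claimsOk cs = true →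
    MaskOk (claimMask cs)
  | [], _, _ => fun p _ h => by simp [claimMask] at h
  | c :: cs, hcs, hok => by
    have hok' : claimsOk [c] = true ∧ claimsOk cs = true := by
      simp only [claimsOk, List.all_cons, Bool.and_eq_true] at hok
      exact ⟨by simpa [claimsOk] using hok.1, hok.2⟩
    obtain ⟨hk, hz⟩ := claim_known (hcs c (by simp)) hok'.1
    have := maskOk_or (maskOk_claims (fun x hx => hcs x (by simp [hx])) hok'.2) hk
    rwa [ptN_val hz] at this

theorem known_img {g p : ℕ} (hg : g < 8) (hp : p < 122760)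
    (hk : g < 6 ∨ Known (ptN (if g = 6 then tab.img 6 p else p))) :
    cp (ptN (tab.img g p)) = gen g • cp (ptN p) := by
  have hq := (img_ok hg hp).1
  have himg : phi (gen g) (ptN p) = ptN (tab.img g p) := by
    refine Fin.ext ?_
    rw [realised.app g hg, ptN_val hp, ptN_val hq]
  have h7 : gen 7 = (gen 6)⁻¹ := gen_invIx (i := 6) (by norm_num)
  by_cases h6 : g < 6
  · rw [← himg, cp_smul (gen_mem_subH h6)]
  · have hk := hk.resolve_left h6
    by_cases e : g = 6
    · subst e
      rw [if_pos rfl, Known, ← himg, ← Equiv.Perm.mul_apply, ← map_mul, h7, inv_mul_cancel,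
        map_one, Equiv.Perm.one_apply] at hk
      rw [← himg]
      exact hk
    · obtain rfl : g = 7 := by omega
      rw [if_neg (by norm_num), Known, himg] at hk
      rw [hk, h7, inv_smul_smul]

theorem edgeOf_known {m g p : ℕ} (hm : MaskOk m) (hg : g < 8) (hp : p < 122760)
    (h : m.testBit (edgeOf g p) = true) : Known (ptN (if g = 6 then tab.img 6 p else p)) := by
  rw [edgeOf] at h
  by_cases e : g = 6
  · rw [if_pos e]
    subst e
    exact hm _ (img_ok hg hp).1 (by simpa using h)
  · rw [if_neg e]
    have : Nat.beq g 6 = false := by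
      cases hb : Nat.beq g 6
      · rfl
      · exact absurd (Nat.beq_eq.mp hb) e
    rw [this] at h
    exact hm p hp (by simpa using h)

theorem walkKnown_sound {m : ℕ} (hm : MaskOk m) : ∀ {w : List ℕ} {p p' : ℕ}, p < 122760 →
    walkKnown m p w = some p' → p' < 122760 ∧ tab.walk p w = p' ∧ (∀ g ∈ w, g < 8) ∧
      cp (ptN p') = act gen w • cp (ptN p)
  | [], p, p', hp, h => by
    simp only [walkKnown] at h
    obtain rfl := Option.some.inj h
    exact ⟨hp, rfl, by simp, by rw [act_nil, one_smul]⟩
  | g :: w, p, p', hp, h => by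
    simp only [walkKnown] at h
    split_ifs at h with hc
    simp only [Bool.or_eq_true, Bool.and_eq_true, Nat.blt_eq] at hc
    have hg : g < 8 := by rcases hc with h | h <;> omega
    obtain ⟨a, b, c, d⟩ := walkKnown_sound hm (img_ok hg hp).1 h
    refine ⟨a, b, fun x hx => ?_, ?_⟩
    · rcases List.mem_cons.1 hx with rfl | hx
      exacts [hg, c x hx]
    · rw [d, known_img hg hp (hc.imp id fun h => edgeOf_known hm hg hp h.2), act_cons, mul_smul]

theorem dedStep_sound {m m' : ℕ} {e : ℕ × ℕ × ℕ} (hm : MaskOk m) (h : dedStep m e = some m') :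
    MaskOk m' := by
  simp only [dedStep] at h
  split at h
  · simp at h
  rename_i g hlast
  split at h
  swap
  · simp at h
  rename_i hy
  rw [Nat.blt_eq] at hy
  split at h
  swap
  · simp at h
  rename_i p hwalk
  split_ifs at h with hg
  obtain rfl := Option.some.inj h
  simp only [Bool.or_eq_true, Nat.beq_eq] at hg
  have hg8 : g < 8 := by omega
  obtain ⟨hp, hw, hlet, hcp⟩ := walkKnown_sound hm hy hwalk
  set w := (genRels.getD e.1 []).rotate e.2.1 with hwdef
  have hone : act gen w = 1 := rotated_one e.1 e.2.1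
  have hsplit : w = w.dropLast ++ [g] := (List.dropLast_append_getLast? g hlast).symm
  rw [hsplit, act_append, act_cons, act_nil, one_mul] at hone
  have himg : phi (gen g) (ptN p) = ptN e.2.2 := by
    have := congrArg (fun x => phi x (ptN e.2.2)) hone
    simp only [map_mul, Equiv.Perm.mul_apply, map_one, Equiv.Perm.one_apply] at this
    have e1 : phi (act gen w.dropLast) (ptN e.2.2) = ptN p := by
      refine Fin.ext ?_
      rw [phi_act hlet, ptN_val hy, ptN_val hp, hw]
    rwa [e1] at this
  have hc : cp (ptN e.2.2) = gen g • cp (ptN p) := by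
    rw [hcp, ← mul_smul, hone, one_smul]
  have himgN : tab.img g p = e.2.2 := by
    have := congrArg Fin.val himg
    rwa [realised.app g hg8, ptN_val hp, ptN_val hy] at this
  rcases hg with rfl | rfl
  · rw [edgeOf, if_pos (Nat.beq_eq.mpr rfl), himgN]
    have hk : Known (ptN e.2.2) := by
      rw [Known, ← himg, ← Equiv.Perm.mul_apply, ← map_mul,
        show gen 7 = (gen 6)⁻¹ from gen_invIx (i := 6) (by norm_num), inv_mul_cancel, map_one,
        Equiv.Perm.one_apply, himg]
      exact hc
    have := maskOk_or hm hk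
    rwa [ptN_val hy] at this
  · rw [edgeOf, if_neg (by decide)]
    have hk : Known (ptN p) := by
      rw [Known, himg, hc, ← mul_smul,
        show gen 7 = (gen 6)⁻¹ from gen_invIx (i := 6) (by norm_num), mul_inv_cancel, one_smul]
    have := maskOk_or hm hk
    rwa [ptN_val hp] at this

theorem dedRun_sound : ∀ {l : List (ℕ × ℕ × ℕ)} {m m' : ℕ}, MaskOk m → dedRun m l = some m' →
    MaskOk m'
  | [], m, m', hm, h => by
    simp only [dedRun] at h
    obtain rfl := Option.some.inj h
    exact hm
  | e :: l, m, m', hm, h => by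
    simp only [dedRun] at h
    split at h
    · rename_i m1 e1
      exact dedRun_sound (dedStep_sound hm e1) h
    · simp at h

/-- All deductions close all classes. -/
noncomputable def closeOk : Bool :=
  match build derivs startClaims with
  | some cs =>
    claimsOk cs &&
      match dedRun (claimMask cs) dedLists.flatten with
      | some m => Nat.beq m (2 ^ 2076 - 1)
      | none => false
  | none => false

theorem close_checks : closeOk = true := by decide +kernel

/-- The generator respects all cosets. -/
theorem all_known (z : Fin tab.n) : Known z := by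
  have h := close_checks
  rw [closeOk] at h
  split at h
  swap
  · simp at h
  rename_i cs hb
  rw [Bool.and_eq_true] at h
  obtain ⟨hok, h⟩ := h
  split at h
  swap
  · simp at h
  rename_i m hm
  rw [Nat.beq_eq] at h
  have hmask := dedRun_sound (maskOk_claims (build_sound start_holds hb) hok) hm
  rw [← ptN_self z]
  refine hmask _ z.isLt ?_
  rw [h, Nat.testBit_two_pow_sub_one, decide_eq_true_eq]
  exact (edge_spec z.isLt).1

end CfsgLib.ONanP
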