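import Cfsg.Agent.Lib.ONanP.ForFun

/-!
# The sizes of the five orbits
-/

set_option autoImplicit false
set_option maxRecDepth 100000

namespace CfsgLib.ONanP

/-- The number of points with a label. -/
noncomputable def orbitCount (k : Nat) : Nat :=
  ((List.range 122760).filter fun q => Nat.beq (orbitLab q) k).length

theorem orbitCount_values :
    [orbitCount 0, orbitCount 1, orbitCount 2, orbitCount 3, orbitCount 4] =
      [1, 58653, 5586, 52136, 6384] := by
  decide +kernel

end CfsgLib.ONanP
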