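import Cfsg.Agent.Lib.ONanP.Goals
import Cfsg.Agent.Lib.ONanP.ClaimData

/-!
# The derived equations and the element of order 7 fixing the last root
-/

set_option autoImplicit false
set_option maxRecDepth 100000

namespace CfsgLib.ONanP

open CfsgLib.PresCert Cfsg.Spor

/-- A coset given by a root and a word. -/
def pos (i : ℕ) (w : List ℕ) : Coset := act gen w • cr i

/-- The equation holds. -/
def Claim.Holds (c : Claim) : Prop := gen 6 • pos c.a c.u = pos c.b c.v

/-- The word of a stabilising product. -/
def stabWord (i : ℕ) (s : List ℕ) : List ℕ := if i = 0 then s else flatW (fixWords i) s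

/-- The stabilising product is allowed. -/
def stabOk (i : ℕ) (s : List ℕ) : Bool :=
  Nat.blt i 5 && (decide (i ≠ 0) || s.all fun g => Nat.blt g 6)

/-- Two words give the same element of the subgroup. -/
noncomputable def eqB (u v : List ℕ) : Bool :=
  u.all (fun g => Nat.blt g 6) && v.all (fun g => Nat.blt g 6) &&
    base.all fun b => Nat.beq (tab.walk b u) (tab.walk b v)

theorem eqB_sound {u v : List ℕ} (h : eqB u v = true) :
    act gen u = act gen v ∧ (∀ g ∈ u, g < 6) ∧ ∀ g ∈ v, g < 6 := by
  simp only [eqB, Bool.and_eq_true, List.all_eq_true, Nat.blt_eq, Nat.beq_eq] at h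
  obtain ⟨⟨hu, hv⟩, hb⟩ := h
  refine ⟨eq_of_base (act_mem_subH hu) (act_mem_subH hv) fun i hi => Fin.ext ?_, hu, hv⟩
  rw [phi_act (fun g hg => lt_trans (hu g hg) (by norm_num)),
    phi_act (fun g hg => lt_trans (hv g hg) (by norm_num))]
  exact hb _ hi

theorem stab_sound {i : ℕ} {s : List ℕ} (h : stabOk i s = true) :
    act gen (stabWord i s) • cr i = cr i := by
  simp only [stabOk, Bool.and_eq_true, Nat.blt_eq, Bool.or_eq_true, decide_eq_true_eq,
    List.all_eq_true] at h
  obtain ⟨hi, h⟩ := h
  by_cases h0 : i = 0
  · subst h0
    rw [stabWord, if_pos rfl]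
    show act gen s • (act gen (lead 0) • x₀) = act gen (lead 0) • x₀
    rw [show lead 0 = [] from rfl, act_nil, one_smul]
    exact x₀_fix (act_mem_subH (h.resolve_left (by simp)))
  · rw [stabWord, if_neg h0]
    exact flat_fix (fun w hw => fixWords_fix hi hw) s

/-- The translated start of an equation. -/
def Claim.src (c : Claim) (t : List ℕ) : List ℕ := c.u ++ flatW twistWords t

/-- The translated end of an equation. -/
def Claim.dst (c : Claim) (t : List ℕ) : List ℕ := c.v ++ flatW edgeWords t

theorem Claim.translate {c : Claim} (hc : c.Holds) {t : List ℕ} (ht : ∀ j ∈ t, j < 3) :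
    gen 6 • pos c.a (c.src t) = pos c.b (c.dst t) := by
  simp only [pos, Claim.src, Claim.dst, act_append, mul_smul]
  rw [← mul_smul (gen 6), twist_flat ht, mul_smul]
  exact congrArg _ hc

/-- The equation with the given number. -/
def claimAt (cs : List Claim) (k : ℕ) : Claim := cs.getD k ⟨0, [], 0, []⟩

/-- One step by the generator or its inverse, using an equation. -/
noncomputable def useStep (cs : List Claim) (st : ℕ × List ℕ) (g : ℕ) (x : Use) :
    Option (ℕ × List ℕ) :=
  if Nat.blt x.k cs.length && x.t.all (fun j => Nat.blt j 3) && stabOk st.1 x.s then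
    if Nat.beq g 6 && Nat.beq (claimAt cs x.k).a st.1 &&
        eqB (stabWord st.1 x.s ++ (claimAt cs x.k).src x.t) st.2 then
      some ((claimAt cs x.k).b, (claimAt cs x.k).dst x.t)
    else if Nat.beq g 7 && Nat.beq (claimAt cs x.k).b st.1 &&
        eqB (stabWord st.1 x.s ++ (claimAt cs x.k).dst x.t) st.2 then
      some ((claimAt cs x.k).a, (claimAt cs x.k).src x.t)
    else none
  else none

theorem claimAt_mem {cs : List Claim} {k : ℕ} (hk : k < cs.length) : claimAt cs k ∈ cs := by
  rw [claimAt, List.getD_eq_getElem _ _ hk]
  exact List.getElem_mem hk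

theorem useStep_sound {cs : List Claim} (hcs : ∀ c ∈ cs, c.Holds) {st st' : ℕ × List ℕ} {g : ℕ}
    {x : Use} (h : useStep cs st g x = some st') :
    gen g • pos st.1 st.2 = pos st'.1 st'.2 := by
  rw [useStep] at h
  split_ifs at h with h0 h1 h2
  all_goals simp only [Bool.and_eq_true, Nat.blt_eq, List.all_eq_true, Nat.beq_eq] at h0
  all_goals obtain ⟨⟨hk, ht⟩, hs⟩ := h0
  all_goals have hc : (claimAt cs x.k).Holds := hcs _ (claimAt_mem hk)
  all_goals have tr := Claim.translate hc ht
  · simp only [Bool.and_eq_true, Nat.beq_eq] at h1
    obtain ⟨⟨rfl, ha⟩, he⟩ := h1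
    obtain rfl := Option.some.inj h
    have e : pos st.1 st.2 = pos (claimAt cs x.k).a ((claimAt cs x.k).src x.t) := by
      rw [pos, ← (eqB_sound he).1, act_append, mul_smul, stab_sound hs, pos, ha]
    rw [e, tr]
  · simp only [Bool.and_eq_true, Nat.beq_eq] at h2
    obtain ⟨⟨rfl, ha⟩, he⟩ := h2
    obtain rfl := Option.some.inj h
    have e : pos st.1 st.2 = pos (claimAt cs x.k).b ((claimAt cs x.k).dst x.t) := by
      rw [pos, ← (eqB_sound he).1, act_append, mul_smul, stab_sound hs, pos, ha]
    rw [e, show gen 7 = (gen 6)⁻¹ from gen_invIx (i := 6) (by norm_num), inv_smul_eq_iff, tr]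

/-- A walk through a word, using equations at the generator. -/
noncomputable def runWord (cs : List Claim) : ℕ × List ℕ → List ℕ → List Use → Option (ℕ × List ℕ)
  | st, [], _ => some st
  | st, g :: w, us =>
    if Nat.blt g 6 then runWord cs (st.1, st.2 ++ [g]) w us
    else match us with
      | [] => none
      | x :: us =>
        match useStep cs st g x with
        | some st' => runWord cs st' w us
        | none => none

theorem runWord_sound {cs : List Claim} (hcs : ∀ c ∈ cs, c.Holds) :
    ∀ {w : List ℕ} {us : List Use} {st st' : ℕ × List ℕ}, runWord cs st w us = some st' →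
      act gen w • pos st.1 st.2 = pos st'.1 st'.2
  | [], us, st, st', h => by
    simp only [runWord] at h
    obtain rfl := Option.some.inj h
    rw [act_nil, one_smul]
  | g :: w, us, st, st', h => by
    rw [act_cons, mul_smul]
    simp only [runWord] at h
    split_ifs at h with hg
    · rw [← runWord_sound hcs h, pos, pos, act_append, mul_smul, act_cons, act_nil, one_mul]
    · cases us with
      | nil => simp at h
      | cons x us =>
        simp only at h
        split at h
        · rename_i st1 e
          rw [useStep_sound hcs e]
          exact runWord_sound hcs h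
        · simp at h

/-- The relators with the generator. -/
def genRels : List (List ℕ) := (certGRels.filter fun w => w.any fun g => Nat.blt 5 g)

/-- The equation obtained by one derivation. -/
noncomputable def derive (cs : List Claim) (d : Deriv) : Option Claim :=
  let w := (genRels.getD d.rel []).rotate d.rot
  match w.getLast? with
  | none => none
  | some g =>
    match runWord cs (d.i0, d.w0) w.dropLast d.uses with
    | none => none
    | some st =>
      if Nat.beq st.1 d.i1 && stabOk st.1 d.s && eqB (stabWord st.1 d.s ++ d.w1) st.2 then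
        if Nat.beq g 6 then some ⟨d.i1, d.w1, d.i0, d.w0⟩
        else if Nat.beq g 7 then some ⟨d.i0, d.w0, d.i1, d.w1⟩ else none
      else none

theorem genRels_one : ∀ w ∈ genRels, act gen w = 1 := by
  intro w hw
  have h := List.all_eq_true.1 certG_words.2.1 w (List.mem_filter.1 hw).1
  simp only [Bool.and_eq_true, List.contains_iff_mem] at h
  exact rels_one h.2

theorem rotated_one (i k : ℕ) : act gen ((genRels.getD i []).rotate k) = 1 := by
  refine act_rotate ?_ _
  by_cases hl : i < genRels.length
  · rw [List.getD_eq_getElem _ _ hl]
    exact genRels_one _ (List.getElem_mem hl)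
  · rw [List.getD_eq_default _ _ (Nat.le_of_not_lt hl), act_nil]

theorem derive_sound {cs : List Claim} (hcs : ∀ c ∈ cs, c.Holds) {d : Deriv} {c : Claim}
    (h : derive cs d = some c) : c.Holds := by
  simp only [derive] at h
  split at h
  · simp at h
  rename_i g hlast
  split at h
  · simp at h
  rename_i st hrun
  split_ifs at h with h0 h6 h7
  all_goals simp only [Bool.and_eq_true, Nat.beq_eq] at h0
  all_goals obtain ⟨⟨hi, hs⟩, he⟩ := h0
  all_goals obtain rfl := Option.some.inj h
  all_goals set w := (genRels.getD d.rel []).rotate d.rot with hw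
  all_goals have hone : act gen w = 1 := rotated_one d.rel d.rot
  all_goals have hsplit : w = w.dropLast ++ [g] := (List.dropLast_append_getLast? g hlast).symm
  all_goals
    have key : gen g • pos d.i1 d.w1 = pos d.i0 d.w0 := by
      have e1 := runWord_sound hcs hrun
      have e2 : pos st.1 st.2 = pos d.i1 d.w1 := by
        rw [pos, ← (eqB_sound he).1, act_append, mul_smul, stab_sound hs, pos, hi]
      rw [hsplit, act_append, act_cons, act_nil, one_mul] at hone
      rw [← e2, ← e1, ← mul_smul, hone, one_smul]
  · simp only [Nat.beq_eq] at h6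
    subst h6
    exact key
  · simp only [Nat.beq_eq] at h7
    subst h7
    rw [show gen 7 = (gen 6)⁻¹ from gen_invIx (i := 6) (by norm_num), inv_smul_eq_iff] at key
    exact key.symm

/-- All derivations in order. -/
noncomputable def build : List Deriv → List Claim → Option (List Claim)
  | [], cs => some cs
  | d :: ds, cs =>
    match derive cs d with
    | some c => build ds (cs ++ [c])
    | none => none

theorem build_sound : ∀ {ds : List Deriv} {cs cs' : List Claim}, (∀ c ∈ cs, c.Holds) →
    build ds cs = some cs' → ∀ c ∈ cs', c.Holds
  | [], cs, cs', hcs, h => by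
    simp only [build] at h
    obtain rfl := Option.some.inj h
    exact hcs
  | d :: ds, cs, cs', hcs, h => by
    simp only [build] at h
    split at h
    · rename_i c e
      refine build_sound (fun x hx => ?_) h
      rcases List.mem_append.1 hx with hx | hx
      · exact hcs x hx
      · rw [List.mem_singleton.1 hx]; exact derive_sound hcs e
    · simp at h

/-- An equation true by the definition of the roots. -/
def startOk (c : Claim) : Bool :=
  (decide (c.v = []) && decide (lead c.b = lead c.a ++ c.u ++ [6])) ||
    (decide (c.u = []) && decide (lead c.a = lead c.b ++ c.v ++ [7]))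

theorem start_holds : ∀ c ∈ startClaims, c.Holds := by
  intro c hc
  have h : startClaims.all startOk = true := by decide +kernel
  have h' := List.all_eq_true.1 h c hc
  simp only [startOk, Bool.or_eq_true, Bool.and_eq_true, decide_eq_true_eq] at h'
  rcases h' with ⟨hv, he⟩ | ⟨hu, he⟩
  · simp only [Claim.Holds, pos, hv, act_nil, one_smul, cr, he, act_append, act_cons,
      one_mul, mul_smul]
  · simp only [Claim.Holds, pos, hu, act_nil, one_smul, cr, he, act_append, act_cons,
      one_mul, mul_smul]
    rw [show gen 7 = (gen 6)⁻¹ from gen_invIx (i := 6) (by norm_num), smul_inv_smul]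

/-- The two sides of the coincidence give the new element. -/
noncomputable def mergeOk (cs : List Claim) : Bool :=
  match runWord cs mergeStart [6] [mergeFirst], runWord cs mergeStart [6] [mergeSecond] with
  | some p, some q => Nat.beq p.1 4 && Nat.beq q.1 4 && q.2.all (fun g => Nat.blt g 6) &&
      eqB (flatW (wordsSmall ++ [p.2 ++ q.2.reverse]) mergeWitness) wordSeven
  | _, _ => false

theorem build_checks : (match build derivs startClaims with
    | some cs => mergeOk cs
    | none => false) = true := by
  decide +kernel

/-- The element of order 7 fixes the last root. -/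
theorem seven_fix : act gen wordSeven • cr 4 = cr 4 := by
  have h := build_checks
  split at h
  swap
  · simp at h
  rename_i cs hb
  have hcs := build_sound start_holds hb
  simp only [mergeOk] at h
  split at h
  swap
  · simp at h
  rename_i p q hp hq
  simp only [Bool.and_eq_true, Nat.beq_eq, List.all_eq_true, Nat.blt_eq] at h
  obtain ⟨⟨⟨p4, q4⟩, q6⟩, he⟩ := h
  have e := (runWord_sound hcs hp).symm.trans (runWord_sound hcs hq)
  rw [p4, q4, pos, pos] at e
  rw [← (eqB_sound he).1]
  refine flat_fix (fun w hw => ?_) _
  rcases List.mem_append.1 hw with hw | hw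
  · exact fixWords_fix (i := 4) (by norm_num) hw
  · rw [List.mem_singleton.1 hw, act_append, act_reverse (ng := 6) (fun g hg => gen_sq hg) q6,
      mul_smul, inv_smul_eq_iff, e]

end CfsgLib.ONanP
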