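import Cfsg.Agent.Lib.ONanP.ForFun

/-!
# Checks of the forests, part 0
-/

set_option autoImplicit false
set_option maxRecDepth 100000

namespace CfsgLib.ONanP

theorem orbitBlock0 : orbitBlock 0 = true := by decide +kernel

theorem edgeBlock0 : edgeBlock 0 = true := by decide +kernel

theorem orbitBlock1 : orbitBlock 1 = true := by decide +kernel

theorem edgeBlock1 : edgeBlock 1 = true := by decide +kernel

theorem orbitBlock2 : orbitBlock 2 = true := by decide +kernel

theorem edgeBlock2 : edgeBlock 2 = true := by decide +kernel

theorem orbitBlock3 : orbitBlock 3 = true := by decide +kernel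

theorem edgeBlock3 : edgeBlock 3 = true := by decide +kernel

theorem orbitBlock4 : orbitBlock 4 = true := by decide +kernel

theorem edgeBlock4 : edgeBlock 4 = true := by decide +kernel

theorem orbitBlock5 : orbitBlock 5 = true := by decide +kernel

theorem edgeBlock5 : edgeBlock 5 = true := by decide +kernel

theorem orbitBlock6 : orbitBlock 6 = true := by decide +kernel

theorem edgeBlock6 : edgeBlock 6 = true := by decide +kernel

theorem orbitBlock7 : orbitBlock 7 = true := by decide +kernel

theorem edgeBlock7 : edgeBlock 7 = true := by decide +kernel

end CfsgLib.ONanP
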