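import Cfsg.Agent.Lib.ONanP.ForFun

/-!
# Checks of the forests, part 1
-/

set_option autoImplicit false
set_option maxRecDepth 100000

namespace CfsgLib.ONanP

theorem orbitBlock8 : orbitBlock 8 = true := by decide +kernel

theorem edgeBlock8 : edgeBlock 8 = true := by decide +kernel

theorem orbitBlock9 : orbitBlock 9 = true := by decide +kernel

theorem edgeBlock9 : edgeBlock 9 = true := by decide +kernel

theorem orbitBlock10 : orbitBlock 10 = true := by decide +kernel

theorem edgeBlock10 : edgeBlock 10 = true := by decide +kernel

theorem orbitBlock11 : orbitBlock 11 = true := by decide +kernel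

theorem edgeBlock11 : edgeBlock 11 = true := by decide +kernel

theorem orbitBlock12 : orbitBlock 12 = true := by decide +kernel

theorem edgeBlock12 : edgeBlock 12 = true := by decide +kernel

theorem orbitBlock13 : orbitBlock 13 = true := by decide +kernel

theorem edgeBlock13 : edgeBlock 13 = true := by decide +kernel

theorem orbitBlock14 : orbitBlock 14 = true := by decide +kernel

theorem edgeBlock14 : edgeBlock 14 = true := by decide +kernel

theorem orbitBlock15 : orbitBlock 15 = true := by decide +kernel

theorem edgeBlock15 : edgeBlock 15 = true := by decide +kernel

end CfsgLib.ONanP
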