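import Cfsg.Agent.Lib.ONanP.ForFun

/-!
# Checks of the forests, part 10
-/

set_option autoImplicit false
set_option maxRecDepth 100000

namespace CfsgLib.ONanP

theorem orbitBlock80 : orbitBlock 80 = true := by decide +kernel

theorem edgeBlock80 : edgeBlock 80 = true := by decide +kernel

theorem orbitBlock81 : orbitBlock 81 = true := by decide +kernel

theorem edgeBlock81 : edgeBlock 81 = true := by decide +kernel

theorem orbitBlock82 : orbitBlock 82 = true := by decide +kernel

theorem edgeBlock82 : edgeBlock 82 = true := by decide +kernel

theorem orbitBlock83 : orbitBlock 83 = true := by decide +kernel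

theorem edgeBlock83 : edgeBlock 83 = true := by decide +kernel

theorem orbitBlock84 : orbitBlock 84 = true := by decide +kernel

theorem edgeBlock84 : edgeBlock 84 = true := by decide +kernel

theorem orbitBlock85 : orbitBlock 85 = true := by decide +kernel

theorem edgeBlock85 : edgeBlock 85 = true := by decide +kernel

theorem orbitBlock86 : orbitBlock 86 = true := by decide +kernel

theorem edgeBlock86 : edgeBlock 86 = true := by decide +kernel

theorem orbitBlock87 : orbitBlock 87 = true := by decide +kernel

theorem edgeBlock87 : edgeBlock 87 = true := by decide +kernel

end CfsgLib.ONanP
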