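import Cfsg.Agent.Lib.ONanP.ForFun

/-!
# Checks of the forests, part 11
-/

set_option autoImplicit false
set_option maxRecDepth 100000

namespace CfsgLib.ONanP

theorem orbitBlock88 : orbitBlock 88 = true := by decide +kernel

theorem edgeBlock88 : edgeBlock 88 = true := by decide +kernel

theorem orbitBlock89 : orbitBlock 89 = true := by decide +kernel

theorem edgeBlock89 : edgeBlock 89 = true := by decide +kernel

theorem orbitBlock90 : orbitBlock 90 = true := by decide +kernel

theorem edgeBlock90 : edgeBlock 90 = true := by decide +kernel

theorem orbitBlock91 : orbitBlock 91 = true := by decide +kernel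

theorem edgeBlock91 : edgeBlock 91 = true := by decide +kernel

theorem orbitBlock92 : orbitBlock 92 = true := by decide +kernel

theorem edgeBlock92 : edgeBlock 92 = true := by decide +kernel

theorem orbitBlock93 : orbitBlock 93 = true := by decide +kernel

theorem edgeBlock93 : edgeBlock 93 = true := by decide +kernel

theorem orbitBlock94 : orbitBlock 94 = true := by decide +kernel

theorem edgeBlock94 : edgeBlock 94 = true := by decide +kernel

theorem orbitBlock95 : orbitBlock 95 = true := by decide +kernel

theorem edgeBlock95 : edgeBlock 95 = true := by decide +kernel

end CfsgLib.ONanP
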