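import Cfsg.Agent.Lib.ONanP.ForFun

/-!
# Checks of the forests, part 12
-/

set_option autoImplicit false
set_option maxRecDepth 100000

namespace CfsgLib.ONanP

theorem orbitBlock96 : orbitBlock 96 = true := by decide +kernel

theorem edgeBlock96 : edgeBlock 96 = true := by decide +kernel

theorem orbitBlock97 : orbitBlock 97 = true := by decide +kernel

theorem edgeBlock97 : edgeBlock 97 = true := by decide +kernel

theorem orbitBlock98 : orbitBlock 98 = true := by decide +kernel

theorem edgeBlock98 : edgeBlock 98 = true := by decide +kernel

theorem orbitBlock99 : orbitBlock 99 = true := by decide +kernel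

theorem edgeBlock99 : edgeBlock 99 = true := by decide +kernel

theorem orbitBlock100 : orbitBlock 100 = true := by decide +kernel

theorem edgeBlock100 : edgeBlock 100 = true := by decide +kernel

theorem orbitBlock101 : orbitBlock 101 = true := by decide +kernel

theorem edgeBlock101 : edgeBlock 101 = true := by decide +kernel

theorem orbitBlock102 : orbitBlock 102 = true := by decide +kernel

theorem edgeBlock102 : edgeBlock 102 = true := by decide +kernel

theorem orbitBlock103 : orbitBlock 103 = true := by decide +kernel

theorem edgeBlock103 : edgeBlock 103 = true := by decide +kernel

end CfsgLib.ONanP
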