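import Cfsg.Agent.Lib.ONanP.ForFun

/-!
# Checks of the forests, part 13
-/

set_option autoImplicit false
set_option maxRecDepth 100000

namespace CfsgLib.ONanP

theorem orbitBlock104 : orbitBlock 104 = true := by decide +kernel

theorem edgeBlock104 : edgeBlock 104 = true := by decide +kernel

theorem orbitBlock105 : orbitBlock 105 = true := by decide +kernel

theorem edgeBlock105 : edgeBlock 105 = true := by decide +kernel

theorem orbitBlock106 : orbitBlock 106 = true := by decide +kernel

theorem edgeBlock106 : edgeBlock 106 = true := by decide +kernel

theorem orbitBlock107 : orbitBlock 107 = true := by decide +kernel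

theorem edgeBlock107 : edgeBlock 107 = true := by decide +kernel

theorem orbitBlock108 : orbitBlock 108 = true := by decide +kernel

theorem edgeBlock108 : edgeBlock 108 = true := by decide +kernel

theorem orbitBlock109 : orbitBlock 109 = true := by decide +kernel

theorem edgeBlock109 : edgeBlock 109 = true := by decide +kernel

theorem orbitBlock110 : orbitBlock 110 = true := by decide +kernel

theorem edgeBlock110 : edgeBlock 110 = true := by decide +kernel

theorem orbitBlock111 : orbitBlock 111 = true := by decide +kernel

theorem edgeBlock111 : edgeBlock 111 = true := by decide +kernel

end CfsgLib.ONanP
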