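import Cfsg.Agent.Lib.ONanP.ForFun

/-!
# Checks of the forests, part 14
-/

set_option autoImplicit false
set_option maxRecDepth 100000

namespace CfsgLib.ONanP

theorem orbitBlock112 : orbitBlock 112 = true := by decide +kernel

theorem edgeBlock112 : edgeBlock 112 = true := by decide +kernel

theorem orbitBlock113 : orbitBlock 113 = true := by decide +kernel

theorem edgeBlock113 : edgeBlock 113 = true := by decide +kernel

theorem orbitBlock114 : orbitBlock 114 = true := by decide +kernel

theorem edgeBlock114 : edgeBlock 114 = true := by decide +kernel

theorem orbitBlock115 : orbitBlock 115 = true := by decide +kernel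

theorem edgeBlock115 : edgeBlock 115 = true := by decide +kernel

theorem orbitBlock116 : orbitBlock 116 = true := by decide +kernel

theorem edgeBlock116 : edgeBlock 116 = true := by decide +kernel

theorem orbitBlock117 : orbitBlock 117 = true := by decide +kernel

theorem edgeBlock117 : edgeBlock 117 = true := by decide +kernel

theorem orbitBlock118 : orbitBlock 118 = true := by decide +kernel

theorem edgeBlock118 : edgeBlock 118 = true := by decide +kernel

theorem orbitBlock119 : orbitBlock 119 = true := by decide +kernel

theorem edgeBlock119 : edgeBlock 119 = true := by decide +kernel

end CfsgLib.ONanP
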