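import Cfsg.Agent.Lib.ONanP.ForFun

/-!
# Checks of the forests, part 15
-/

set_option autoImplicit false
set_option maxRecDepth 100000

namespace CfsgLib.ONanP

theorem orbitBlock120 : orbitBlock 120 = true := by decide +kernel

theorem edgeBlock120 : edgeBlock 120 = true := by decide +kernel

theorem orbitBlock121 : orbitBlock 121 = true := by decide +kernel

theorem edgeBlock121 : edgeBlock 121 = true := by decide +kernel

theorem orbitBlock122 : orbitBlock 122 = true := by decide +kernel

theorem edgeBlock122 : edgeBlock 122 = true := by decide +kernel

end CfsgLib.ONanP
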