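import Cfsg.Agent.Lib.ONanP.ForFun

/-!
# Checks of the forests, part 2
-/

set_option autoImplicit false
set_option maxRecDepth 100000

namespace CfsgLib.ONanP

theorem orbitBlock16 : orbitBlock 16 = true := by decide +kernel

theorem edgeBlock16 : edgeBlock 16 = true := by decide +kernel

theorem orbitBlock17 : orbitBlock 17 = true := by decide +kernel

theorem edgeBlock17 : edgeBlock 17 = true := by decide +kernel

theorem orbitBlock18 : orbitBlock 18 = true := by decide +kernel

theorem edgeBlock18 : edgeBlock 18 = true := by decide +kernel

theorem orbitBlock19 : orbitBlock 19 = true := by decide +kernel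

theorem edgeBlock19 : edgeBlock 19 = true := by decide +kernel

theorem orbitBlock20 : orbitBlock 20 = true := by decide +kernel

theorem edgeBlock20 : edgeBlock 20 = true := by decide +kernel

theorem orbitBlock21 : orbitBlock 21 = true := by decide +kernel

theorem edgeBlock21 : edgeBlock 21 = true := by decide +kernel

theorem orbitBlock22 : orbitBlock 22 = true := by decide +kernel

theorem edgeBlock22 : edgeBlock 22 = true := by decide +kernel

theorem orbitBlock23 : orbitBlock 23 = true := by decide +kernel

theorem edgeBlock23 : edgeBlock 23 = true := by decide +kernel

end CfsgLib.ONanP
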