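import Cfsg.Agent.Lib.ONanP.ForFun

/-!
# Checks of the forests, part 3
-/

set_option autoImplicit false
set_option maxRecDepth 100000

namespace CfsgLib.ONanP

theorem orbitBlock24 : orbitBlock 24 = true := by decide +kernel

theorem edgeBlock24 : edgeBlock 24 = true := by decide +kernel

theorem orbitBlock25 : orbitBlock 25 = true := by decide +kernel

theorem edgeBlock25 : edgeBlock 25 = true := by decide +kernel

theorem orbitBlock26 : orbitBlock 26 = true := by decide +kernel

theorem edgeBlock26 : edgeBlock 26 = true := by decide +kernel

theorem orbitBlock27 : orbitBlock 27 = true := by decide +kernel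

theorem edgeBlock27 : edgeBlock 27 = true := by decide +kernel

theorem orbitBlock28 : orbitBlock 28 = true := by decide +kernel

theorem edgeBlock28 : edgeBlock 28 = true := by decide +kernel

theorem orbitBlock29 : orbitBlock 29 = true := by decide +kernel

theorem edgeBlock29 : edgeBlock 29 = true := by decide +kernel

theorem orbitBlock30 : orbitBlock 30 = true := by decide +kernel

theorem edgeBlock30 : edgeBlock 30 = true := by decide +kernel

theorem orbitBlock31 : orbitBlock 31 = true := by decide +kernel

theorem edgeBlock31 : edgeBlock 31 = true := by decide +kernel

end CfsgLib.ONanP
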