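import Cfsg.Agent.Lib.ONanP.ForFun

/-!
# Checks of the forests, part 4
-/

set_option autoImplicit false
set_option maxRecDepth 100000

namespace CfsgLib.ONanP

theorem orbitBlock32 : orbitBlock 32 = true := by decide +kernel

theorem edgeBlock32 : edgeBlock 32 = true := by decide +kernel

theorem orbitBlock33 : orbitBlock 33 = true := by decide +kernel

theorem edgeBlock33 : edgeBlock 33 = true := by decide +kernel

theorem orbitBlock34 : orbitBlock 34 = true := by decide +kernel

theorem edgeBlock34 : edgeBlock 34 = true := by decide +kernel

theorem orbitBlock35 : orbitBlock 35 = true := by decide +kernel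

theorem edgeBlock35 : edgeBlock 35 = true := by decide +kernel

theorem orbitBlock36 : orbitBlock 36 = true := by decide +kernel

theorem edgeBlock36 : edgeBlock 36 = true := by decide +kernel

theorem orbitBlock37 : orbitBlock 37 = true := by decide +kernel

theorem edgeBlock37 : edgeBlock 37 = true := by decide +kernel

theorem orbitBlock38 : orbitBlock 38 = true := by decide +kernel

theorem edgeBlock38 : edgeBlock 38 = true := by decide +kernel

theorem orbitBlock39 : orbitBlock 39 = true := by decide +kernel

theorem edgeBlock39 : edgeBlock 39 = true := by decide +kernel

end CfsgLib.ONanP
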