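import Cfsg.Agent.Lib.ONanP.ForFun

/-!
# Checks of the forests, part 5
-/

set_option autoImplicit false
set_option maxRecDepth 100000

namespace CfsgLib.ONanP

theorem orbitBlock40 : orbitBlock 40 = true := by decide +kernel

theorem edgeBlock40 : edgeBlock 40 = true := by decide +kernel

theorem orbitBlock41 : orbitBlock 41 = true := by decide +kernel

theorem edgeBlock41 : edgeBlock 41 = true := by decide +kernel

theorem orbitBlock42 : orbitBlock 42 = true := by decide +kernel

theorem edgeBlock42 : edgeBlock 42 = true := by decide +kernel

theorem orbitBlock43 : orbitBlock 43 = true := by decide +kernel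

theorem edgeBlock43 : edgeBlock 43 = true := by decide +kernel

theorem orbitBlock44 : orbitBlock 44 = true := by decide +kernel

theorem edgeBlock44 : edgeBlock 44 = true := by decide +kernel

theorem orbitBlock45 : orbitBlock 45 = true := by decide +kernel

theorem edgeBlock45 : edgeBlock 45 = true := by decide +kernel

theorem orbitBlock46 : orbitBlock 46 = true := by decide +kernel

theorem edgeBlock46 : edgeBlock 46 = true := by decide +kernel

theorem orbitBlock47 : orbitBlock 47 = true := by decide +kernel

theorem edgeBlock47 : edgeBlock 47 = true := by decide +kernel

end CfsgLib.ONanP
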