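import Cfsg.Agent.Lib.ONanP.ForFun

/-!
# Checks of the forests, part 6
-/

set_option autoImplicit false
set_option maxRecDepth 100000

namespace CfsgLib.ONanP

theorem orbitBlock48 : orbitBlock 48 = true := by decide +kernel

theorem edgeBlock48 : edgeBlock 48 = true := by decide +kernel

theorem orbitBlock49 : orbitBlock 49 = true := by decide +kernel

theorem edgeBlock49 : edgeBlock 49 = true := by decide +kernel

theorem orbitBlock50 : orbitBlock 50 = true := by decide +kernel

theorem edgeBlock50 : edgeBlock 50 = true := by decide +kernel

theorem orbitBlock51 : orbitBlock 51 = true := by decide +kernel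

theorem edgeBlock51 : edgeBlock 51 = true := by decide +kernel

theorem orbitBlock52 : orbitBlock 52 = true := by decide +kernel

theorem edgeBlock52 : edgeBlock 52 = true := by decide +kernel

theorem orbitBlock53 : orbitBlock 53 = true := by decide +kernel

theorem edgeBlock53 : edgeBlock 53 = true := by decide +kernel

theorem orbitBlock54 : orbitBlock 54 = true := by decide +kernel

theorem edgeBlock54 : edgeBlock 54 = true := by decide +kernel

theorem orbitBlock55 : orbitBlock 55 = true := by decide +kernel

theorem edgeBlock55 : edgeBlock 55 = true := by decide +kernel

end CfsgLib.ONanP
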