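import Cfsg.Agent.Lib.ONanP.ForFun

/-!
# Checks of the forests, part 7
-/

set_option autoImplicit false
set_option maxRecDepth 100000

namespace CfsgLib.ONanP

theorem orbitBlock56 : orbitBlock 56 = true := by decide +kernel

theorem edgeBlock56 : edgeBlock 56 = true := by decide +kernel

theorem orbitBlock57 : orbitBlock 57 = true := by decide +kernel

theorem edgeBlock57 : edgeBlock 57 = true := by decide +kernel

theorem orbitBlock58 : orbitBlock 58 = true := by decide +kernel

theorem edgeBlock58 : edgeBlock 58 = true := by decide +kernel

theorem orbitBlock59 : orbitBlock 59 = true := by decide +kernel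

theorem edgeBlock59 : edgeBlock 59 = true := by decide +kernel

theorem orbitBlock60 : orbitBlock 60 = true := by decide +kernel

theorem edgeBlock60 : edgeBlock 60 = true := by decide +kernel

theorem orbitBlock61 : orbitBlock 61 = true := by decide +kernel

theorem edgeBlock61 : edgeBlock 61 = true := by decide +kernel

theorem orbitBlock62 : orbitBlock 62 = true := by decide +kernel

theorem edgeBlock62 : edgeBlock 62 = true := by decide +kernel

theorem orbitBlock63 : orbitBlock 63 = true := by decide +kernel

theorem edgeBlock63 : edgeBlock 63 = true := by decide +kernel

end CfsgLib.ONanP
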