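import Cfsg.Agent.Lib.ONanP.ForFun

/-!
# Checks of the forests, part 8
-/

set_option autoImplicit false
set_option maxRecDepth 100000

namespace CfsgLib.ONanP

theorem orbitBlock64 : orbitBlock 64 = true := by decide +kernel

theorem edgeBlock64 : edgeBlock 64 = true := by decide +kernel

theorem orbitBlock65 : orbitBlock 65 = true := by decide +kernel

theorem edgeBlock65 : edgeBlock 65 = true := by decide +kernel

theorem orbitBlock66 : orbitBlock 66 = true := by decide +kernel

theorem edgeBlock66 : edgeBlock 66 = true := by decide +kernel

theorem orbitBlock67 : orbitBlock 67 = true := by decide +kernel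

theorem edgeBlock67 : edgeBlock 67 = true := by decide +kernel

theorem orbitBlock68 : orbitBlock 68 = true := by decide +kernel

theorem edgeBlock68 : edgeBlock 68 = true := by decide +kernel

theorem orbitBlock69 : orbitBlock 69 = true := by decide +kernel

theorem edgeBlock69 : edgeBlock 69 = true := by decide +kernel

theorem orbitBlock70 : orbitBlock 70 = true := by decide +kernel

theorem edgeBlock70 : edgeBlock 70 = true := by decide +kernel

theorem orbitBlock71 : orbitBlock 71 = true := by decide +kernel

theorem edgeBlock71 : edgeBlock 71 = true := by decide +kernel

end CfsgLib.ONanP
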