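import Cfsg.Agent.Lib.ONanP.ForFun

/-!
# Checks of the forests, part 9
-/

set_option autoImplicit false
set_option maxRecDepth 100000

namespace CfsgLib.ONanP

theorem orbitBlock72 : orbitBlock 72 = true := by decide +kernel

theorem edgeBlock72 : edgeBlock 72 = true := by decide +kernel

theorem orbitBlock73 : orbitBlock 73 = true := by decide +kernel

theorem edgeBlock73 : edgeBlock 73 = true := by decide +kernel

theorem orbitBlock74 : orbitBlock 74 = true := by decide +kernel

theorem edgeBlock74 : edgeBlock 74 = true := by decide +kernel

theorem orbitBlock75 : orbitBlock 75 = true := by decide +kernel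

theorem edgeBlock75 : edgeBlock 75 = true := by decide +kernel

theorem orbitBlock76 : orbitBlock 76 = true := by decide +kernel

theorem edgeBlock76 : edgeBlock 76 = true := by decide +kernel

theorem orbitBlock77 : orbitBlock 77 = true := by decide +kernel

theorem edgeBlock77 : edgeBlock 77 = true := by decide +kernel

theorem orbitBlock78 : orbitBlock 78 = true := by decide +kernel

theorem edgeBlock78 : edgeBlock 78 = true := by decide +kernel

theorem orbitBlock79 : orbitBlock 79 = true := by decide +kernel

theorem edgeBlock79 : edgeBlock 79 = true := by decide +kernel

end CfsgLib.ONanP
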