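import Cfsg.Agent.Lib.ONanP.Tab
import Cfsg.Agent.Lib.ONanP.ForCheck0
import Cfsg.Agent.Lib.ONanP.ForCheck1
import Cfsg.Agent.Lib.ONanP.ForCheck2
import Cfsg.Agent.Lib.ONanP.ForCheck3
import Cfsg.Agent.Lib.ONanP.ForCheck4
import Cfsg.Agent.Lib.ONanP.ForCheck5
import Cfsg.Agent.Lib.ONanP.ForCheck6
import Cfsg.Agent.Lib.ONanP.ForCheck7
import Cfsg.Agent.Lib.ONanP.ForCheck8
import Cfsg.Agent.Lib.ONanP.ForCheck9
import Cfsg.Agent.Lib.ONanP.ForCheck10
import Cfsg.Agent.Lib.ONanP.ForCheck11
import Cfsg.Agent.Lib.ONanP.ForCheck12
import Cfsg.Agent.Lib.ONanP.ForCheck13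
import Cfsg.Agent.Lib.ONanP.ForCheck14
import Cfsg.Agent.Lib.ONanP.ForCheck15

/-!
# All blocks of the forests
-/

set_option autoImplicit false
set_option maxRecDepth 100000

namespace CfsgLib.ONanP

theorem orbit_blocks : ∀ b < 123, orbitBlock b = true := by
  intro b hb
  interval_cases b
  exact orbitBlock0
  exact orbitBlock1
  exact orbitBlock2
  exact orbitBlock3
  exact orbitBlock4
  exact orbitBlock5
  exact orbitBlock6
  exact orbitBlock7
  exact orbitBlock8
  exact orbitBlock9
  exact orbitBlock10
  exact orbitBlock11
  exact orbitBlock12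
  exact orbitBlock13
  exact orbitBlock14
  exact orbitBlock15
  exact orbitBlock16
  exact orbitBlock17
  exact orbitBlock18
  exact orbitBlock19
  exact orbitBlock20
  exact orbitBlock21
  exact orbitBlock22
  exact orbitBlock23
  exact orbitBlock24
  exact orbitBlock25
  exact orbitBlock26
  exact orbitBlock27
  exact orbitBlock28
  exact orbitBlock29
  exact orbitBlock30
  exact orbitBlock31
  exact orbitBlock32
  exact orbitBlock33
  exact orbitBlock34
  exact orbitBlock35
  exact orbitBlock36
  exact orbitBlock37
  exact orbitBlock38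
  exact orbitBlock39
  exact orbitBlock40
  exact orbitBlock41
  exact orbitBlock42
  exact orbitBlock43
  exact orbitBlock44
  exact orbitBlock45
  exact orbitBlock46
  exact orbitBlock47
  exact orbitBlock48
  exact orbitBlock49
  exact orbitBlock50
  exact orbitBlock51
  exact orbitBlock52
  exact orbitBlock53
  exact orbitBlock54
  exact orbitBlock55
  exact orbitBlock56
  exact orbitBlock57
  exact orbitBlock58
  exact orbitBlock59
  exact orbitBlock60
  exact orbitBlock61
  exact orbitBlock62
  exact orbitBlock63
  exact orbitBlock64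
  exact orbitBlock65
  exact orbitBlock66
  exact orbitBlock67
  exact orbitBlock68
  exact orbitBlock69
  exact orbitBlock70
  exact orbitBlock71
  exact orbitBlock72
  exact orbitBlock73
  exact orbitBlock74
  exact orbitBlock75
  exact orbitBlock76
  exact orbitBlock77
  exact orbitBlock78
  exact orbitBlock79
  exact orbitBlock80
  exact orbitBlock81
  exact orbitBlock82
  exact orbitBlock83
  exact orbitBlock84
  exact orbitBlock85
  exact orbitBlock86
  exact orbitBlock87
  exact orbitBlock88
  exact orbitBlock89
  exact orbitBlock90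
  exact orbitBlock91
  exact orbitBlock92
  exact orbitBlock93
  exact orbitBlock94
  exact orbitBlock95
  exact orbitBlock96
  exact orbitBlock97
  exact orbitBlock98
  exact orbitBlock99
  exact orbitBlock100
  exact orbitBlock101
  exact orbitBlock102
  exact orbitBlock103
  exact orbitBlock104
  exact orbitBlock105
  exact orbitBlock106
  exact orbitBlock107
  exact orbitBlock108
  exact orbitBlock109
  exact orbitBlock110
  exact orbitBlock111
  exact orbitBlock112
  exact orbitBlock113
  exact orbitBlock114
  exact orbitBlock115
  exact orbitBlock116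
  exact orbitBlock117
  exact orbitBlock118
  exact orbitBlock119
  exact orbitBlock120
  exact orbitBlock121
  exact orbitBlock122

theorem edge_blocks : ∀ b < 123, edgeBlock b = true := by
  intro b hb
  interval_cases b
  exact edgeBlock0
  exact edgeBlock1
  exact edgeBlock2
  exact edgeBlock3
  exact edgeBlock4
  exact edgeBlock5
  exact edgeBlock6
  exact edgeBlock7
  exact edgeBlock8
  exact edgeBlock9
  exact edgeBlock10
  exact edgeBlock11
  exact edgeBlock12
  exact edgeBlock13
  exact edgeBlock14
  exact edgeBlock15
  exact edgeBlock16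
  exact edgeBlock17
  exact edgeBlock18
  exact edgeBlock19
  exact edgeBlock20
  exact edgeBlock21
  exact edgeBlock22
  exact edgeBlock23
  exact edgeBlock24
  exact edgeBlock25
  exact edgeBlock26
  exact edgeBlock27
  exact edgeBlock28
  exact edgeBlock29
  exact edgeBlock30
  exact edgeBlock31
  exact edgeBlock32
  exact edgeBlock33
  exact edgeBlock34
  exact edgeBlock35
  exact edgeBlock36
  exact edgeBlock37
  exact edgeBlock38
  exact edgeBlock39
  exact edgeBlock40
  exact edgeBlock41
  exact edgeBlock42
  exact edgeBlock43
  exact edgeBlock44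
  exact edgeBlock45
  exact edgeBlock46
  exact edgeBlock47
  exact edgeBlock48
  exact edgeBlock49
  exact edgeBlock50
  exact edgeBlock51
  exact edgeBlock52
  exact edgeBlock53
  exact edgeBlock54
  exact edgeBlock55
  exact edgeBlock56
  exact edgeBlock57
  exact edgeBlock58
  exact edgeBlock59
  exact edgeBlock60
  exact edgeBlock61
  exact edgeBlock62
  exact edgeBlock63
  exact edgeBlock64
  exact edgeBlock65
  exact edgeBlock66
  exact edgeBlock67
  exact edgeBlock68
  exact edgeBlock69
  exact edgeBlock70
  exact edgeBlock71
  exact edgeBlock72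
  exact edgeBlock73
  exact edgeBlock74
  exact edgeBlock75
  exact edgeBlock76
  exact edgeBlock77
  exact edgeBlock78
  exact edgeBlock79
  exact edgeBlock80
  exact edgeBlock81
  exact edgeBlock82
  exact edgeBlock83
  exact edgeBlock84
  exact edgeBlock85
  exact edgeBlock86
  exact edgeBlock87
  exact edgeBlock88
  exact edgeBlock89
  exact edgeBlock90
  exact edgeBlock91
  exact edgeBlock92
  exact edgeBlock93
  exact edgeBlock94
  exact edgeBlock95
  exact edgeBlock96
  exact edgeBlock97
  exact edgeBlock98
  exact edgeBlock99
  exact edgeBlock100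
  exact edgeBlock101
  exact edgeBlock102
  exact edgeBlock103
  exact edgeBlock104
  exact edgeBlock105
  exact edgeBlock106
  exact edgeBlock107
  exact edgeBlock108
  exact edgeBlock109
  exact edgeBlock110
  exact edgeBlock111
  exact edgeBlock112
  exact edgeBlock113
  exact edgeBlock114
  exact edgeBlock115
  exact edgeBlock116
  exact edgeBlock117
  exact edgeBlock118
  exact edgeBlock119
  exact edgeBlock120
  exact edgeBlock121
  exact edgeBlock122

end CfsgLib.ONanP
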