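import Cfsg.Agent.Lib.ONanP.TabFun
import Cfsg.Agent.Lib.ONanP.OrbitData
import Cfsg.Agent.Lib.ONanP.EdgeData

/-!
# The checks of the two forests at a point
-/

set_option autoImplicit false
set_option maxRecDepth 100000

namespace CfsgLib.ONanP

/-- The orbit of a point under the six involutions. -/
noncomputable def orbitLab (p : Nat) : Nat := Nat.mod (orbitCode p) 8

/-- The depth of a point in its orbit. -/
noncomputable def orbitDepth (p : Nat) : Nat := Nat.mod (Nat.div (orbitCode p) 64) 64

/-- The roots of the five orbits. -/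
def rootList : List Nat := [0, 1, 3, 50, 965]

/-- Words fixing the second root. -/
def edgeWordList : List (List Nat) := [[5], [3, 2, 3, 2], [1, 2, 3, 2, 1, 0, 3, 2, 3, 4, 3, 2, 3, 1, 2, 3, 4, 3, 2, 3, 0, 1, 2, 3, 2, 1]]

/-- The root of an orbit. -/
def orbitRoot (k : Nat) : Nat := rootList.getD k 0

/-- The labels are invariant and lead back to the roots. -/
noncomputable def orbitAt (p : Nat) : Bool :=
  let c := orbitCode p
  let l := Nat.mod c 8
  let v := Nat.mod (Nat.div c 8) 8
  let d := Nat.mod (Nat.div c 64) 64
  let q := Nat.div c 4096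
  Nat.blt l 5 && Nat.beq (orbitLab (col0 p)) l && Nat.beq (orbitLab (col1 p)) l &&
    Nat.beq (orbitLab (col2 p)) l && Nat.beq (orbitLab (col3 p)) l &&
    Nat.beq (orbitLab (col4 p)) l && Nat.beq (orbitLab (col5 p)) l &&
    (Nat.beq p (orbitRoot l) || Nat.blt v 6 && Nat.blt q 122760 && Nat.blt (orbitDepth q) d &&
      Nat.beq (orbitLab q) l && Nat.beq (cimg v q) p)

/-- The orbit checks at a block of 1000 points. -/
noncomputable def orbitBlock (b : Nat) : Bool :=
  (List.range 1000).all fun j => !(Nat.blt (1000 * b + j) 122760) || orbitAt (1000 * b + j)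

/-- The walk of a word. -/
noncomputable def walkC : Nat → List Nat → Nat
  | i, [] => i
  | i, g :: w => walkC (cimg g i) w

/-- The class of a point under the stabiliser of two points. -/
noncomputable def edgeLab (p : Nat) : Nat := Nat.mod (edgeCode p) 4096

/-- The depth in such a class. -/
noncomputable def edgeDepth (p : Nat) : Nat := Nat.mod (Nat.div (edgeCode p) 16384) 16

/-- The root of a class. -/
def edgeRoot (k : Nat) : Nat := (edgeRoots.getD (k / 64) []).getD (k % 64) 0

/-- The classes are spanned from their roots. -/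
noncomputable def edgeAt (p : Nat) : Bool :=
  let c := edgeCode p
  let l := Nat.mod c 4096
  let v := Nat.mod (Nat.div c 4096) 4
  let d := Nat.mod (Nat.div c 16384) 16
  let q := Nat.div c 262144
  Nat.blt l 2076 &&
    (Nat.beq p (edgeRoot l) || Nat.blt v 3 && Nat.blt q 122760 && Nat.blt (edgeDepth q) d &&
      Nat.beq (edgeLab q) l && Nat.beq (walkC q (edgeWordList.getD v [])) p)

/-- The class checks at a block of 1000 points. -/
noncomputable def edgeBlock (b : Nat) : Bool :=
  (List.range 1000).all fun j => !(Nat.blt (1000 * b + j) 122760) || edgeAt (1000 * b + j)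

end CfsgLib.ONanP
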