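import Cfsg.Agent.Lib.ONanP.Action
import Cfsg.Agent.Lib.ONanP.ForChecks
import Cfsg.Agent.Lib.ONanP.GroupData

/-!
# The orbits of the six involutions
-/

set_option autoImplicit false
set_option maxRecDepth 100000

namespace CfsgLib.ONanP

open CfsgLib.PresCert Cfsg.Spor

theorem list_data : rootList = roots ∧ edgeWordList = edgeWords := by decide +kernel

theorem walkC_eq : ∀ (w : List ℕ) (i : ℕ), walkC i w = tab.walk i w
  | [], _ => rfl
  | _ :: w, _ => walkC_eq w _

theorem cimg_cases (i : ℕ) : col0 i = tab.img 0 i ∧ col1 i = tab.img 1 i ∧ col2 i = tab.img 2 i ∧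
    col3 i = tab.img 3 i ∧ col4 i = tab.img 4 i ∧ col5 i = tab.img 5 i :=
  ⟨rfl, rfl, rfl, rfl, rfl, rfl⟩

/-- The root of a label as a number below the degree. -/
theorem orbitRoot_lt : ∀ k < 5, orbitRoot k < 122760 ∧ orbitLab (orbitRoot k) = k := by
  decide +kernel

theorem orbit_spec {p : ℕ} (hp : p < 122760) : orbitLab p < 5 ∧
    (∀ g < 6, orbitLab (tab.img g p) = orbitLab p) ∧
    (p = orbitRoot (orbitLab p) ∨ ∃ g < 6, ∃ q < 122760, orbitDepth q < orbitDepth p ∧
      orbitLab q = orbitLab p ∧ tab.img g q = p) := by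
  have hb := orbit_blocks (p / 1000) (by omega)
  simp only [orbitBlock, List.all_eq_true, List.mem_range, Bool.or_eq_true,
    Bool.not_eq_true'] at hb
  have h := hb (p % 1000) (Nat.mod_lt _ (by norm_num))
  rw [Nat.div_add_mod] at h
  have h' := h.resolve_left fun e => by
    have : Nat.blt p 122760 = true := by rw [Nat.blt_eq]; exact hp
    rw [this] at e
    exact Bool.noConfusion e
  simp only [orbitAt, Bool.and_eq_true, Bool.or_eq_true, Nat.blt_eq, Nat.beq_eq] at h'
  obtain ⟨⟨⟨⟨⟨⟨⟨hl, h0⟩, h1⟩, h2⟩, h3⟩, h4⟩, h5⟩, hr⟩ := h'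
  refine ⟨hl, fun g hg => ?_, ?_⟩
  · interval_cases g
    exacts [h0, h1, h2, h3, h4, h5]
  · rcases hr with hr | ⟨⟨⟨⟨a, b⟩, c⟩, d⟩, e⟩
    · exact Or.inl hr
    · exact Or.inr ⟨_, a, _, b, c, d, e⟩

theorem orbit_invariant {m : Cfsg.Spor.ON} (hm : m ∈ subH) :
    ∀ p : Fin tab.n, orbitLab (phi m p).val = orbitLab p.val := by
  induction hm using Subgroup.closure_induction with
  | mem s hs =>
    obtain ⟨w, hw, rfl⟩ := hs
    obtain ⟨g, hg, rfl⟩ := List.mem_map.1 hw
    have hg6 : g < 6 := List.mem_range.1 hg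
    intro p
    rw [phi_act (by intro a ha; rw [List.mem_singleton.1 ha]; omega)]
    exact (orbit_spec p.isLt).2.1 g hg6
  | one => intro p; simp
  | mul a b _ _ ha hb => intro p; rw [map_mul, Equiv.Perm.mul_apply, ha, hb]
  | inv a _ ha =>
    intro p
    have := ha (phi a⁻¹ p)
    rw [← Equiv.Perm.mul_apply, ← map_mul, mul_inv_cancel, map_one, Equiv.Perm.one_apply] at this
    exact this.symm

/-- The root of an orbit as a point. -/
noncomputable def rootPt (k : ℕ) : Fin tab.n :=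
  if h : orbitRoot k < tab.n then ⟨orbitRoot k, h⟩ else ⟨0, show 0 < 122760 by norm_num⟩

theorem rootPt_val {k : ℕ} (hk : k < 5) : (rootPt k).val = orbitRoot k := by
  rw [rootPt, dif_pos (show orbitRoot k < tab.n from (orbitRoot_lt k hk).1)]

theorem orbit_reach (p : Fin tab.n) : ∃ m ∈ subH, phi m (rootPt (orbitLab p.val)) = p := by
  suffices ∀ d, ∀ p : Fin tab.n, orbitDepth p.val = d →
      ∃ m ∈ subH, phi m (rootPt (orbitLab p.val)) = p from this _ p rfl
  intro d
  induction d using Nat.strong_induction_on with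
  | h d ih =>
    intro p hd
    obtain ⟨hl, -, hr⟩ := orbit_spec p.isLt
    rcases hr with h0 | ⟨g, hg, q, hq, hlt, hlab, e⟩
    · refine ⟨1, Subgroup.one_mem _, Fin.ext ?_⟩
      rw [map_one, Equiv.Perm.one_apply, rootPt_val hl]
      exact h0.symm
    · obtain ⟨m, hm, hmq⟩ := ih _ (hd ▸ hlt) ⟨q, hq⟩ rfl
      simp only [hlab] at hmq
      refine ⟨gen g * m, mul_mem (gen_mem_subH hg) hm, Fin.ext ?_⟩
      rw [map_mul, Equiv.Perm.mul_apply, hmq, realised.app g (show g < 8 by omega)]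
      exact e

theorem edge_spec {p : ℕ} (hp : p < 122760) : edgeLab p < 2076 ∧
    (p = edgeRoot (edgeLab p) ∨ ∃ j < 3, ∃ q < 122760, edgeDepth q < edgeDepth p ∧
      edgeLab q = edgeLab p ∧ tab.walk q (edgeWords.getD j []) = p) := by
  have hb := edge_blocks (p / 1000) (by omega)
  simp only [edgeBlock, List.all_eq_true, List.mem_range, Bool.or_eq_true,
    Bool.not_eq_true'] at hb
  have h := hb (p % 1000) (Nat.mod_lt _ (by norm_num))
  rw [Nat.div_add_mod] at h
  have h' := h.resolve_left fun e => by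
    have : Nat.blt p 122760 = true := by rw [Nat.blt_eq]; exact hp
    rw [this] at e
    exact Bool.noConfusion e
  simp only [edgeAt, Bool.and_eq_true, Bool.or_eq_true, Nat.blt_eq, Nat.beq_eq] at h'
  obtain ⟨hl, hr⟩ := h'
  refine ⟨hl, ?_⟩
  rcases hr with hr | ⟨⟨⟨⟨a, b⟩, c⟩, d⟩, e⟩
  · exact Or.inl hr
  · rw [walkC_eq, list_data.2] at e
    exact Or.inr ⟨_, a, _, b, c, d, e⟩

end CfsgLib.ONanP
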