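import Cfsg.Agent.Lib.ONanP.Stabilisers
import Cfsg.Agent.Lib.ONanP.CertGCheck

/-!
# The first facts about the roots
-/

set_option autoImplicit false
set_option maxRecDepth 100000

namespace CfsgLib.ONanP

open CfsgLib.PresCert Cfsg.Spor

/-- The cosets. -/
abbrev Coset : Type := Cfsg.Spor.ON ⧸ subH

/-- The first coset. -/
def x₀ : Coset := ((1 : Cfsg.Spor.ON) : Coset)

/-- The word to a root. -/
def lead (i : ℕ) : List ℕ := leads.getD i []

/-- The coset of a root. -/
def cr (i : ℕ) : Coset := act gen (lead i) • x₀

theorem x₀_fix {m : Cfsg.Spor.ON} (hm : m ∈ subH) : m • x₀ = x₀ := by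
  rw [x₀, MulAction.Quotient.smul_coe, smul_eq_mul, mul_one, QuotientGroup.eq, mul_one]
  exact inv_mem hm

theorem mem_of_fix {m : Cfsg.Spor.ON} (h : m • x₀ = x₀) : m ∈ subH := by
  rw [x₀, MulAction.Quotient.smul_coe, smul_eq_mul, mul_one, QuotientGroup.eq, mul_one] at h
  simpa using inv_mem h

/-- The words are rotations of relators or of their inverses, as hinted. -/
def pairHints (D : Data) (rels : List (List ℕ)) (hints : List (ℕ × ℕ × Bool)) : Bool :=
  Nat.ble D.nrel hints.length && (List.range D.nrel).all fun r =>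
    let h := hints.getD r (0, 0, false)
    let v := rels.getD h.1 []
    decide (Y555.fullWord D r = []) ||
      decide (Y555.fullWord D r = (if h.2.2 then invWord v else v).rotate h.2.1)

theorem pairHyp {D : Data} (hng : D.ng = 8) {rels : List (List ℕ)}
    {hints : List (ℕ × ℕ × Bool)}
    (hrels : rels.all (fun w => w.all (fun g => Nat.blt g 8) && presRels.contains w) = true)
    (h1 : pairHints D rels hints = true) (h2 : Y555.marksOk D singles = true) :
    Paired.PairHyp D invIx gen x₀ := by
  simp only [List.all_eq_true, Bool.and_eq_true, Nat.blt_eq, List.contains_iff_mem] at hrels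
  simp only [pairHints, Bool.and_eq_true, List.all_eq_true, List.mem_range, Nat.ble_eq,
    Bool.or_eq_true, decide_eq_true_eq] at h1
  obtain ⟨-, h1⟩ := h1
  refine ⟨fun g hg => gen_inv g (hng ▸ hg), fun r hr x => ?_, fun r hr => ?_⟩
  · have hv : act gen (rels.getD (hints.getD r (0, 0, false)).1 []) = 1 ∧
        ∀ g ∈ rels.getD (hints.getD r (0, 0, false)).1 [], g < 8 := by
      by_cases hlt : (hints.getD r (0, 0, false)).1 < rels.length
      · rw [List.getD_eq_getElem _ _ hlt]
        obtain ⟨a, b⟩ := hrels _ (List.getElem_mem hlt)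
        exact ⟨rels_one b, a⟩
      · rw [List.getD_eq_default _ _ (Nat.le_of_not_lt hlt)]
        exact ⟨act_nil gen, fun g hg => absurd hg List.not_mem_nil⟩
    have key : act gen (Y555.fullWord D r) = 1 := by
      rcases h1 r hr with e | e
      · rw [e, act_nil]
      · rw [e]
        refine act_rotate ?_ _
        split_ifs
        · rw [act_invWord hv.2, hv.1, inv_one]
        · exact hv.1
    rw [Y555.fullWord] at key
    rw [key, one_smul]
  · simp only [Y555.marksOk, List.all_eq_true, List.mem_range, Bool.or_eq_true, Nat.blt_eq,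
      decide_eq_true_eq, List.any_eq_true] at h2
    show act gen (Y555.fullWord D r) • x₀ = x₀
    by_cases ht : r < 16 * D.words.length
    · rcases h2 r ht with (e | e) | ⟨v, hv, e⟩
      · omega
      · rw [e, act_nil, one_smul]
      · rw [e]; exact x₀_fix (Subgroup.subset_closure ⟨v, hv, rfl⟩)
    · have e : wordAt D r = ([], D.ng, []) := by
        rw [wordAt, List.getD_eq_default _ _ (show D.words.length ≤ r / 16 by omega)]
        rfl
      simp [Y555.fullWord, e, act_nil]

theorem certG_words : certG.ng = 8 ∧
    certGRels.all (fun w => w.all (fun g => Nat.blt g 8) && presRels.contains w) = true ∧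
    pairHints certG certGRels certGHints = true ∧ Y555.marksOk certG singles = true := by
  decide +kernel

theorem goal_fix {w : List ℕ} (hw : w ∈ certGGoals) : act gen w • x₀ = x₀ := by
  obtain ⟨a, b, c, d⟩ := certG_words
  have h := List.all_eq_true.1 certG_goals w hw
  simp only [Bool.and_eq_true, List.all_eq_true, Nat.blt_eq] at h
  exact Paired.word_fix certG_valid (pairHyp a b c d) h.1 h.2

/-- The words fixing a root that are known at the start. -/
def fixWords : ℕ → List (List ℕ)
  | 0 => singles
  | 1 => edgeWords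
  | 2 => wordsFix2
  | 3 => wordsFix3
  | 4 => wordsSmall
  | _ => []

theorem fixWords_data : ∀ i < 5, ∀ w ∈ fixWords i, (∀ g ∈ w, g < 6) ∧
    (∀ g ∈ lead i, g < 8) ∧ (i = 0 ∨ lead i ++ w ++ invWord (lead i) ∈ certGGoals) := by
  decide +kernel

theorem fix_of_goal {v w : List ℕ} (hv : ∀ g ∈ v, g < 8)
    (h : act gen (v ++ w ++ invWord v) • x₀ = x₀) :
    act gen w • (act gen v • x₀) = act gen v • x₀ := by
  rw [act_append, act_append, act_invWord hv, mul_smul, inv_smul_eq_iff, mul_smul] at h
  exact h

theorem fixWords_fix {i : ℕ} (hi : i < 5) {w : List ℕ} (hw : w ∈ fixWords i) :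
    act gen w • cr i = cr i := by
  obtain ⟨h6, hl, h⟩ := fixWords_data i hi w hw
  rcases h with rfl | h
  · show act gen w • (act gen (lead 0) • x₀) = act gen (lead 0) • x₀
    rw [show lead 0 = [] from rfl, act_nil, one_smul]
    exact x₀_fix (act_mem_subH h6)
  · exact fix_of_goal hl (goal_fix h)

theorem twist_checks : twistWords.length = 3 ∧ edgeWords.length = 3 ∧
    ∀ j < 3, (∀ g ∈ twistWords.getD j [], g < 6) ∧ (∀ g ∈ edgeWords.getD j [], g < 6) ∧
      [6] ++ edgeWords.getD j [] ++ [7] ∈ certGGoals ∧
      base.all (fun b => Nat.beq (tab.walk b ([6] ++ edgeWords.getD j [] ++ [7]))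
        (tab.walk b (twistWords.getD j []))) = true := by
  decide +kernel

/-- A product of listed words. -/
def flatW (S : List (List ℕ)) (t : List ℕ) : List ℕ := t.flatMap fun a => S.getD a []

theorem twist_one {j : ℕ} (hj : j < 3) :
    gen 6 * act gen (twistWords.getD j []) = act gen (edgeWords.getD j []) * gen 6 := by
  obtain ⟨ht, he, hg, hb⟩ := twist_checks.2.2 j hj
  have h8 : ∀ g ∈ [6] ++ edgeWords.getD j [] ++ [7], g < 8 := by
    intro g hg'
    simp only [List.mem_append, List.mem_singleton] at hg'
    rcases hg' with (rfl | h) | rfl <;> first | omega | exact lt_trans (he g h) (by norm_num)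
  have hmem : act gen ([6] ++ edgeWords.getD j [] ++ [7]) ∈ subH := mem_of_fix (goal_fix hg)
  have e := eq_of_base hmem (act_mem_subH ht) fun i hi => Fin.ext (by
    rw [phi_act h8, phi_act fun g hg' => lt_trans (ht g hg') (by norm_num)]
    exact Nat.beq_eq.mp (List.all_eq_true.1 hb _ hi))
  rw [← e, act_append, act_append, act_cons, act_nil, one_mul, act_cons, act_nil, one_mul,
    show gen 7 = (gen 6)⁻¹ from gen_invIx (i := 6) (by norm_num), ← mul_assoc, mul_inv_cancel,
    one_mul]

theorem twist_flat : ∀ {t : List ℕ}, (∀ j ∈ t, j < 3) →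
    gen 6 * act gen (flatW twistWords t) = act gen (flatW edgeWords t) * gen 6
  | [], _ => by simp [flatW, act_nil]
  | j :: t, h => by
    simp only [flatW, List.flatMap_cons, act_append]
    have ih := twist_flat (t := t) fun a ha => h a (by simp [ha])
    simp only [flatW] at ih
    rw [← mul_assoc, ih, mul_assoc, twist_one (h j (by simp)), mul_assoc]

theorem flat_lt {S : List (List ℕ)} (hS : ∀ w ∈ S, ∀ g ∈ w, g < 6) (t : List ℕ) :
    ∀ g ∈ flatW S t, g < 6 := by
  intro g hg
  obtain ⟨a, -, ha⟩ := List.mem_flatMap.1 hg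
  by_cases h : a < S.length
  · rw [List.getD_eq_getElem _ _ h] at ha
    exact hS _ (List.getElem_mem h) g ha
  · rw [List.getD_eq_default _ _ (Nat.le_of_not_lt h)] at ha
    exact absurd ha List.not_mem_nil

theorem flat_fix {S : List (List ℕ)} {p : Coset} (hS : ∀ w ∈ S, act gen w • p = p) :
    ∀ t : List ℕ, act gen (flatW S t) • p = p
  | [] => by simp [flatW, act_nil]
  | a :: t => by
    simp only [flatW, List.flatMap_cons, act_append, mul_smul]
    have ih := flat_fix hS t
    simp only [flatW] at ih
    by_cases h : a < S.length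
    · rw [List.getD_eq_getElem _ _ h, hS _ (List.getElem_mem h), ih]
    · rw [List.getD_eq_default _ _ (Nat.le_of_not_lt h), act_nil, one_smul, ih]

end CfsgLib.ONanP
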