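import Cfsg.Agent.Lib.Y555.Tables
import Cfsg.Agent.Lib.ONanP.CertSmallCheck
import Cfsg.Agent.Lib.ONanP.CertUCheck

/-!
# Groups satisfying the relations of the six involutions have order at most 3753792
-/

set_option autoImplicit false
set_option maxRecDepth 100000

namespace CfsgLib.ONanP

open CfsgLib.PresCert

variable {M : Type*} [Group M] {q : ℕ → M}

/-- The relations of the six involutions. -/
def HRels (q : ℕ → M) : Prop := ∀ w ∈ certURels, act q w = 1

/-- The word for the last involution. -/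
def wordF : List ℕ := [3, 2, 3, 2, 3, 2, 3, 2, 0]

theorem HRels.sq (hq : HRels q) {i : ℕ} (hi : i < 6) : q i * q i = 1 := by
  have h := hq [i, i] (by interval_cases i <;> decide)
  simpa [act_cons, act_nil] using h

theorem HRels.wordF_eq (hq : HRels q) : act q wordF = q 5 := by
  have hrel := hq ([2, 3, 2, 3, 2, 3, 2, 3] ++ [5, 0]) (by decide)
  rw [act_append] at hrel
  have h2 : act q [5, 0] = q 0 * q 5 := by simp [act_cons, act_nil]
  rw [h2] at hrel
  have e : wordF = ([2, 3, 2, 3, 2, 3, 2, 3] : List ℕ).reverse ++ [0] := by decide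
  rw [e, act_append, act_reverse (ng := 6) (fun g hg => hq.sq hg) (by decide),
    ← eq_inv_of_mul_eq_one_left hrel, act_cons, act_nil, one_mul, ← mul_assoc, hq.sq (by norm_num),
    one_mul]

theorem HRels.rels4 (hq : HRels q) : ∀ w ∈ certTRels, act q w = 1 := by
  have hF : ∀ x < 4, act q ([x] ++ wordF.reverse ++ [x] ++ wordF) = 1 := by
    intro x hx
    rw [act_append, act_append, act_append, act_reverse (ng := 6) (fun g hg => hq.sq hg) (by decide),
      hq.wordF_eq, inv_eq_of_mul_eq_one_right (hq.sq (by norm_num : 5 < 6)), act_cons, act_nil,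
      one_mul]
    have h := act_rotate (hq [5, x, 5, x] (by interval_cases x <;> decide)) 1
    simpa [act_cons, act_nil, mul_assoc] using h
  have hFF : act q (wordF ++ wordF) = 1 := by
    rw [act_append, hq.wordF_eq, hq.sq (by norm_num)]
  have key : ∀ w ∈ certTRels, w ∈ certURels ∨ w = wordF ++ wordF ∨
      ∃ x < 4, w = [x] ++ wordF.reverse ++ [x] ++ wordF := by
    decide +kernel
  intro w hw
  rcases key w hw with h | rfl | ⟨x, hx, rfl⟩
  exacts [hq w h, hFF, hF x hx]

theorem cert_step {D : Data} {S W : List (List ℕ)} {rels : List (List ℕ)}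
    {hints : List (ℕ × ℕ × Bool)} (hD : Closed D W) (hng : D.ng ≤ 6) (hq : HRels q)
    (hr : ∀ w ∈ rels, act q w = 1) (h1 : Y555.hintsOk D rels hints = true)
    (h2 : Y555.marksOk D S = true) {a : ℕ}
    (hS : Finite (genGrp S q) ∧ Nat.card (genGrp S q) ≤ a) :
    Finite (genGrp W q) ∧ Nat.card (genGrp W q) ≤ D.n * a := by
  haveI := hS.1
  have H : Hyp D q ((1 : M) : M ⧸ genGrp S q) :=
    Y555.hyp_of_hints (fun g hg => hq.sq (lt_of_lt_of_le hg hng)) hr (fun w hw => by
      rw [MulAction.Quotient.smul_coe, smul_eq_mul, mul_one, QuotientGroup.eq, mul_one]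
      exact inv_mem (Subgroup.subset_closure ⟨w, hw, rfl⟩)) h1 h2
  obtain ⟨c1, c2⟩ := card_le hD H
  exact ⟨c1, c2.trans (Nat.mul_le_mul_left _ hS.2)⟩

theorem small_checks : Y555.hintsOk certS certSRels certSHints = true ∧
    Y555.marksOk certS [] = true ∧ Y555.hintsOk certT certTRels certTHints = true ∧
    Y555.marksOk certT [[0], [1], [2]] = true ∧
    Y555.hintsOk certU certURels certUHints = true ∧
    Y555.marksOk certU [[0], [1], [2], [3]] = true ∧
    certS.n = 24 ∧ certT.n = 28 ∧ certU.n = 5586 ∧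
    certS.ng ≤ 6 ∧ certT.ng ≤ 6 ∧ certU.ng ≤ 6 ∧
    certSRels.all (fun w => certURels.contains w) = true := by
  decide +kernel

/-- The order bound. -/
theorem hBound (hq : HRels q) : Finite (genGrp [[0], [1], [2], [3], [4], [5]] q) ∧
    Nat.card (genGrp [[0], [1], [2], [3], [4], [5]] q) ≤ 3753792 := by
  obtain ⟨s1, s2, t1, t2, u1, u2, ns, nt, nu, gs, gt, gu, sr⟩ := small_checks
  have hbot : Finite (genGrp ([] : List (List ℕ)) q) ∧ Nat.card (genGrp ([] : List (List ℕ)) q) ≤ 1 := by
    have e : genGrp ([] : List (List ℕ)) q = ⊥ := by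
      rw [genGrp, eq_bot_iff, Subgroup.closure_le]
      rintro x ⟨w, hw, -⟩
      exact absurd hw List.not_mem_nil
    rw [e]
    exact ⟨inferInstance, le_of_eq Subgroup.card_bot⟩
  have hS := cert_step certS_closed gs hq (fun w hw =>
    hq w (List.contains_iff_mem.1 (List.all_eq_true.1 sr w hw))) s1 s2 hbot
  have hT := cert_step certT_closed gt hq hq.rels4 t1 t2 hS
  have hU := cert_step certU_closed gu hq hq u1 u2 hT
  rw [ns, nt, nu] at hU
  exact hU

end CfsgLib.ONanP
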