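import Cfsg.Agent.Lib.ONanP.Closure

/-!
# The index and the order of the presented group
-/

set_option autoImplicit false
set_option maxRecDepth 100000

namespace CfsgLib.ONanP

open CfsgLib.PresCert Cfsg.Spor

/-- The first point. -/
noncomputable def p₀ : Fin tab.n := rootPt 0

theorem cp_gen {g : ℕ} (hg : g < 7) (p : Fin tab.n) : cp (phi (gen g) p) = gen g • cp p := by
  by_cases h : g < 6
  · exact cp_smul (gen_mem_subH h) p
  · obtain rfl : g = 6 := by omega
    have hk := all_known (phi (gen 6) p)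
    rwa [Known, ← Equiv.Perm.mul_apply, ← map_mul,
      show gen 7 = (gen 6)⁻¹ from gen_invIx (i := 6) (by norm_num), inv_mul_cancel, map_one,
      Equiv.Perm.one_apply] at hk

theorem cp_equivariant (m : Cfsg.Spor.ON) : ∀ p : Fin tab.n, cp (phi m p) = m • cp p := by
  have hm : m ∈ genGrp ((List.range 7).map fun g => [g]) gen := closure_all ▸ Subgroup.mem_top m
  induction hm using Subgroup.closure_induction with
  | mem s hs =>
    obtain ⟨w, hw, rfl⟩ := hs
    obtain ⟨g, hg, rfl⟩ := List.mem_map.1 hw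
    rw [act_cons, act_nil, one_mul]
    exact cp_gen (List.mem_range.1 hg)
  | one => intro p; rw [map_one, Equiv.Perm.one_apply, one_smul]
  | mul a b _ _ ha hb => intro p; rw [map_mul, Equiv.Perm.mul_apply, ha, hb, mul_smul]
  | inv a _ ha =>
    intro p
    have h := ha (phi a⁻¹ p)
    rw [← Equiv.Perm.mul_apply, ← map_mul, mul_inv_cancel, map_one, Equiv.Perm.one_apply] at h
    rw [h, inv_smul_smul]

theorem cp_zero : cp p₀ = x₀ := by
  rw [cp_spec (p := p₀) (m := 1) (one_mem _) (i := 0) (by norm_num) (by simp [p₀]), one_smul]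
  show act gen (lead 0) • x₀ = x₀
  rw [show lead 0 = [] from rfl, act_nil, one_smul]

theorem phi_transitive (i j : Fin tab.n) : ∃ m, phi m i = j := by
  have h0 : ∀ p : Fin tab.n, ∃ m, phi m p₀ = p := by
    intro p
    obtain ⟨m, -, hmp⟩ := orbit_reach p
    have hl : orbitLab p.val < 5 := (orbit_spec p.isLt).1
    obtain ⟨e, hlt⟩ := root_walks _ hl
    refine ⟨m * act gen (lead (orbitLab p.val)), ?_⟩
    rw [map_mul, Equiv.Perm.mul_apply]
    refine Eq.trans (congrArg (phi m) (Fin.ext ?_)) hmp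
    rw [phi_act hlt, p₀, rootPt_val (by norm_num), rootPt_val hl, ← e]
    rfl
  obtain ⟨a, ha⟩ := h0 i
  obtain ⟨b, hb⟩ := h0 j
  refine ⟨b * a⁻¹, ?_⟩
  rw [map_mul, Equiv.Perm.mul_apply, ← ha, ← Equiv.Perm.mul_apply (phi a⁻¹), ← map_mul,
    inv_mul_cancel, map_one, Equiv.Perm.one_apply, hb]

theorem subH_fix_zero {m : Cfsg.Spor.ON} (hm : m ∈ subH) : phi m p₀ = p₀ := by
  obtain ⟨-, hsingle⟩ : 0 < 6 ∧ ∀ g < 6, tab.img g (orbitRoot 0) = orbitRoot 0 := by
    decide +kernel
  induction hm using Subgroup.closure_induction with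
  | mem s hs =>
    obtain ⟨w, hw, rfl⟩ := hs
    obtain ⟨g, hg, rfl⟩ := List.mem_map.1 hw
    have hg6 : g < 6 := List.mem_range.1 hg
    refine Fin.ext ?_
    rw [act_cons, act_nil, one_mul, realised.app g (show g < 8 by omega), p₀,
      rootPt_val (by norm_num), hsingle g hg6]
  | one => rw [map_one, Equiv.Perm.one_apply]
  | mul a b _ _ ha hb => rw [map_mul, Equiv.Perm.mul_apply, hb, ha]
  | inv a _ ha =>
    conv_lhs => rw [← ha]
    rw [← Equiv.Perm.mul_apply, ← map_mul, inv_mul_cancel, map_one, Equiv.Perm.one_apply]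

/-- The points are the cosets. -/
theorem cp_bijective : Function.Bijective cp := by
  constructor
  · intro p q h
    obtain ⟨a, ha⟩ := phi_transitive p₀ p
    obtain ⟨b, hb⟩ := phi_transitive p₀ q
    rw [← ha, ← hb, cp_equivariant, cp_equivariant, cp_zero, x₀, MulAction.Quotient.smul_coe,
      MulAction.Quotient.smul_coe, smul_eq_mul, smul_eq_mul, mul_one, mul_one,
      QuotientGroup.eq] at h
    have hf := subH_fix_zero h
    rw [map_mul, Equiv.Perm.mul_apply] at hf
    rw [← ha, ← hb]
    have := congrArg (phi a) hf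
    rw [← Equiv.Perm.mul_apply, ← map_mul, mul_inv_cancel, map_one, Equiv.Perm.one_apply] at this
    exact this.symm
  · intro q
    obtain ⟨m, rfl⟩ := QuotientGroup.mk_surjective q
    refine ⟨phi m p₀, ?_⟩
    rw [cp_equivariant, cp_zero, x₀, MulAction.Quotient.smul_coe, smul_eq_mul, mul_one]

theorem stab_zero {m : Cfsg.Spor.ON} : phi m p₀ = p₀ ↔ m ∈ subH := by
  refine ⟨fun h => ?_, subH_fix_zero⟩
  have := cp_equivariant m p₀
  rw [h, cp_zero] at this
  exact mem_of_fix this.symm

theorem index_subH : subH.index = 122760 := by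
  rw [Subgroup.index_eq_card, ← Nat.card_congr (Equiv.ofBijective cp cp_bijective), Nat.card_fin]
  rfl

theorem card_ON : Nat.card Cfsg.Spor.ON = 460815505920 := by
  rw [← Subgroup.card_mul_index subH, card_subH, index_subH]

instance finite_ON : Finite Cfsg.Spor.ON :=
  Nat.finite_of_card_ne_zero (by rw [card_ON]; norm_num)

theorem phi_injective : Function.Injective phi := by
  refine (MonoidHom.ker_eq_bot_iff _).1 (eq_bot_iff.2 fun m hm => ?_)
  have h : phi m = 1 := MonoidHom.mem_ker.1 hm
  have hmem : m ∈ subH := stab_zero.1 (by rw [h, Equiv.Perm.one_apply])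
  rw [Subgroup.mem_bot]
  exact eq_of_base hmem (one_mem _) fun i _ => by rw [h, map_one]

end CfsgLib.ONanP
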