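import Cfsg.Agent.Lib.ONanP.OutDefs

/-!
# Kernel checks on the plane for the outer automorphisms of the O'Nan group
-/

set_option autoImplicit false
set_option maxRecDepth 100000
set_option maxHeartbeats 0

namespace CfsgLib.ONanP.Out

open CfsgLib.PresCert

theorem levelsU_ok : Fast.levelsOk planeT [] levelsU = true ∧
    (levelsU.map fun l => l.pts.length).prod = 3753792 ∧
    onCycle uW expsU levelsU 0 = true := by decide +kernel

theorem levelsV_ok : Fast.levelsOk planeT [] levelsV = true ∧
    (levelsV.map fun l => l.pts.length).prod = 3753792 ∧
    onCycle vW expsV levelsV 2 = true := by decide +kernel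

theorem v_free : ∀ i < 114, planeT.walk i vW ≠ i := by decide +kernel

theorem sieveU0 : ∀ j < 57, sieveAt uW expsU levelsU inU j = true := by decide +kernel

theorem sieveU1 : ∀ j < 57, sieveAt uW expsU levelsU inU (57 + j) = true := by decide +kernel

theorem sieveV0 : ∀ j < 57, sieveAt vW expsV levelsV inV j = true := by decide +kernel

theorem sieveV1 : ∀ j < 57, sieveAt vW expsV levelsV inV (57 + j) = true := by decide +kernel

end CfsgLib.ONanP.Out
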