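import Cfsg.Agent.Lib.ONanP.OutDefs

/-!
# Kernel checks of words for the outer automorphisms of the O'Nan group
-/

set_option autoImplicit false
set_option maxRecDepth 100000
set_option maxHeartbeats 0

namespace CfsgLib.ONanP.Out

open CfsgLib.PresCert

theorem words_lt : ([uW, vW, invWord uW, invWord vW] ++ centV ++
    (levelsU ++ levelsV).flatMap (fun l => l.gens)).all (fun w => w.all fun g => Nat.blt g 6) &&
    ([wW, invWord wW] ++ imgWords ++ goodPts.map (fun e => e.2) ++ badPts.map (fun e => e.2.1)).all
      (fun w => w.all fun g => Nat.blt g 8) &&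
    badPts.all (fun e => e.2.2.1.all fun g => Nat.blt g 6) = true := by decide +kernel

theorem u_order_check : eqG (repWord 19 uW) [] = true ∧ eqG uW [] = false := by decide +kernel

theorem v_normalises : eqG (uW ++ vW) (vW ++ repWord 8 uW) = true ∧
    eqG (vW ++ uW) (uW ++ vW) = false := by decide +kernel

theorem w_check : eqG (repWord 4 wW) [] = true ∧ eqG (repWord 2 wW) [] = false ∧
    eqG (wW ++ vW) (vW ++ wW) = true ∧ eqG (invWord wW) wW = false := by decide +kernel

theorem good_ok : goodPts.all (fun e => Nat.beq (tab.walk 0 e.2) e.1 &&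
    eqG (vW ++ e.2) (e.2 ++ vW)) = true := by decide +kernel

theorem bad_ok : badPts.all (fun e => Nat.beq (tab.walk 0 e.2.1) e.1 &&
    eqG (e.2.1 ++ vW) (e.2.2.1 ++ e.2.1) &&
    (Nat.blt e.2.2.2 114 && Nat.beq (planeT.walk e.2.2.2 e.2.2.1) e.2.2.2)) = true := by
  decide +kernel

theorem only_w : centV.all (fun c => goodPts.all fun e => wOnly (c ++ e.2)) = true := by
  decide +kernel

theorem order_uw : eqG (repWord 11 (wW ++ uW)) [] = true ∧
    [2, 4].all (fun k => !(eqG (repWord 11 (wW ++ repWord k uW)) []) &&
      !(eqG (repWord 11 (invWord wW ++ repWord k uW)) [])) = true := by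
  decide +kernel

theorem gens_ok : ∀ g < 7,
    eqG (PresCert.expand (three wW) (genWords.getD g [])) [g] = true := by decide +kernel

theorem imgs_ok : ∀ g < 7,
    eqG (PresCert.expand (three (invWord wW)) (genWords.getD g [])) (imgWords.getD g []) = true := by
  decide +kernel

theorem imgs_inv : eqG (imgWords.getD 6 [] ++ imgWords.getD 7 []) [] = true ∧
    (List.range 6).all (fun g => eqG (repWord 2 (imgWords.getD g [])) []) = true := by
  decide +kernel

theorem imgs_rels : presRels.all (fun r => r.all (fun g => Nat.blt g 8) &&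
    eqG (PresCert.expand imgWords r) []) = true := by decide +kernel

theorem imgs_move : eqG (PresCert.expand imgWords uW) uW = true ∧
    eqG (PresCert.expand imgWords vW) vW = true ∧
    eqG (PresCert.expand imgWords wW) (invWord wW) = true := by decide +kernel

theorem reps : ∀ k : Fin 19, k.val ≠ 0 → ∃ l : Fin 6,
    8 ^ l.val * k.val % 19 = 1 ∨ 8 ^ l.val * k.val % 19 = 2 ∨ 8 ^ l.val * k.val % 19 = 4 := by
  decide +kernel

end CfsgLib.ONanP.Out
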