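import Cfsg.Agent.Lib.PresCert.Fast

/-!
# The six involutions on points and lines of the plane of order 7 (generated)
-/

set_option autoImplicit false
set_option maxRecDepth 100000

namespace CfsgLib.ONanP

open CfsgLib.PresCert

/-- The images of the 57 points and 57 lines. -/
def planeImgs : List (List ℕ) :=
  [[57, 58, 59, 60, 61, 62, 63, 64, 65, 66, 67, 68, 69, 70, 71, 72, 73, 74, 75, 76, 77, 78, 79,
    80, 81, 82, 83, 84, 85, 86, 87, 88, 89, 90, 91, 92, 93, 94, 95, 96, 97, 98, 99, 100, 101,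
    102, 103, 104, 105, 106, 107, 108, 109, 110, 111, 112, 113, 0, 1, 2, 3, 4, 5, 6, 7, 8, 9,
    10, 11, 12, 13, 14, 15, 16, 17, 18, 19, 20, 21, 22, 23, 24, 25, 26, 27, 28, 29, 30, 31, 32,
    33, 34, 35, 36, 37, 38, 39, 40, 41, 42, 43, 44, 45, 46, 47, 48, 49, 50, 51, 52, 53, 54, 55,
    56],
  [57, 58, 60, 62, 64, 59, 61, 63, 65, 69, 66, 70, 67, 71, 68, 79, 83, 80, 84, 81, 85, 82, 93,
    97, 94, 98, 95, 99, 96, 107, 111, 108, 112, 109, 113, 110, 72, 76, 73, 77, 74, 78, 75, 86,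
    90, 87, 91, 88, 92, 89, 100, 104, 101, 105, 102, 106, 103, 0, 1, 5, 2, 6, 3, 7, 4, 8, 10,
    12, 14, 9, 11, 13, 36, 38, 40, 42, 37, 39, 41, 15, 17, 19, 21, 16, 18, 20, 43, 45, 47, 49,
    44, 46, 48, 22, 24, 26, 28, 23, 25, 27, 50, 52, 54, 56, 51, 53, 55, 29, 31, 33, 35, 30, 32,
    34],
  [111, 99, 105, 86, 80, 68, 74, 64, 81, 66, 77, 62, 96, 100, 92, 72, 89, 63, 84, 94, 67, 106,
    101, 61, 65, 88, 98, 75, 85, 60, 102, 82, 73, 93, 91, 71, 90, 76, 104, 69, 97, 83, 58, 70,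
    79, 87, 103, 95, 59, 78, 110, 112, 109, 107, 57, 108, 113, 54, 42, 48, 29, 23, 11, 17, 7,
    24, 9, 20, 5, 39, 43, 35, 15, 32, 6, 27, 37, 10, 49, 44, 4, 8, 31, 41, 18, 28, 3, 45, 25,
    16, 36, 34, 14, 33, 19, 47, 12, 40, 26, 1, 13, 22, 30, 46, 38, 2, 21, 53, 55, 52, 50, 0,
    51, 56],
  [65, 58, 72, 93, 100, 79, 86, 107, 57, 66, 69, 70, 67, 68, 71, 59, 73, 97, 105, 81, 89, 113,
    62, 80, 76, 91, 95, 110, 106, 63, 87, 104, 77, 109, 82, 99, 60, 94, 83, 112, 74, 103, 92,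
    61, 101, 111, 98, 88, 75, 85, 64, 108, 90, 84, 102, 96, 78, 8, 1, 15, 36, 43, 22, 29, 50,
    0, 9, 12, 13, 10, 11, 14, 2, 16, 40, 48, 24, 32, 56, 5, 23, 19, 34, 38, 53, 49, 6, 30, 47,
    20, 52, 25, 42, 3, 37, 26, 55, 17, 46, 35, 4, 44, 54, 41, 31, 18, 28, 7, 51, 33, 27, 45,
    39, 21],
  [57, 65, 71, 70, 69, 68, 67, 66, 58, 64, 63, 62, 61, 60, 59, 72, 78, 77, 76, 75, 74, 73, 93,
    96, 99, 95, 98, 94, 97, 100, 102, 104, 106, 101, 103, 105, 79, 84, 82, 80, 85, 83, 81, 86,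
    90, 87, 91, 88, 92, 89, 107, 108, 109, 110, 111, 112, 113, 0, 8, 14, 13, 12, 11, 10, 9, 1,
    7, 6, 5, 4, 3, 2, 15, 21, 20, 19, 18, 17, 16, 36, 39, 42, 38, 41, 37, 40, 43, 45, 47, 49,
    44, 46, 48, 22, 27, 25, 23, 28, 26, 24, 29, 33, 30, 34, 31, 35, 32, 50, 51, 52, 53, 54, 55,
    56],
  [65, 58, 107, 86, 79, 100, 93, 72, 57, 66, 69, 70, 67, 68, 71, 64, 108, 90, 84, 102, 96, 78,
    61, 101, 111, 98, 88, 75, 85, 60, 94, 83, 112, 74, 103, 92, 63, 87, 104, 77, 109, 82, 99,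
    62, 80, 76, 91, 95, 110, 106, 59, 73, 97, 105, 81, 89, 113, 8, 1, 50, 29, 22, 43, 36, 15,
    0, 9, 12, 13, 10, 11, 14, 7, 51, 33, 27, 45, 39, 21, 4, 44, 54, 41, 31, 18, 28, 3, 37, 26,
    55, 17, 46, 35, 6, 30, 47, 20, 52, 25, 42, 5, 23, 19, 34, 38, 53, 49, 2, 16, 40, 48, 24,
    32, 56]]

/-- The coordinates of the points. -/
def planePts : List (List ℕ) :=
  [[0, 0, 1], [0, 1, 0], [0, 1, 1], [0, 1, 2], [0, 1, 3], [0, 1, 4], [0, 1, 5], [0, 1, 6],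
    [1, 0, 0], [1, 0, 1], [1, 0, 2], [1, 0, 3], [1, 0, 4], [1, 0, 5], [1, 0, 6], [1, 1, 0],
    [1, 1, 1], [1, 1, 2], [1, 1, 3], [1, 1, 4], [1, 1, 5], [1, 1, 6], [1, 2, 0], [1, 2, 1],
    [1, 2, 2], [1, 2, 3], [1, 2, 4], [1, 2, 5], [1, 2, 6], [1, 3, 0], [1, 3, 1], [1, 3, 2],
    [1, 3, 3], [1, 3, 4], [1, 3, 5], [1, 3, 6], [1, 4, 0], [1, 4, 1], [1, 4, 2], [1, 4, 3],
    [1, 4, 4], [1, 4, 5], [1, 4, 6], [1, 5, 0], [1, 5, 1], [1, 5, 2], [1, 5, 3], [1, 5, 4],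
    [1, 5, 5], [1, 5, 6], [1, 6, 0], [1, 6, 1], [1, 6, 2], [1, 6, 3], [1, 6, 4], [1, 6, 5],
    [1, 6, 6]]

/-- The matrices of the products with the first involution. -/
def planeMats : List (List ℕ) :=
  [[1, 0, 0, 0, 1, 0, 0, 0, 1], [1, 0, 0, 0, 2, 0, 0, 0, 4], [1, 2, 2, 2, 1, 5, 2, 5, 1],
    [0, 0, 6, 0, 6, 0, 6, 0, 0], [0, 1, 0, 1, 0, 0, 0, 0, 6], [0, 0, 1, 0, 6, 0, 1, 0, 0]]

/-- The levels of the action on points and lines. -/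
def planeLevels : List Fast.Level :=
  [⟨0, [[0], [1], [2], [3], [4], [5]],
    [0, 57, 111, 65, 54, 8, 30, 45, 24, 1, 102, 81, 58, 87, 94, 76, 99, 19, 42, 37, 27, 18, 35,
    75, 92, 84, 110, 105, 71, 48, 14, 53, 50, 2, 13, 59, 68, 107, 100, 64, 60, 72, 70, 5, 15,
    11, 29, 7, 43, 4, 9, 3, 36, 62, 79, 86, 63, 66, 61, 80, 69, 93, 90, 22, 44, 6, 17, 10, 23,
    12, 39, 33, 52, 101, 74, 67, 97, 77, 96, 112, 109, 40, 20, 28, 32, 55, 51, 85, 89, 106, 73,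
    108, 104, 49, 16, 21, 38, 31, 47, 78, 83, 82, 113, 95, 88, 41, 56, 26, 25, 34, 98, 103, 91,
    46],
    [(0, 0), (2, 0), (3, 0), (2, 1), (3, 1), (1, 2), (3, 2), (5, 2), (4, 3), (1, 4), (5, 4),
    (4, 5), (0, 6), (5, 6), (5, 7), (4, 8), (5, 10), (4, 11), (5, 13), (4, 14), (4, 15),
    (3, 16), (4, 17), (3, 18), (4, 19), (3, 20), (3, 21), (2, 22), (3, 23), (2, 24), (3, 25),
    (2, 26), (2, 27), (1, 28), (2, 29), (1, 30), (2, 31), (1, 32), (3, 32), (1, 33), (3, 33),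
    (0, 34), (1, 35), (3, 35), (0, 36), (1, 37), (3, 37), (0, 38), (3, 38), (4, 39), (0, 40),
    (3, 40), (0, 43), (3, 43), (0, 46), (3, 46), (4, 47), (3, 48), (2, 49), (4, 49), (3, 51),
    (2, 52), (3, 53), (2, 54), (3, 55), (2, 56), (4, 56), (2, 58), (4, 58), (4, 59), (2, 61),
    (3, 62), (2, 63), (2, 65), (4, 65), (3, 66), (4, 66), (4, 68), (3, 70), (1, 71), (1, 74),
    (4, 74), (4, 76), (3, 77), (3, 78), (2, 79), (4, 81), (3, 82), (3, 83), (2, 84), (2, 85),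
    (1, 86), (3, 87), (2, 88), (2, 89), (1, 90), (1, 91), (0, 92), (2, 93), (1, 94), (1, 95),
    (3, 95), (0, 96), (0, 97), (1, 99), (3, 99), (0, 100), (0, 101), (3, 101), (0, 105),
    (3, 105), (3, 108), (3, 110)]⟩,
  ⟨1, [[1, 0], [4, 0], [5, 3], [0, 2, 3, 1, 2, 0]],
    [1, 8, 2, 19, 3, 14, 7, 24, 18, 54, 5, 13, 6, 11, 9, 37, 42, 45, 27, 53, 4, 17, 10, 15, 12,
    20, 30, 35, 48, 50, 23, 52, 21, 22, 16, 28, 55, 43, 33, 40, 39, 44, 25, 56, 36, 26, 51, 49,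
    29, 32, 41, 38, 46, 47, 34, 31],
    [(1, 0), (3, 0), (3, 1), (0, 2), (1, 2), (2, 2), (0, 3), (1, 3), (2, 3), (0, 4), (1, 4),
    (2, 4), (0, 5), (1, 6), (0, 7), (1, 7), (2, 7), (0, 8), (2, 8), (2, 10), (3, 11), (1, 12),
    (3, 13), (0, 14), (3, 14), (2, 15), (2, 16), (2, 18), (3, 18), (3, 19), (2, 21), (3, 22),
    (0, 23), (3, 24), (0, 25), (2, 25), (3, 27), (3, 28), (0, 30), (1, 30), (2, 30), (0, 32),
    (2, 32), (0, 33), (0, 34), (2, 34), (2, 35), (0, 37), (2, 40), (0, 42), (1, 42), (2, 42),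
    (2, 45), (3, 47), (2, 51)]⟩,
  ⟨2, [[1, 0], [5, 3], [4, 0, 5, 3, 0, 4], [0, 2, 3, 1, 2, 0, 4, 0, 5, 3, 0, 4, 0, 2, 1, 3, 2, 0]],
    [2, 3, 7, 5, 6, 4],
    [(0, 0), (1, 0), (0, 1), (1, 1), (1, 3)]⟩,
  ⟨8, [[4, 0, 5, 3, 0, 4], [0, 2, 3, 1, 2, 0, 4, 0, 5, 3, 0, 4, 0, 2, 1, 3, 2, 0],
    [1, 2, 3, 1, 2, 0, 4, 0, 5, 3, 0, 4, 0, 2, 1, 3, 2, 1]],
    [8, 23, 17, 49, 51, 55, 21, 38, 32, 29, 26, 11, 34, 36, 40, 45, 46, 12, 27, 53, 47, 44, 41,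
    42, 35, 20, 54, 19, 28, 25, 30, 31, 39, 37, 52, 18, 33, 13, 10, 56, 50, 43, 48, 22, 14, 15,
    16, 24, 9],
    [(1, 0), (2, 0), (0, 1), (2, 1), (0, 2), (1, 2), (1, 3), (2, 3), (1, 4), (2, 5), (2, 6),
    (0, 7), (2, 7), (0, 8), (2, 9), (0, 10), (1, 10), (1, 11), (1, 12), (2, 12), (1, 13),
    (2, 14), (1, 15), (2, 16), (2, 17), (2, 18), (0, 19), (2, 19), (0, 20), (2, 21), (0, 22),
    (2, 23), (0, 24), (1, 24), (1, 25), (1, 26), (2, 27), (1, 28), (2, 29), (1, 30), (2, 31),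
    (1, 32), (2, 34), (2, 35), (2, 38), (0, 39), (2, 40), (1, 43)]⟩,
  ⟨9, [[4, 0, 5, 3, 0, 4]],
    [9, 14],
    [(0, 0)]⟩]

end CfsgLib.ONanP
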