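import Cfsg.Agent.Lib.ONanP.Order
import Cfsg.Agent.Lib.ONanP.PlaneData
import Cfsg.Agent.Lib.Classical.GLOrder
import Cfsg.Agent.Lib.Classical.SLBasic

/-!
# The subgroup of the six involutions has a subgroup of index two isomorphic to PSL(3, 7)
-/

set_option autoImplicit false
set_option maxRecDepth 100000

namespace CfsgLib.ONanP

open CfsgLib.PresCert Cfsg.Spor
open scoped LinearAlgebra.Projectivization

/-- The table of points and lines. -/
def planeTab : Fast.Tab where
  ng := 6
  n := 114
  img g i := (planeImgs.getD g []).getD i 0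

theorem planeTab_inv : ∀ g < 6, ∀ i < 114,
    planeTab.img g i < 114 ∧ planeTab.img g (planeTab.img g i) = i := by
  decide +kernel

/-- The permutation of a letter on points and lines. -/
def planePerm (g : ℕ) : Equiv.Perm (Fin planeTab.n) :=
  if hg : g < 6 then
    { toFun := fun i => ⟨planeTab.img g i.val, (planeTab_inv g hg _ i.isLt).1⟩
      invFun := fun i => ⟨planeTab.img g i.val, (planeTab_inv g hg _ i.isLt).1⟩
      left_inv := fun i => Fin.ext (planeTab_inv g hg _ i.isLt).2
      right_inv := fun i => Fin.ext (planeTab_inv g hg _ i.isLt).2 }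
  else 1

theorem planePerm_apply {g : ℕ} (hg : g < 6) (i : Fin planeTab.n) :
    ((planePerm g i : Fin planeTab.n) : ℕ) = planeTab.img g i.val := by
  simp [planePerm, dif_pos hg]

/-- The pairs of the abstract and the geometric element. -/
noncomputable def bothGen (g : ℕ) : subH × Equiv.Perm (Fin planeTab.n) := (hGen g, planePerm g)

theorem act_both : ∀ w : List ℕ, act bothGen w = (act hGen w, act planePerm w)
  | [] => rfl
  | g :: w => by rw [act_cons, act_both w, act_cons, act_cons]; rfl

theorem planeRels : certURels.all (fun w => w.all (fun g => Nat.blt g 6) &&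
    (List.range 114).all fun i => Nat.beq (planeTab.walk i w) i) = true := by
  decide +kernel

theorem hRels_both : HRels bothGen := by
  intro w hw
  have h := List.all_eq_true.1 planeRels w hw
  simp only [Bool.and_eq_true, List.all_eq_true, Nat.blt_eq, List.mem_range, Nat.beq_eq] at h
  rw [act_both, Prod.ext_iff]
  refine ⟨Subtype.ext ?_, Equiv.ext fun i => Fin.ext ?_⟩
  · rw [hGen_act h.1]
    exact hRels_gen w hw
  · have R : Fast.Realised planePerm planeTab (MonoidHom.id _) :=
      ⟨fun g i hg hi => (planeTab_inv g hg i hi).1, fun g hg i => planePerm_apply hg i⟩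
    have h1 := R.act_apply (w := w) h.1 i
    rw [MonoidHom.id_apply] at h1
    exact h1.trans (h.2 i.val i.isLt)

/-- The graph of the action on points and lines. -/
noncomputable def graph : Subgroup (subH × Equiv.Perm (Fin planeTab.n)) :=
  genGrp [[0], [1], [2], [3], [4], [5]] bothGen

theorem bothGen_mem {g : ℕ} (hg : g < 6) : bothGen g ∈ graph :=
  Subgroup.subset_closure ⟨[g], by interval_cases g <;> simp, by
    rw [act_cons, act_nil, one_mul]⟩

/-- The projection of the graph. -/
noncomputable def graphFst : graph →* subH := (MonoidHom.fst _ _).comp graph.subtype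

theorem graphFst_bijective : Function.Bijective graphFst := by
  haveI := (hBound hRels_both).1
  haveI := subH_finite.1
  have hsurj : Function.Surjective graphFst := by
    rintro ⟨m, hm⟩
    induction hm using Subgroup.closure_induction with
    | mem s hs =>
      obtain ⟨w, hw, rfl⟩ := hs
      obtain ⟨g, hg, rfl⟩ := List.mem_map.1 hw
      have hg6 : g < 6 := List.mem_range.1 hg
      refine ⟨⟨bothGen g, bothGen_mem hg6⟩, Subtype.ext ?_⟩
      show ((hGen g : subH) : Cfsg.Spor.ON) = act gen [g]
      rw [hGen, dif_pos hg6, act_cons, act_nil, one_mul]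
    | one => exact ⟨1, map_one _⟩
    | mul a b ha hb iha ihb =>
      obtain ⟨x, hx⟩ := iha
      obtain ⟨y, hy⟩ := ihb
      exact ⟨x * y, by rw [map_mul, hx, hy]; rfl⟩
    | inv a ha iha =>
      obtain ⟨x, hx⟩ := iha
      exact ⟨x⁻¹, by rw [map_inv, hx]; rfl⟩
  have hle : Nat.card graph ≤ Nat.card subH := card_subH ▸ (hBound hRels_both).2
  exact hsurj.bijective_of_nat_card_le hle

/-- The action of the subgroup on points and lines. -/
noncomputable def planeHom : subH →* Equiv.Perm (Fin planeTab.n) :=
  ((MonoidHom.snd _ _).comp graph.subtype).comp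
    (MulEquiv.ofBijective graphFst graphFst_bijective).symm.toMonoidHom

theorem planeHom_gen {g : ℕ} (hg : g < 6) : planeHom (hGen g) = planePerm g := by
  have h : (MulEquiv.ofBijective graphFst graphFst_bijective).symm (hGen g) =
      ⟨bothGen g, bothGen_mem hg⟩ :=
    (MulEquiv.ofBijective graphFst graphFst_bijective).symm_apply_eq.2 rfl
  show ((MulEquiv.ofBijective graphFst graphFst_bijective).symm (hGen g) :
    subH × Equiv.Perm (Fin planeTab.n)).2 = _
  rw [h]
  rfl

theorem realised_plane : Fast.Realised hGen planeTab planeHom :=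
  ⟨fun g i hg hi => (planeTab_inv g hg i hi).1, fun g hg i => by
    rw [planeHom_gen hg]; exact planePerm_apply hg i⟩

theorem planeLevels_ok : Fast.levelsOk planeTab [] planeLevels = true ∧
    (planeLevels.map fun l => l.pts.length).prod = 3753792 ∧
    planeLevels.all (fun l => Nat.blt l.base 57) = true := by
  decide +kernel

/-- An element fixing all points is trivial. -/
theorem plane_faithful {h : subH} (hh : ∀ i : Fin planeTab.n, i.val < 57 → planeHom h i = i) :
    h = 1 := by
  haveI := subH_finite.1
  obtain ⟨ok, hp, hb⟩ := planeLevels_ok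
  have htight := (Fast.base_tight realised_plane ok (by
    rw [Fast.fixSub_nil, Subgroup.card_top, hp, card_subH])).2
  have hmem : h ∈ Fast.fixSub planeHom ([] ++ planeLevels.map Fast.Level.base) := by
    intro i hi
    rw [List.nil_append] at hi
    obtain ⟨l, hl, hli⟩ := List.mem_map.1 hi
    exact hh i (hli ▸ Nat.blt_eq.mp (List.all_eq_true.1 hb l hl))
  rwa [htight, Subgroup.mem_bot] at hmem

/-- A product with the first involution. -/
def pairGen (x : ℕ) : subH := hGen 0 * hGen x

/-- The subgroup generated by products of two of the involutions. -/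
def evenPart : Subgroup subH := Subgroup.closure {h | ∃ x < 6, pairGen x = h}

theorem hGen_sq {g : ℕ} (hg : g < 6) : hGen g * hGen g = 1 := by
  rw [hGen, dif_pos hg]
  exact Subtype.ext (gen_sq hg)

theorem subH_generated : (Subgroup.closure {h : subH | ∃ x < 6, hGen x = h}) = ⊤ := by
  rw [eq_top_iff]
  rintro ⟨m, hm⟩ -
  induction hm using Subgroup.closure_induction with
  | mem s hs =>
    obtain ⟨w, hw, rfl⟩ := hs
    obtain ⟨g, hg, rfl⟩ := List.mem_map.1 hw
    have hg6 : g < 6 := List.mem_range.1 hg
    refine Subgroup.subset_closure ⟨g, hg6, Subtype.ext ?_⟩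
    show ((hGen g : subH) : Cfsg.Spor.ON) = act gen [g]
    rw [hGen, dif_pos hg6, act_cons, act_nil, one_mul]
  | one => exact one_mem _
  | mul a b ha hb iha ihb => exact mul_mem iha ihb
  | inv a ha iha => exact inv_mem iha

theorem evenPart_cover (h : subH) : h ∈ evenPart ∨ hGen 0 * h ∈ evenPart := by
  have h0 := hGen_sq (show 0 < 6 by norm_num)
  have i0 : (hGen 0)⁻¹ = hGen 0 := inv_eq_of_mul_eq_one_right h0
  have conj : ∀ e ∈ evenPart, hGen 0 * e * hGen 0 ∈ evenPart := by
    intro e he
    induction he using Subgroup.closure_induction with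
    | mem s hs =>
      obtain ⟨x, hx, rfl⟩ := hs
      have : hGen 0 * pairGen x * hGen 0 = (pairGen x)⁻¹ := by
        rw [pairGen, mul_inv_rev, i0, inv_eq_of_mul_eq_one_right (hGen_sq hx), ← mul_assoc, h0,
          one_mul]
      rw [this]
      exact inv_mem (Subgroup.subset_closure ⟨x, hx, rfl⟩)
    | one => rw [mul_one, h0]; exact one_mem _
    | mul a b _ _ iha ihb =>
      have : hGen 0 * (a * b) * hGen 0 = hGen 0 * a * hGen 0 * (hGen 0 * b * hGen 0) := by
        simp only [mul_assoc]
        rw [← mul_assoc (hGen 0) (hGen 0), h0, one_mul]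
      rw [this]
      exact mul_mem iha ihb
    | inv a _ iha =>
      have : hGen 0 * a⁻¹ * hGen 0 = (hGen 0 * a * hGen 0)⁻¹ := by
        rw [mul_inv_rev, mul_inv_rev, i0, ← mul_assoc]
      rw [this]
      exact inv_mem iha
  have hh : h ∈ Subgroup.closure {h : subH | ∃ x < 6, hGen x = h} :=
    subH_generated ▸ Subgroup.mem_top h
  induction hh using Subgroup.closure_induction with
  | mem s hs =>
    obtain ⟨x, hx, rfl⟩ := hs
    exact Or.inr (Subgroup.subset_closure ⟨x, hx, rfl⟩)
  | one => exact Or.inl (one_mem _)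
  | mul a b _ _ iha ihb =>
    rcases iha with ha | ha <;> rcases ihb with hb | hb
    · exact Or.inl (mul_mem ha hb)
    · refine Or.inr ?_
      have e : hGen 0 * (a * b) = hGen 0 * a * hGen 0 * (hGen 0 * b) := by
        simp only [mul_assoc]
        rw [← mul_assoc (hGen 0) (hGen 0), h0, one_mul]
      rw [e]
      exact mul_mem (conj a ha) hb
    · refine Or.inr ?_
      rw [← mul_assoc]
      exact mul_mem ha hb
    · refine Or.inl ?_
      have hb' := conj _ hb
      rw [← mul_assoc, h0, one_mul] at hb'
      have e : a * b = hGen 0 * (hGen 0 * a) * hGen 0 * (hGen 0 * b) := by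
        rw [← mul_assoc (hGen 0), h0, one_mul, mul_assoc a, ← mul_assoc (hGen 0) (hGen 0), h0,
          one_mul]
      rw [e]
      exact mul_mem (conj _ ha) hb
  | inv a _ iha =>
    rcases iha with ha | ha
    · exact Or.inl (inv_mem ha)
    · refine Or.inr ?_
      have h' := conj _ (inv_mem ha)
      rwa [mul_inv_rev, i0, mul_assoc, mul_assoc, h0, mul_one] at h'

instance fact_seven : Fact (Nat.Prime 7) := ⟨by norm_num⟩

/-- The coordinates of a point. -/
def ptVec (i : ℕ) : Fin 3 → ZMod 7 := fun k => ((planePts.getD i []).getD k.val 0 : ℕ)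

/-- The matrix of a product. -/
def pairMat (x : ℕ) : Matrix (Fin 3) (Fin 3) (ZMod 7) :=
  Matrix.of fun r c => ((planeMats.getD x []).getD (3 * r.val + c.val) 0 : ℕ)

theorem ptVec_ne : ∀ i < 57, ptVec i ≠ 0 := by decide +kernel

theorem ptVec_cover : ∀ v : Fin 3 → ZMod 7, v = 0 ∨
    ∃ i < 57, ∃ a : ZMod 7, a ≠ 0 ∧ a • v = ptVec i := by
  decide +kernel

theorem ptVec_sep : ∀ i < 57, ∀ j < 57, ∀ a : ZMod 7, a • ptVec i = ptVec j → i = j := by
  decide +kernel

theorem pairMat_det : ∀ x < 6, (pairMat x).det = 1 := by decide +kernel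

theorem pairMat_act : ∀ x < 6, ∀ i < 57, planeTab.img 0 (planeTab.img x i) < 57 ∧
    ∃ a : ZMod 7, a ≠ 0 ∧
      a • (pairMat x).mulVec (ptVec i) = ptVec (planeTab.img 0 (planeTab.img x i)) := by
  decide +kernel

/-- The product as an element of the special linear group. -/
def pairSL (x : Fin 6) : Matrix.SpecialLinearGroup (Fin 3) (ZMod 7) :=
  ⟨pairMat x.val, pairMat_det x.val x.isLt⟩

/-- The type of the points. -/
abbrev PlanePt : Type := {i : Fin planeTab.n // i.val < 57}

/-- The projective point of a point. -/
noncomputable def ptProj (i : PlanePt) : ℙ (ZMod 7) (Fin 3 → ZMod 7) :=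
  Projectivization.mk (ZMod 7) (ptVec i.val.val) (ptVec_ne _ i.2)

theorem ptProj_bijective : Function.Bijective ptProj := by
  constructor
  · intro i j h
    rw [ptProj, ptProj, Projectivization.mk_eq_mk_iff'] at h
    obtain ⟨a, ha⟩ := h
    exact Subtype.ext (Fin.ext (ptVec_sep _ j.2 _ i.2 a ha).symm)
  · intro p
    induction p using Projectivization.ind with
    | h v hv =>
      obtain rfl | ⟨i, hi, a, ha, e⟩ := ptVec_cover v
      · exact absurd rfl hv
      refine ⟨⟨⟨i, lt_trans hi (by norm_num [planeTab])⟩, hi⟩, ?_⟩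
      rw [ptProj, Projectivization.mk_eq_mk_iff']
      exact ⟨a, e⟩

/-- The products preserve the points. -/
theorem evenPart_points {h : subH} (hh : h ∈ evenPart) (i : Fin planeTab.n) :
    (planeHom h i).val < 57 ↔ i.val < 57 := by
  induction hh using Subgroup.closure_induction generalizing i with
  | mem s hs =>
    obtain ⟨x, hx, rfl⟩ := hs
    have hlines : ∀ x < 6, ∀ i < 114,
        (planeTab.img 0 (planeTab.img x i) < 57 ↔ i < 57) := by
      decide +kernel
    rw [pairGen, map_mul, planeHom_gen (show 0 < 6 by norm_num), planeHom_gen hx,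
      Equiv.Perm.mul_apply, planePerm_apply (show 0 < 6 by norm_num), planePerm_apply hx]
    exact hlines x hx i.val i.isLt
  | one => rw [map_one, Equiv.Perm.one_apply]
  | mul a b _ _ iha ihb => rw [map_mul, Equiv.Perm.mul_apply, iha, ihb]
  | inv a _ iha =>
    have := iha (planeHom a⁻¹ i)
    rw [← Equiv.Perm.mul_apply, ← map_mul, mul_inv_cancel, map_one, Equiv.Perm.one_apply] at this
    exact this.symm

/-- The action of the products on the points. -/
noncomputable def pointHom : evenPart →* Equiv.Perm PlanePt where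
  toFun h := (planeHom h.1).subtypePerm (fun i => evenPart_points h.2 i)
  map_one' := Equiv.ext fun i => Subtype.ext (by simp)
  map_mul' a b := Equiv.ext fun i => Subtype.ext (by
    show planeHom ((a * b : evenPart) : subH) i.1 = planeHom a.1 (planeHom b.1 i.1)
    rw [Subgroup.coe_mul, map_mul, Equiv.Perm.mul_apply])

/-- The action of the projective group on the points. -/
noncomputable def pslPoints :
    Matrix.ProjectiveSpecialLinearGroup (Fin 3) (ZMod 7) →* Equiv.Perm PlanePt :=
  (Equiv.ofBijective ptProj ptProj_bijective).symm.permCongrHom.toMonoidHom.comp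
    (Projectivization.PSLAction.toPermHom (ι := Fin 3) (K := ZMod 7))

theorem pslPoints_injective : Function.Injective pslPoints :=
  (Equiv.ofBijective ptProj ptProj_bijective).symm.permCongrHom.injective.comp
    Matrix.ProjectiveSpecialLinearGroup.toPermHom_injective

theorem pointHom_range : ∀ h : evenPart, pointHom h ∈ pslPoints.range := by
  rintro ⟨h, hh⟩
  induction hh using Subgroup.closure_induction with
  | mem s hs =>
    obtain ⟨x, hx, rfl⟩ := hs
    refine ⟨QuotientGroup.mk (pairSL ⟨x, hx⟩), Equiv.ext fun i => ?_⟩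
    obtain ⟨hlt, a, ha, e⟩ := pairMat_act x hx i.val.val i.2
    have e1 : pointHom ⟨pairGen x, Subgroup.subset_closure ⟨x, hx, rfl⟩⟩ i =
        ⟨⟨planeTab.img 0 (planeTab.img x i.val.val), lt_trans hlt (by norm_num [planeTab])⟩,
          hlt⟩ := by
      refine Subtype.ext (Fin.ext ?_)
      show ((planeHom (pairGen x) i.val : Fin planeTab.n) : ℕ) = _
      rw [pairGen, map_mul, planeHom_gen (show 0 < 6 by norm_num), planeHom_gen hx,
        Equiv.Perm.mul_apply, planePerm_apply (show 0 < 6 by norm_num), planePerm_apply hx]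
    rw [e1]
    show (Equiv.ofBijective ptProj ptProj_bijective).symm
      (pairSL ⟨x, hx⟩ • ptProj i) = _
    rw [Equiv.symm_apply_eq, Equiv.ofBijective_apply, ptProj, Projectivization.smul_mk, ptProj,
      eq_comm, Projectivization.mk_eq_mk_iff']
    exact ⟨a, e⟩
  | one => exact ⟨1, by rw [map_one]; exact (map_one pointHom).symm⟩
  | mul a b ha hb iha ihb =>
    obtain ⟨p, hp⟩ := iha
    obtain ⟨r, hr⟩ := ihb
    exact ⟨p * r, by rw [map_mul, hp, hr, ← map_mul]; rfl⟩
  | inv a ha iha =>
    obtain ⟨p, hp⟩ := iha
    exact ⟨p⁻¹, by rw [map_inv, hp, ← map_inv]; rfl⟩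

theorem pointHom_injective : Function.Injective pointHom := by
  refine (MonoidHom.ker_eq_bot_iff _).1 (eq_bot_iff.2 fun h hh => ?_)
  rw [Subgroup.mem_bot]
  refine Subtype.ext (plane_faithful fun i hi => ?_)
  have := congrArg (fun p : Equiv.Perm PlanePt => (p ⟨i, hi⟩ : PlanePt).val)
    (MonoidHom.mem_ker.1 hh)
  exact this

theorem card_psl : Nat.card (Matrix.ProjectiveSpecialLinearGroup (Fin 3) (ZMod 7)) = 1876896 := by
  have h := CfsgLib.Classical.card_PSL_mul (F := ZMod 7) (q := 7) (ZMod.card 7) 3 (by norm_num)
  rw [Fin.prod_univ_three] at h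
  norm_num at h
  rw [Nat.card_eq_fintype_card]
  omega

theorem evenPart_index : evenPart.index = 2 ∧ Nat.card evenPart = 1876896 := by
  haveI := subH_finite.1
  have hle : Nat.card evenPart ≤ 1876896 := by
    refine le_trans (Nat.card_le_card_of_injective
      (fun h => (⟨pointHom h, pointHom_range h⟩ : pslPoints.range))
      fun a b e => pointHom_injective (congrArg Subtype.val e)) ?_
    rw [← Nat.card_congr (MonoidHom.ofInjective pslPoints_injective).toEquiv, card_psl]
  have hidx : evenPart.index ≤ 2 := by
    rw [Subgroup.index_eq_card]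
    refine (Nat.card_le_card_of_surjective
      (fun b : Bool => if b then ((1 : subH) : subH ⧸ evenPart)
        else (((hGen 0)⁻¹ : subH) : subH ⧸ evenPart)) fun q => ?_).trans (by simp)
    obtain ⟨h, rfl⟩ := QuotientGroup.mk_surjective q
    rcases evenPart_cover h with hh | hh
    · exact ⟨true, QuotientGroup.eq.2 (by simpa using hh)⟩
    · exact ⟨false, QuotientGroup.eq.2 (by simpa using hh)⟩
  have hmul := Subgroup.card_mul_index evenPart
  rw [card_subH] at hmul
  have h2 : evenPart.index = 2 := by
    refine le_antisymm hidx ?_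
    by_contra hne
    have := Nat.mul_le_mul hle (Nat.le_of_lt_succ (Nat.lt_of_not_le hne))
    omega
  exact ⟨h2, by rw [h2] at hmul; omega⟩

/-- The isomorphism. -/
theorem evenPart_iso :
    Nonempty (evenPart ≃* Matrix.ProjectiveSpecialLinearGroup (Fin 3) (ZMod 7)) := by
  haveI := subH_finite.1
  let f : evenPart →* pslPoints.range := pointHom.codRestrict _ pointHom_range
  haveI : Finite pslPoints.range :=
    Finite.of_equiv _ (MonoidHom.ofInjective pslPoints_injective).toEquiv
  have hf : Function.Bijective f := by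
    refine (Nat.bijective_iff_injective_and_card f).2
      ⟨fun a b e => pointHom_injective (congrArg Subtype.val e), ?_⟩
    rw [evenPart_index.2, ← Nat.card_congr (MonoidHom.ofInjective pslPoints_injective).toEquiv,
      card_psl]
  exact ⟨(MulEquiv.ofBijective f hf).trans (MonoidHom.ofInjective pslPoints_injective).symm⟩

/-- The first two levels of the action on points and lines. -/
theorem plane_fixed : planeLevels.length ≠ 0 ∧ (planeLevels.getD 0 ⟨0, [], [], []⟩).base = 0 ∧
    (∀ p < 114, p ∈ (planeLevels.getD 0 ⟨0, [], [], []⟩).pts) ∧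
    (∀ w ∈ (planeLevels.getD 1 ⟨0, [], [], []⟩).gens,
      (∀ g ∈ w, g < 6) ∧ planeTab.walk 0 w = 0) ∧
    (∀ i < 114, (∀ w ∈ (planeLevels.getD 1 ⟨0, [], [], []⟩).gens, planeTab.walk i w = i) →
      i = 0) := by
  decide +kernel

/-- The subgroup of the six involutions has trivial centre. -/
theorem center_subH {k : subH} (hk : ∀ h : subH, k * h = h * k) : k = 1 := by
  obtain ⟨hlen, hb, hall, hgens, honly⟩ := plane_fixed
  set p : Fin planeTab.n := ⟨0, show 0 < 114 by norm_num⟩
  have hcomm : ∀ (h : subH) (i : Fin planeTab.n),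
      planeHom k (planeHom h i) = planeHom h (planeHom k i) := fun h i => by
    rw [← Equiv.Perm.mul_apply, ← map_mul, hk, map_mul, Equiv.Perm.mul_apply]
  have hp : planeHom k p = p := by
    refine Fin.ext (honly _ (Fin.isLt _) fun w hw => ?_)
    obtain ⟨h6, h0⟩ := hgens w hw
    have e : planeHom (act hGen w) p = p := Fin.ext ((realised_plane.act_apply h6 p).trans h0)
    have := hcomm (act hGen w) p
    rw [e] at this
    rw [← realised_plane.act_apply h6, ← this]
  refine plane_faithful fun i _ => ?_
  have hl : Fast.levelOk planeTab [] (planeLevels.getD 0 ⟨0, [], [], []⟩) = true := by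
    have := planeLevels_ok.1
    cases hP : planeLevels with
    | nil => exact absurd (by rw [hP]; rfl) hlen
    | cons a as =>
      rw [hP] at this
      simp only [Fast.levelsOk, Bool.and_eq_true] at this
      simpa using this.1
  obtain ⟨j, hj, e⟩ := List.getElem_of_mem (hall i.val i.isLt)
  obtain ⟨w1, -, w3⟩ := Fast.level_spec realised_plane hl j hj (j + 1) (Nat.lt_succ_self _)
  rw [List.getD_eq_getElem _ _ hj, e, hb] at w3
  have ei : planeHom (act hGen ((planeLevels.getD 0 ⟨0, [], [], []⟩).word (j + 1) j)) p = i :=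
    Fin.ext ((realised_plane.act_apply w1 p).trans w3)
  rw [← ei, hcomm, hp]

theorem evenPart_normal : evenPart.Normal := Subgroup.normal_of_index_eq_two evenPart_index.1

theorem evenPart_simple : IsSimpleGroup evenPart := by
  obtain ⟨e⟩ := evenPart_iso
  haveI : IsSimpleGroup (Matrix.ProjectiveSpecialLinearGroup (Fin 3) (ZMod 7)) :=
    CfsgLib.Classical.isSimpleGroup_PSL (by simp)
  exact e.isSimpleGroup

end CfsgLib.ONanP
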