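import Cfsg.Agent.Lib.ONanP.OutDefs
import Cfsg.Agent.Lib.ONanP.Plane
import Cfsg.Agent.Lib.ONanP.OutCheckPlane
import Cfsg.Agent.Lib.ONanP.OutCheckWords

/-!
# Centralisers in the subgroup of the six involutions

An element of the subgroup commuting with the element of order 19, or with the one of order 6, is
found from the image of one point of the plane.
-/

set_option autoImplicit false
set_option maxRecDepth 100000

namespace CfsgLib.ONanP.Out

open CfsgLib.PresCert

section sift

variable {M : Type*} [Group M] [Finite M] {T : Fast.Tab} {g₀ : ℕ → M}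
  {φ : M →* Equiv.Perm (Fin T.n)}

/-- An element with given images of the base points is found. -/
theorem sift_spec (R : Fast.Realised g₀ T φ) (hsq : ∀ g, g < T.ng → g₀ g * g₀ g = 1) :
    ∀ {fixed : List ℕ} {ls : List Fast.Level}, Fast.levelsOk T fixed ls = true →
      Nat.card (Fast.fixSub φ fixed) ≤ (ls.map fun l => l.pts.length).prod →
      ∀ m ∈ Fast.fixSub φ fixed, ∀ ps : List ℕ,
        List.Forall₂ (fun (l : Fast.Level) p => ∀ i : Fin T.n, i.val = l.base →
          ((φ m i : Fin T.n) : ℕ) = p) ls ps →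
        ∃ r, sift T ls ps = some r ∧ act g₀ r = m ∧ ∀ g ∈ r, g < T.ng
  | fixed, [], _, hle, m, hm, ps, _ => by
    refine ⟨[], ?_, ?_, fun _ h => absurd h List.not_mem_nil⟩
    · rw [sift]
    · have h1 : Fast.fixSub φ fixed = ⊥ :=
        Subgroup.card_eq_one.1 (le_antisymm (by simpa using hle) Nat.card_pos)
      rw [h1, Subgroup.mem_bot] at hm
      rw [act_nil, hm]
  | fixed, l :: ls, hok, hle, m, hm, ps, hps => by
    cases hps with
    | @cons _ p _ ps hp hrest =>
      have hok0 := hok
      simp only [Fast.levelsOk, Bool.and_eq_true] at hok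
      obtain ⟨hl, hrs⟩ := hok
      have hspec := Fast.level_spec R hl
      simp only [Fast.levelOk, Bool.and_eq_true, List.all_eq_true, Nat.blt_eq,
        decide_eq_true_eq] at hl
      obtain ⟨⟨⟨⟨⟨-, hhead⟩, -⟩, -⟩, hlt⟩, -⟩ := hl
      have hb : l.base < T.n := hlt _ (List.mem_of_mem_head? hhead)
      obtain ⟨hmem, hle'⟩ := Fast.orbit_exact R hok0 hle m hm l ls rfl ⟨l.base, hb⟩ rfl
      rw [hp ⟨l.base, hb⟩ rfl] at hmem
      set k := l.pts.idxOf p with hk'
      have hk : k < l.pts.length := List.idxOf_lt_length_iff.2 hmem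
      obtain ⟨w1, w2, w3⟩ := hspec k hk (k + 1) (Nat.lt_succ_self _)
      set w := l.word (k + 1) k with hw
      rw [List.getD_eq_getElem _ _ hk] at w3
      have e : l.pts[k] = p := List.getElem_idxOf hk
      rw [e] at w3
      set m' := (act g₀ w)⁻¹ * m with hm'
      have hmem' : m' ∈ Fast.fixSub φ (fixed ++ [l.base]) := by
        intro i hi
        rcases List.mem_append.1 hi with hi | hi
        · exact Subgroup.mul_mem _ (Subgroup.inv_mem _ w2) hm i hi
        · have e' : i = ⟨l.base, hb⟩ := Fin.ext (List.mem_singleton.1 hi)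
          subst e'
          rw [hm', map_mul, Equiv.Perm.mul_apply, map_inv, Equiv.Perm.inv_def,
            Equiv.symm_apply_eq]
          exact Fin.ext (by rw [R.act_apply w1, w3, hp _ rfl])
      have hps' : List.Forall₂ (fun (l' : Fast.Level) p' => ∀ i : Fin T.n, i.val = l'.base →
          ((φ m' i : Fin T.n) : ℕ) = p') ls (ps.map fun q => T.walk q w.reverse) := by
        refine List.forall₂_map_right_iff.2 (hrest.imp fun l' q hq i hi => ?_)
        rw [hm', map_mul, Equiv.Perm.mul_apply, ← act_reverse hsq w1,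
          R.act_apply (fun g hg => w1 g (List.mem_reverse.1 hg)), hq i hi]
      obtain ⟨r, hr, hre, hrl⟩ := sift_spec R hsq hrs hle' m' hmem' _ hps'
      refine ⟨r ++ w, ?_, ?_, fun g hg => ?_⟩
      · rw [sift, if_pos hk, ← hk', ← hw, hr]
        rfl
      · rw [act_append, hre, hm', mul_inv_cancel_left]
      · rcases List.mem_append.1 hg with hg | hg
        exacts [hrl g hg, w1 g hg]

end sift

theorem planeT_eq : planeT = planeTab := rfl

theorem hsq_plane : ∀ g, g < planeTab.ng → hGen g * hGen g = 1 := fun _ hg => hGen_sq hg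

theorem walk_append (T : Fast.Tab) : ∀ (u v : List ℕ) (i : ℕ),
    T.walk i (u ++ v) = T.walk (T.walk i u) v
  | [], _, _ => rfl
  | _ :: u, v, i => walk_append T u v _

theorem lt_app {n : ℕ} {p q : List ℕ} (hp : ∀ g ∈ p, g < n) (hq : ∀ g ∈ q, g < n) :
    ∀ g ∈ p ++ q, g < n := fun g hg => by
  rcases List.mem_append.1 hg with h | h
  exacts [hp g h, hq g h]

theorem lt_rep {n : ℕ} {p : List ℕ} (hp : ∀ g ∈ p, g < n) : ∀ k, ∀ g ∈ repWord k p, g < n
  | 0 => fun _ h => absurd h List.not_mem_nil
  | k + 1 => lt_app hp (lt_rep hp k)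

/-- An element of the subgroup commuting with a word is a checked one. -/
theorem centraliser {X exps : List ℕ} {ls : List Fast.Level} {ok : List ℕ → Bool} {p : ℕ}
    (hX : ∀ g ∈ X, g < 6) (hp : p < 114)
    (hls : Fast.levelsOk planeT [] ls = true ∧ (ls.map fun l => l.pts.length).prod = 3753792 ∧
      onCycle X exps ls p = true)
    (hsieve : ∀ j < 114, sieveAt X exps ls ok j = true) {m : subH}
    (hm : m * act hGen X = act hGen X * m) :
    ∃ r, ok r = true ∧ act hGen r = m ∧ ∀ g ∈ r, g < 6 := by
  haveI := subH_finite.1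
  rw [planeT_eq] at hls
  obtain ⟨hok, hcard, hcyc⟩ := hls
  rw [onCycle, decide_eq_true_eq] at hcyc
  set i₀ : Fin planeTab.n := ⟨p, hp⟩ with hi₀
  set j : ℕ := (planeHom m i₀).val with hj
  have hps : List.Forall₂ (fun (l : Fast.Level) q => ∀ i : Fin planeTab.n, i.val = l.base →
      ((planeHom m i : Fin planeTab.n) : ℕ) = q) ls (targets X exps j) := by
    have h1 : List.Forall₂ (fun b q => ∀ i : Fin planeTab.n, i.val = b →
        ((planeHom m i : Fin planeTab.n) : ℕ) = q) (targets X exps p) (targets X exps j) := by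
      rw [targets, targets, List.forall₂_map_left_iff, List.forall₂_map_right_iff]
      refine List.forall₂_same.2 fun k _ i hi => ?_
      have hlt := lt_rep hX k
      have ei : planeHom (act hGen (repWord k X)) i₀ = i :=
        Fin.ext ((realised_plane.act_apply hlt i₀).trans hi.symm)
      have hc : m * act hGen (repWord k X) = act hGen (repWord k X) * m := by
        rw [act_repWord]
        exact (Commute.pow_right (show Commute m (act hGen X) from hm) k).eq
      rw [← ei, ← Equiv.Perm.mul_apply, ← map_mul, hc, map_mul, Equiv.Perm.mul_apply,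
        realised_plane.act_apply hlt]
      rfl
    rw [← hcyc] at h1
    exact List.forall₂_map_left_iff.1 h1
  obtain ⟨r, hr, hre, hrl⟩ := sift_spec realised_plane hsq_plane hok
    (by rw [Fast.fixSub_nil, Subgroup.card_top, card_subH, hcard]) m
    (fun _ h => absurd h List.not_mem_nil) _ hps
  have hlt6 : ∀ g ∈ r, g < 6 := hrl
  have hs := hsieve j (planeHom m i₀).isLt
  rw [sieveAt, planeT_eq, hr, Option.map_some, Option.getD_some, Bool.or_eq_true] at hs
  refine ⟨r, hs.resolve_left fun hcom => ?_, hre, hlt6⟩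
  have hc : comBase ls X r = true := by
    simp only [comBase, List.all_eq_true, Nat.beq_eq, planeT_eq]
    intro l hl
    have hb : l.base < 114 := by
      have hb' := List.mem_map_of_mem (f := Fast.Level.base) hl
      rw [hcyc, targets] at hb'
      obtain ⟨k, -, e⟩ := List.mem_map.1 hb'
      rw [← e, planeT_eq, show p = i₀.val from rfl, ← realised_plane.act_apply (lt_rep hX k) i₀]
      exact Fin.isLt _
    rw [show l.base = (⟨l.base, hb⟩ : Fin planeTab.n).val from rfl,
      ← realised_plane.act_apply (lt_app hlt6 hX), ← realised_plane.act_apply (lt_app hX hlt6),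
      act_append, act_append, hre, hm]
  rw [hc] at hcom
  exact Bool.noConfusion hcom

theorem sieveU : ∀ j < 114, sieveAt uW expsU levelsU inU j = true := fun j hj => by
  rcases Nat.lt_or_ge j 57 with h | h
  · exact sieveU0 j h
  · obtain ⟨k, rfl⟩ : ∃ k, j = 57 + k := ⟨j - 57, by omega⟩
    exact sieveU1 k (by omega)

theorem sieveV : ∀ j < 114, sieveAt vW expsV levelsV inV j = true := fun j hj => by
  rcases Nat.lt_or_ge j 57 with h | h
  · exact sieveV0 j h
  · obtain ⟨k, rfl⟩ : ∃ k, j = 57 + k := ⟨j - 57, by omega⟩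
    exact sieveV1 k (by omega)

end CfsgLib.ONanP.Out
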