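import Cfsg.Agent.Lib.ONanP.OutDefs

/-!
# Kernel checks of the fixed points, part 1
-/

set_option autoImplicit false
set_option maxRecDepth 100000
set_option maxHeartbeats 0

namespace CfsgLib.ONanP.Out

theorem u_scan31 : uBlock 31 = true := by decide +kernel

theorem v_scan31 : vBlock 31 = true := by decide +kernel

theorem u_scan32 : uBlock 32 = true := by decide +kernel

theorem v_scan32 : vBlock 32 = true := by decide +kernel

theorem u_scan33 : uBlock 33 = true := by decide +kernel

theorem v_scan33 : vBlock 33 = true := by decide +kernel

theorem u_scan34 : uBlock 34 = true := by decide +kernel

theorem v_scan34 : vBlock 34 = true := by decide +kernel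

theorem u_scan35 : uBlock 35 = true := by decide +kernel

theorem v_scan35 : vBlock 35 = true := by decide +kernel

theorem u_scan36 : uBlock 36 = true := by decide +kernel

theorem v_scan36 : vBlock 36 = true := by decide +kernel

theorem u_scan37 : uBlock 37 = true := by decide +kernel

theorem v_scan37 : vBlock 37 = true := by decide +kernel

theorem u_scan38 : uBlock 38 = true := by decide +kernel

theorem v_scan38 : vBlock 38 = true := by decide +kernel

theorem u_scan39 : uBlock 39 = true := by decide +kernel

theorem v_scan39 : vBlock 39 = true := by decide +kernel

theorem u_scan40 : uBlock 40 = true := by decide +kernel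

theorem v_scan40 : vBlock 40 = true := by decide +kernel

theorem u_scan41 : uBlock 41 = true := by decide +kernel

theorem v_scan41 : vBlock 41 = true := by decide +kernel

theorem u_scan42 : uBlock 42 = true := by decide +kernel

theorem v_scan42 : vBlock 42 = true := by decide +kernel

theorem u_scan43 : uBlock 43 = true := by decide +kernel

theorem v_scan43 : vBlock 43 = true := by decide +kernel

theorem u_scan44 : uBlock 44 = true := by decide +kernel

theorem v_scan44 : vBlock 44 = true := by decide +kernel

theorem u_scan45 : uBlock 45 = true := by decide +kernel

theorem v_scan45 : vBlock 45 = true := by decide +kernel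

theorem u_scan46 : uBlock 46 = true := by decide +kernel

theorem v_scan46 : vBlock 46 = true := by decide +kernel

theorem u_scan47 : uBlock 47 = true := by decide +kernel

theorem v_scan47 : vBlock 47 = true := by decide +kernel

theorem u_scan48 : uBlock 48 = true := by decide +kernel

theorem v_scan48 : vBlock 48 = true := by decide +kernel

theorem u_scan49 : uBlock 49 = true := by decide +kernel

theorem v_scan49 : vBlock 49 = true := by decide +kernel

theorem u_scan50 : uBlock 50 = true := by decide +kernel

theorem v_scan50 : vBlock 50 = true := by decide +kernel

theorem u_scan51 : uBlock 51 = true := by decide +kernel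

theorem v_scan51 : vBlock 51 = true := by decide +kernel

theorem u_scan52 : uBlock 52 = true := by decide +kernel

theorem v_scan52 : vBlock 52 = true := by decide +kernel

theorem u_scan53 : uBlock 53 = true := by decide +kernel

theorem v_scan53 : vBlock 53 = true := by decide +kernel

theorem u_scan54 : uBlock 54 = true := by decide +kernel

theorem v_scan54 : vBlock 54 = true := by decide +kernel

theorem u_scan55 : uBlock 55 = true := by decide +kernel

theorem v_scan55 : vBlock 55 = true := by decide +kernel

theorem u_scan56 : uBlock 56 = true := by decide +kernel

theorem v_scan56 : vBlock 56 = true := by decide +kernel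

theorem u_scan57 : uBlock 57 = true := by decide +kernel

theorem v_scan57 : vBlock 57 = true := by decide +kernel

theorem u_scan58 : uBlock 58 = true := by decide +kernel

theorem v_scan58 : vBlock 58 = true := by decide +kernel

theorem u_scan59 : uBlock 59 = true := by decide +kernel

theorem v_scan59 : vBlock 59 = true := by decide +kernel

theorem u_scan60 : uBlock 60 = true := by decide +kernel

theorem v_scan60 : vBlock 60 = true := by decide +kernel

theorem u_scan61 : uBlock 61 = true := by decide +kernel

theorem v_scan61 : vBlock 61 = true := by decide +kernel

end CfsgLib.ONanP.Out
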