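import Cfsg.Agent.Lib.ONanP.OutDefs

/-!
# Kernel checks of the fixed points, part 2
-/

set_option autoImplicit false
set_option maxRecDepth 100000
set_option maxHeartbeats 0

namespace CfsgLib.ONanP.Out

theorem u_scan62 : uBlock 62 = true := by decide +kernel

theorem v_scan62 : vBlock 62 = true := by decide +kernel

theorem u_scan63 : uBlock 63 = true := by decide +kernel

theorem v_scan63 : vBlock 63 = true := by decide +kernel

theorem u_scan64 : uBlock 64 = true := by decide +kernel

theorem v_scan64 : vBlock 64 = true := by decide +kernel

theorem u_scan65 : uBlock 65 = true := by decide +kernel

theorem v_scan65 : vBlock 65 = true := by decide +kernel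

theorem u_scan66 : uBlock 66 = true := by decide +kernel

theorem v_scan66 : vBlock 66 = true := by decide +kernel

theorem u_scan67 : uBlock 67 = true := by decide +kernel

theorem v_scan67 : vBlock 67 = true := by decide +kernel

theorem u_scan68 : uBlock 68 = true := by decide +kernel

theorem v_scan68 : vBlock 68 = true := by decide +kernel

theorem u_scan69 : uBlock 69 = true := by decide +kernel

theorem v_scan69 : vBlock 69 = true := by decide +kernel

theorem u_scan70 : uBlock 70 = true := by decide +kernel

theorem v_scan70 : vBlock 70 = true := by decide +kernel

theorem u_scan71 : uBlock 71 = true := by decide +kernel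

theorem v_scan71 : vBlock 71 = true := by decide +kernel

theorem u_scan72 : uBlock 72 = true := by decide +kernel

theorem v_scan72 : vBlock 72 = true := by decide +kernel

theorem u_scan73 : uBlock 73 = true := by decide +kernel

theorem v_scan73 : vBlock 73 = true := by decide +kernel

theorem u_scan74 : uBlock 74 = true := by decide +kernel

theorem v_scan74 : vBlock 74 = true := by decide +kernel

theorem u_scan75 : uBlock 75 = true := by decide +kernel

theorem v_scan75 : vBlock 75 = true := by decide +kernel

theorem u_scan76 : uBlock 76 = true := by decide +kernel

theorem v_scan76 : vBlock 76 = true := by decide +kernel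

theorem u_scan77 : uBlock 77 = true := by decide +kernel

theorem v_scan77 : vBlock 77 = true := by decide +kernel

theorem u_scan78 : uBlock 78 = true := by decide +kernel

theorem v_scan78 : vBlock 78 = true := by decide +kernel

theorem u_scan79 : uBlock 79 = true := by decide +kernel

theorem v_scan79 : vBlock 79 = true := by decide +kernel

theorem u_scan80 : uBlock 80 = true := by decide +kernel

theorem v_scan80 : vBlock 80 = true := by decide +kernel

theorem u_scan81 : uBlock 81 = true := by decide +kernel

theorem v_scan81 : vBlock 81 = true := by decide +kernel

theorem u_scan82 : uBlock 82 = true := by decide +kernel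

theorem v_scan82 : vBlock 82 = true := by decide +kernel

theorem u_scan83 : uBlock 83 = true := by decide +kernel

theorem v_scan83 : vBlock 83 = true := by decide +kernel

theorem u_scan84 : uBlock 84 = true := by decide +kernel

theorem v_scan84 : vBlock 84 = true := by decide +kernel

theorem u_scan85 : uBlock 85 = true := by decide +kernel

theorem v_scan85 : vBlock 85 = true := by decide +kernel

theorem u_scan86 : uBlock 86 = true := by decide +kernel

theorem v_scan86 : vBlock 86 = true := by decide +kernel

theorem u_scan87 : uBlock 87 = true := by decide +kernel

theorem v_scan87 : vBlock 87 = true := by decide +kernel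

theorem u_scan88 : uBlock 88 = true := by decide +kernel

theorem v_scan88 : vBlock 88 = true := by decide +kernel

theorem u_scan89 : uBlock 89 = true := by decide +kernel

theorem v_scan89 : vBlock 89 = true := by decide +kernel

theorem u_scan90 : uBlock 90 = true := by decide +kernel

theorem v_scan90 : vBlock 90 = true := by decide +kernel

theorem u_scan91 : uBlock 91 = true := by decide +kernel

theorem v_scan91 : vBlock 91 = true := by decide +kernel

theorem u_scan92 : uBlock 92 = true := by decide +kernel

theorem v_scan92 : vBlock 92 = true := by decide +kernel

end CfsgLib.ONanP.Out
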