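import Cfsg.Agent.Lib.ONanP.OutDefs

/-!
# Kernel checks of the fixed points, part 3
-/

set_option autoImplicit false
set_option maxRecDepth 100000
set_option maxHeartbeats 0

namespace CfsgLib.ONanP.Out

theorem u_scan93 : uBlock 93 = true := by decide +kernel

theorem v_scan93 : vBlock 93 = true := by decide +kernel

theorem u_scan94 : uBlock 94 = true := by decide +kernel

theorem v_scan94 : vBlock 94 = true := by decide +kernel

theorem u_scan95 : uBlock 95 = true := by decide +kernel

theorem v_scan95 : vBlock 95 = true := by decide +kernel

theorem u_scan96 : uBlock 96 = true := by decide +kernel

theorem v_scan96 : vBlock 96 = true := by decide +kernel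

theorem u_scan97 : uBlock 97 = true := by decide +kernel

theorem v_scan97 : vBlock 97 = true := by decide +kernel

theorem u_scan98 : uBlock 98 = true := by decide +kernel

theorem v_scan98 : vBlock 98 = true := by decide +kernel

theorem u_scan99 : uBlock 99 = true := by decide +kernel

theorem v_scan99 : vBlock 99 = true := by decide +kernel

theorem u_scan100 : uBlock 100 = true := by decide +kernel

theorem v_scan100 : vBlock 100 = true := by decide +kernel

theorem u_scan101 : uBlock 101 = true := by decide +kernel

theorem v_scan101 : vBlock 101 = true := by decide +kernel

theorem u_scan102 : uBlock 102 = true := by decide +kernel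

theorem v_scan102 : vBlock 102 = true := by decide +kernel

theorem u_scan103 : uBlock 103 = true := by decide +kernel

theorem v_scan103 : vBlock 103 = true := by decide +kernel

theorem u_scan104 : uBlock 104 = true := by decide +kernel

theorem v_scan104 : vBlock 104 = true := by decide +kernel

theorem u_scan105 : uBlock 105 = true := by decide +kernel

theorem v_scan105 : vBlock 105 = true := by decide +kernel

theorem u_scan106 : uBlock 106 = true := by decide +kernel

theorem v_scan106 : vBlock 106 = true := by decide +kernel

theorem u_scan107 : uBlock 107 = true := by decide +kernel

theorem v_scan107 : vBlock 107 = true := by decide +kernel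

theorem u_scan108 : uBlock 108 = true := by decide +kernel

theorem v_scan108 : vBlock 108 = true := by decide +kernel

theorem u_scan109 : uBlock 109 = true := by decide +kernel

theorem v_scan109 : vBlock 109 = true := by decide +kernel

theorem u_scan110 : uBlock 110 = true := by decide +kernel

theorem v_scan110 : vBlock 110 = true := by decide +kernel

theorem u_scan111 : uBlock 111 = true := by decide +kernel

theorem v_scan111 : vBlock 111 = true := by decide +kernel

theorem u_scan112 : uBlock 112 = true := by decide +kernel

theorem v_scan112 : vBlock 112 = true := by decide +kernel

theorem u_scan113 : uBlock 113 = true := by decide +kernel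

theorem v_scan113 : vBlock 113 = true := by decide +kernel

theorem u_scan114 : uBlock 114 = true := by decide +kernel

theorem v_scan114 : vBlock 114 = true := by decide +kernel

theorem u_scan115 : uBlock 115 = true := by decide +kernel

theorem v_scan115 : vBlock 115 = true := by decide +kernel

theorem u_scan116 : uBlock 116 = true := by decide +kernel

theorem v_scan116 : vBlock 116 = true := by decide +kernel

theorem u_scan117 : uBlock 117 = true := by decide +kernel

theorem v_scan117 : vBlock 117 = true := by decide +kernel

theorem u_scan118 : uBlock 118 = true := by decide +kernel

theorem v_scan118 : vBlock 118 = true := by decide +kernel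

theorem u_scan119 : uBlock 119 = true := by decide +kernel

theorem v_scan119 : vBlock 119 = true := by decide +kernel

theorem u_scan120 : uBlock 120 = true := by decide +kernel

theorem v_scan120 : vBlock 120 = true := by decide +kernel

theorem u_scan121 : uBlock 121 = true := by decide +kernel

theorem v_scan121 : vBlock 121 = true := by decide +kernel

theorem u_scan122 : uBlock 122 = true := by decide +kernel

theorem v_scan122 : vBlock 122 = true := by decide +kernel

end CfsgLib.ONanP.Out
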