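import Cfsg.Agent.Lib.ONanP.OutScan0
import Cfsg.Agent.Lib.ONanP.OutScan1
import Cfsg.Agent.Lib.ONanP.OutScan2
import Cfsg.Agent.Lib.ONanP.OutScan3

/-!
# The fixed points of the two elements
-/

set_option autoImplicit false
set_option maxRecDepth 100000

namespace CfsgLib.ONanP.Out

theorem scans (b : ℕ) (hb : b < 123) : uBlock b = true ∧ vBlock b = true := by
  interval_cases b
  · exact ⟨u_scan0, v_scan0⟩
  · exact ⟨u_scan1, v_scan1⟩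
  · exact ⟨u_scan2, v_scan2⟩
  · exact ⟨u_scan3, v_scan3⟩
  · exact ⟨u_scan4, v_scan4⟩
  · exact ⟨u_scan5, v_scan5⟩
  · exact ⟨u_scan6, v_scan6⟩
  · exact ⟨u_scan7, v_scan7⟩
  · exact ⟨u_scan8, v_scan8⟩
  · exact ⟨u_scan9, v_scan9⟩
  · exact ⟨u_scan10, v_scan10⟩
  · exact ⟨u_scan11, v_scan11⟩
  · exact ⟨u_scan12, v_scan12⟩
  · exact ⟨u_scan13, v_scan13⟩
  · exact ⟨u_scan14, v_scan14⟩
  · exact ⟨u_scan15, v_scan15⟩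
  · exact ⟨u_scan16, v_scan16⟩
  · exact ⟨u_scan17, v_scan17⟩
  · exact ⟨u_scan18, v_scan18⟩
  · exact ⟨u_scan19, v_scan19⟩
  · exact ⟨u_scan20, v_scan20⟩
  · exact ⟨u_scan21, v_scan21⟩
  · exact ⟨u_scan22, v_scan22⟩
  · exact ⟨u_scan23, v_scan23⟩
  · exact ⟨u_scan24, v_scan24⟩
  · exact ⟨u_scan25, v_scan25⟩
  · exact ⟨u_scan26, v_scan26⟩
  · exact ⟨u_scan27, v_scan27⟩
  · exact ⟨u_scan28, v_scan28⟩
  · exact ⟨u_scan29, v_scan29⟩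
  · exact ⟨u_scan30, v_scan30⟩
  · exact ⟨u_scan31, v_scan31⟩
  · exact ⟨u_scan32, v_scan32⟩
  · exact ⟨u_scan33, v_scan33⟩
  · exact ⟨u_scan34, v_scan34⟩
  · exact ⟨u_scan35, v_scan35⟩
  · exact ⟨u_scan36, v_scan36⟩
  · exact ⟨u_scan37, v_scan37⟩
  · exact ⟨u_scan38, v_scan38⟩
  · exact ⟨u_scan39, v_scan39⟩
  · exact ⟨u_scan40, v_scan40⟩
  · exact ⟨u_scan41, v_scan41⟩
  · exact ⟨u_scan42, v_scan42⟩
  · exact ⟨u_scan43, v_scan43⟩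
  · exact ⟨u_scan44, v_scan44⟩
  · exact ⟨u_scan45, v_scan45⟩
  · exact ⟨u_scan46, v_scan46⟩
  · exact ⟨u_scan47, v_scan47⟩
  · exact ⟨u_scan48, v_scan48⟩
  · exact ⟨u_scan49, v_scan49⟩
  · exact ⟨u_scan50, v_scan50⟩
  · exact ⟨u_scan51, v_scan51⟩
  · exact ⟨u_scan52, v_scan52⟩
  · exact ⟨u_scan53, v_scan53⟩
  · exact ⟨u_scan54, v_scan54⟩
  · exact ⟨u_scan55, v_scan55⟩
  · exact ⟨u_scan56, v_scan56⟩
  · exact ⟨u_scan57, v_scan57⟩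
  · exact ⟨u_scan58, v_scan58⟩
  · exact ⟨u_scan59, v_scan59⟩
  · exact ⟨u_scan60, v_scan60⟩
  · exact ⟨u_scan61, v_scan61⟩
  · exact ⟨u_scan62, v_scan62⟩
  · exact ⟨u_scan63, v_scan63⟩
  · exact ⟨u_scan64, v_scan64⟩
  · exact ⟨u_scan65, v_scan65⟩
  · exact ⟨u_scan66, v_scan66⟩
  · exact ⟨u_scan67, v_scan67⟩
  · exact ⟨u_scan68, v_scan68⟩
  · exact ⟨u_scan69, v_scan69⟩
  · exact ⟨u_scan70, v_scan70⟩
  · exact ⟨u_scan71, v_scan71⟩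
  · exact ⟨u_scan72, v_scan72⟩
  · exact ⟨u_scan73, v_scan73⟩
  · exact ⟨u_scan74, v_scan74⟩
  · exact ⟨u_scan75, v_scan75⟩
  · exact ⟨u_scan76, v_scan76⟩
  · exact ⟨u_scan77, v_scan77⟩
  · exact ⟨u_scan78, v_scan78⟩
  · exact ⟨u_scan79, v_scan79⟩
  · exact ⟨u_scan80, v_scan80⟩
  · exact ⟨u_scan81, v_scan81⟩
  · exact ⟨u_scan82, v_scan82⟩
  · exact ⟨u_scan83, v_scan83⟩
  · exact ⟨u_scan84, v_scan84⟩
  · exact ⟨u_scan85, v_scan85⟩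
  · exact ⟨u_scan86, v_scan86⟩
  · exact ⟨u_scan87, v_scan87⟩
  · exact ⟨u_scan88, v_scan88⟩
  · exact ⟨u_scan89, v_scan89⟩
  · exact ⟨u_scan90, v_scan90⟩
  · exact ⟨u_scan91, v_scan91⟩
  · exact ⟨u_scan92, v_scan92⟩
  · exact ⟨u_scan93, v_scan93⟩
  · exact ⟨u_scan94, v_scan94⟩
  · exact ⟨u_scan95, v_scan95⟩
  · exact ⟨u_scan96, v_scan96⟩
  · exact ⟨u_scan97, v_scan97⟩
  · exact ⟨u_scan98, v_scan98⟩
  · exact ⟨u_scan99, v_scan99⟩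
  · exact ⟨u_scan100, v_scan100⟩
  · exact ⟨u_scan101, v_scan101⟩
  · exact ⟨u_scan102, v_scan102⟩
  · exact ⟨u_scan103, v_scan103⟩
  · exact ⟨u_scan104, v_scan104⟩
  · exact ⟨u_scan105, v_scan105⟩
  · exact ⟨u_scan106, v_scan106⟩
  · exact ⟨u_scan107, v_scan107⟩
  · exact ⟨u_scan108, v_scan108⟩
  · exact ⟨u_scan109, v_scan109⟩
  · exact ⟨u_scan110, v_scan110⟩
  · exact ⟨u_scan111, v_scan111⟩
  · exact ⟨u_scan112, v_scan112⟩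
  · exact ⟨u_scan113, v_scan113⟩
  · exact ⟨u_scan114, v_scan114⟩
  · exact ⟨u_scan115, v_scan115⟩
  · exact ⟨u_scan116, v_scan116⟩
  · exact ⟨u_scan117, v_scan117⟩
  · exact ⟨u_scan118, v_scan118⟩
  · exact ⟨u_scan119, v_scan119⟩
  · exact ⟨u_scan120, v_scan120⟩
  · exact ⟨u_scan121, v_scan121⟩
  · exact ⟨u_scan122, v_scan122⟩

end CfsgLib.ONanP.Out
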