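import Cfsg.Agent.Lib.ONanP.Simple
import Cfsg.Agent.Lib.ONanP.OutPlane
import Cfsg.Agent.Lib.ONanP.OutScans
import Cfsg.Agent.Lib.MathieuOut.Abstract

/-!
# The outer automorphisms of the presented O'Nan group

An element of order 19 is its own centraliser and is normalised by an element of order 6, which
commutes with exactly one pair of inverse elements of order 4. Normalised on these three elements,
an automorphism fixes the first two, and it fixes or inverts the third.
-/

set_option autoImplicit false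
set_option maxRecDepth 100000

namespace CfsgLib.ONanP.Out

open CfsgLib.PresCert Cfsg.Spor

local notation "G" => Cfsg.Spor.ON

/-- The element of order 19. -/
def uE : G := act gen uW

/-- The element of order 6. -/
def vE : G := act gen vW

/-- The element of order 4. -/
def wE : G := act gen wW

theorem lt_eight {p : List ℕ} (h : ∀ g ∈ p, g < 6) : ∀ g ∈ p, g < 8 := fun g hg =>
  lt_trans (h g hg) (by norm_num)

theorem lt_nil {n : ℕ} : ∀ g ∈ ([] : List ℕ), g < n := fun _ h => absurd h List.not_mem_nil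

theorem lt_six_of : ∀ w ∈ [uW, vW, invWord uW, invWord vW] ++ centV, ∀ g ∈ w, g < 6 := by
  have h := words_lt
  simp only [Bool.and_eq_true, List.all_eq_true, Nat.blt_eq] at h
  exact fun w hw => h.1.1 w (List.mem_append_left _ hw)

theorem lt_eight_of : ∀ w ∈ [wW, invWord wW] ++ imgWords ++ goodPts.map (fun e => e.2) ++
    badPts.map (fun e => e.2.1), ∀ g ∈ w, g < 8 := by
  have h := words_lt
  simp only [Bool.and_eq_true, List.all_eq_true, Nat.blt_eq] at h
  exact h.1.2

theorem lt_bad : ∀ e ∈ badPts, ∀ g ∈ e.2.2.1, g < 6 := by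
  have h := words_lt
  simp only [Bool.and_eq_true, List.all_eq_true, Nat.blt_eq, decide_eq_true_eq] at h
  exact h.2

theorem lt_u : ∀ g ∈ uW, g < 6 := lt_six_of _ (by simp)
theorem lt_v : ∀ g ∈ vW, g < 6 := lt_six_of _ (by simp)
theorem lt_w : ∀ g ∈ wW, g < 8 := lt_eight_of _ (by simp)
theorem lt_winv : ∀ g ∈ invWord wW, g < 8 := lt_eight_of _ (by simp)

theorem lt_img (a : ℕ) : ∀ g ∈ imgWords.getD a [], g < 8 := by
  rcases Nat.lt_or_ge a imgWords.length with h | h
  · rw [List.getD_eq_getElem _ _ h]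
    exact lt_eight_of _ (by simp [List.getElem_mem h])
  · rw [List.getD_eq_default _ _ h]; exact lt_nil

theorem lt_expand' {L : List (List ℕ)} (hL : ∀ w ∈ L, ∀ g ∈ w, g < 8) (p : List ℕ) :
    ∀ g ∈ PresCert.expand L p, g < 8 := by
  intro g hg
  obtain ⟨a, -, h⟩ := List.mem_flatMap.1 hg
  by_cases ha : a < L.length
  · rw [List.getD_eq_getElem _ _ ha] at h
    exact hL _ (List.getElem_mem ha) g h
  · rw [List.getD_eq_default _ _ (by omega)] at h
    exact absurd h List.not_mem_nil

/-- Words agreeing on the base give the same element. -/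
theorem eq_of_eqG {p q : List ℕ} (hp : ∀ g ∈ p, g < 8) (hq : ∀ g ∈ q, g < 8)
    (h : eqG p q = true) : act gen p = act gen q := by
  simp only [eqG, Bool.and_eq_true, Nat.beq_eq] at h
  obtain ⟨⟨h0, h3⟩, h4⟩ := h
  set d := (act gen q)⁻¹ * act gen p with hd
  have key : ∀ i : Fin tab.n, tab.walk i.val p = tab.walk i.val q → phi d i = i := by
    intro i hi
    rw [hd, map_mul, Equiv.Perm.mul_apply, map_inv, Equiv.Perm.inv_def, Equiv.symm_apply_eq]
    exact Fin.ext (by rw [phi_act hp, phi_act hq, hi])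
  have hmem : d ∈ subH := stab_zero.1 (key p₀ h0)
  have h1 : d = 1 := by
    refine eq_of_base hmem (one_mem _) fun i hi => ?_
    rw [map_one, Equiv.Perm.one_apply]
    refine key i ?_
    simp only [base, List.mem_cons, List.not_mem_nil, or_false] at hi
    rcases hi with e | e
    · rw [e]; exact h3
    · rw [e]; exact h4
  exact (inv_mul_eq_one.1 h1).symm

theorem eqG_of_eq {p q : List ℕ} (hp : ∀ g ∈ p, g < 8) (hq : ∀ g ∈ q, g < 8)
    (h : act gen p = act gen q) : eqG p q = true := by
  have key : ∀ i, i < 122760 → tab.walk i p = tab.walk i q := fun i hi => by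
    rw [← phi_act hp ⟨i, hi⟩, h, phi_act hq]
  simp only [eqG, Bool.and_eq_true, Nat.beq_eq]
  exact ⟨⟨key 0 (by norm_num), key 3 (by norm_num)⟩, key 42445 (by norm_num)⟩

theorem u_order : orderOf uE = 19 := by
  haveI : Fact (Nat.Prime 19) := ⟨by norm_num⟩
  refine orderOf_eq_prime ?_ fun h => ?_
  · rw [uE, ← act_repWord, eq_of_eqG (lt_rep (lt_eight lt_u) 19) lt_nil u_order_check.1, act_nil]
  · have e := eqG_of_eq (lt_eight lt_u) lt_nil (by rw [act_nil]; exact h)
    rw [u_order_check.2] at e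
    exact Bool.noConfusion e

theorem vu : vE * uE = uE ^ 8 * vE := by
  have h := eq_of_eqG (lt_app (lt_eight lt_u) (lt_eight lt_v))
    (lt_app (lt_eight lt_v) (lt_rep (lt_eight lt_u) 8)) v_normalises.1
  rw [act_append, act_append, act_repWord] at h
  exact h

theorem vw : vE * wE = wE * vE := by
  have h := eq_of_eqG (lt_app lt_w (lt_eight lt_v)) (lt_app (lt_eight lt_v) lt_w) w_check.2.2.1
  rw [act_append, act_append] at h
  exact h

theorem w_pow : wE ^ 4 = 1 := by
  rw [wE, ← act_repWord, eq_of_eqG (lt_rep lt_w 4) lt_nil w_check.1, act_nil]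

theorem w_sq : wE ^ 2 ≠ 1 := by
  intro h
  have e := eqG_of_eq (lt_rep lt_w 2) lt_nil (by rw [act_repWord, act_nil]; exact h)
  rw [w_check.2.1] at e
  exact Bool.noConfusion e

/-! ## Fixed points -/

theorem u_fix {i : Fin tab.n} (h : phi uE i = i) : i = p₀ := by
  have hlt : i.val < 122760 := i.isLt
  have hb := (scans (i.val / 1000) (by omega)).1
  simp only [uBlock, List.all_eq_true, List.mem_range, Bool.or_eq_true, Bool.not_eq_true'] at hb
  have h' := hb (i.val % 1000) (Nat.mod_lt _ (by norm_num))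
  rw [Nat.div_add_mod] at h'
  rcases h' with (h1 | h1) | h1
  · have : Nat.blt i.val 122760 = true := by rw [Nat.blt_eq]; exact hlt
    rw [this] at h1
    exact Bool.noConfusion h1
  · exact Fin.ext (Nat.eq_of_beq_eq_true h1)
  · have e : tab.walk i.val uW = i.val := by
      rw [← phi_act (lt_eight lt_u) i]; exact congrArg Fin.val h
    rw [e] at h1
    simp at h1

theorem v_fix {i : Fin tab.n} (h : phi vE i = i) :
    (∃ e ∈ goodPts, i.val = e.1) ∨ ∃ e ∈ badPts, i.val = e.1 := by
  have hlt : i.val < 122760 := i.isLt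
  have hb := (scans (i.val / 1000) (by omega)).2
  simp only [vBlock, List.all_eq_true, List.mem_range, Bool.or_eq_true, Bool.not_eq_true',
    List.any_eq_true] at hb
  have h' := hb (i.val % 1000) (Nat.mod_lt _ (by norm_num))
  rw [Nat.div_add_mod] at h'
  rcases h' with ((h1 | h1) | ⟨e, he, h1⟩) | ⟨e, he, h1⟩
  · have : Nat.blt i.val 122760 = true := by rw [Nat.blt_eq]; exact hlt
    rw [this] at h1
    exact Bool.noConfusion h1
  · have e : tab.walk i.val vW = i.val := by
      rw [← phi_act (lt_eight lt_v) i]; exact congrArg Fin.val h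
    rw [e] at h1
    simp at h1
  · exact Or.inl ⟨e, he, Nat.eq_of_beq_eq_true h1⟩
  · exact Or.inr ⟨e, he, Nat.eq_of_beq_eq_true h1⟩

/-! ## Centralisers -/

/-- An element commuting with the element of order 19 is one of its powers. -/
theorem u_cent {g : G} (hg : g * uE = uE * g) : ∃ k : ℕ, g = uE ^ k := by
  have hu0 : phi uE p₀ = p₀ := stab_zero.2 (act_mem_subH lt_u)
  have h0 : phi g p₀ = p₀ := by
    refine u_fix ?_
    rw [← Equiv.Perm.mul_apply, ← map_mul, ← hg, map_mul, Equiv.Perm.mul_apply, hu0]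
  have hmem := stab_zero.1 h0
  have hm : (⟨g, hmem⟩ : subH) * act hGen uW = act hGen uW * ⟨g, hmem⟩ := by
    apply Subtype.ext
    rw [Subgroup.coe_mul, Subgroup.coe_mul, hGen_act lt_u]
    exact hg
  obtain ⟨r, hok, hre, hrl⟩ := centraliser lt_u (by norm_num) levelsU_ok sieveU hm
  simp only [inU, List.any_eq_true] at hok
  obtain ⟨k, -, hk⟩ := hok
  refine ⟨k, ?_⟩
  have e := congrArg Subtype.val hre
  rw [hGen_act hrl] at e
  rw [← show act gen r = g from e, eq_of_eqG (lt_eight hrl) (lt_rep (lt_eight lt_u) k) hk,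
    act_repWord]
  rfl

theorem vu_pow : ∀ n : ℕ, vE * uE ^ n = uE ^ (8 * n) * vE
  | 0 => by simp
  | n + 1 => by rw [pow_succ, ← mul_assoc, vu_pow n, mul_assoc, vu, ← mul_assoc, ← pow_add,
      Nat.mul_succ]

theorem vpow_u (l k : ℕ) : vE ^ l * uE ^ k = uE ^ (8 ^ l * k) * vE ^ l := by
  induction l generalizing k with
  | zero => simp
  | succ l ih =>
    rw [pow_succ vE l, mul_assoc, vu_pow, ← mul_assoc, ih, mul_assoc, pow_succ 8 l, mul_assoc]

theorem normaliser {y : G} (hy : y * uE = uE ^ 8 * y) :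
    ∃ a : ℕ, uE ^ a * y * (uE ^ a)⁻¹ = vE := by
  have hc : vE⁻¹ * y * uE = uE * (vE⁻¹ * y) := by
    rw [mul_assoc, hy, inv_mul_eq_iff_eq_mul, ← mul_assoc, ← mul_assoc, vu,
      mul_assoc (uE ^ 8) vE, mul_inv_cancel, mul_one]
  obtain ⟨j, hj⟩ := u_cent hc
  refine ⟨88 * j, ?_⟩
  rw [inv_mul_eq_iff_eq_mul.1 hj, mul_inv_eq_iff_eq_mul, vu_pow, vu_pow, ← mul_assoc, ← pow_add]
  congr 1
  rw [← pow_mod_orderOf, u_order, ← pow_mod_orderOf (n := 8 * (88 * j)), u_order]
  congr 1
  omega

/-- The elements of order 4 commuting with the element of order 6. -/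
theorem w_cases {x : G} (hxv : x * vE = vE * x) (h4 : x ^ 4 = 1) (h2 : x ^ 2 ≠ 1) :
    x = wE ∨ x = wE⁻¹ := by
  have hv0 : phi vE p₀ = p₀ := stab_zero.2 (act_mem_subH lt_v)
  have hfix : phi vE (phi x p₀) = phi x p₀ := by
    rw [← Equiv.Perm.mul_apply, ← map_mul, ← hxv, map_mul, Equiv.Perm.mul_apply, hv0]
  rcases v_fix hfix with ⟨e, he, hp⟩ | ⟨e, he, hp⟩
  · have hlt : ∀ g ∈ e.2, g < 8 := lt_eight_of _ (by
      simp only [List.mem_append, List.mem_map]
      exact Or.inl (Or.inr ⟨e, he, rfl⟩))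
    have hgd := List.all_eq_true.1 good_ok e he
    simp only [Bool.and_eq_true, Nat.beq_eq] at hgd
    set t := act gen e.2 with ht
    have htv : t * vE = vE * t := by
      have h := eq_of_eqG (lt_app (lt_eight lt_v) hlt) (lt_app hlt (lt_eight lt_v)) hgd.2
      rw [act_append, act_append] at h
      exact h
    have hmem : t⁻¹ * x ∈ subH := stab_zero.1 (by
      rw [map_mul, Equiv.Perm.mul_apply, map_inv, Equiv.Perm.inv_def, Equiv.symm_apply_eq]
      exact Fin.ext (hp.trans (by rw [ht, phi_act hlt]; exact hgd.1.symm)))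
    have hm : (⟨t⁻¹ * x, hmem⟩ : subH) * act hGen vW = act hGen vW * ⟨t⁻¹ * x, hmem⟩ := by
      apply Subtype.ext
      rw [Subgroup.coe_mul, Subgroup.coe_mul, hGen_act lt_v]
      show t⁻¹ * x * vE = vE * (t⁻¹ * x)
      rw [mul_assoc, hxv, inv_mul_eq_iff_eq_mul, ← mul_assoc t vE, htv, mul_assoc vE t,
        mul_inv_cancel_left]
    obtain ⟨r, hok, hre, hrl⟩ := centraliser lt_v (by norm_num) levelsV_ok sieveV hm
    have hrmem : r ∈ centV := by simpa [inV] using hok
    have e1 := congrArg Subtype.val hre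
    rw [hGen_act hrl] at e1
    have hlx : ∀ g ∈ r ++ e.2, g < 8 := lt_app (lt_eight hrl) hlt
    have hx : act gen (r ++ e.2) = x := by
      rw [act_append, show act gen r = t⁻¹ * x from e1, mul_inv_cancel_left]
    have hw := List.all_eq_true.1 (List.all_eq_true.1 only_w r hrmem) e he
    simp only [wOnly, Bool.or_eq_true, Bool.not_eq_true'] at hw
    rcases hw with ((hw | hw) | hw) | hw
    · rw [eqG_of_eq (lt_rep hlx 4) lt_nil (by rw [act_repWord, hx, act_nil, h4])] at hw
      exact Bool.noConfusion hw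
    · refine absurd ?_ h2
      rw [← hx, ← act_repWord, eq_of_eqG (lt_rep hlx 2) lt_nil hw, act_nil]
    · exact Or.inl (hx.symm.trans (eq_of_eqG hlx lt_w hw))
    · refine Or.inr (hx.symm.trans ((eq_of_eqG hlx lt_winv hw).trans ?_))
      exact act_invWord lt_w
  · exfalso
    have hlt : ∀ g ∈ e.2.1, g < 8 := lt_eight_of _ (by
      simp only [List.mem_append, List.mem_map]
      exact Or.inr ⟨e, he, rfl⟩)
    have hlh := lt_bad e he
    have hbd := List.all_eq_true.1 bad_ok e he
    simp only [Bool.and_eq_true, Nat.beq_eq, Nat.blt_eq] at hbd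
    obtain ⟨⟨ht0, htv'⟩, hpl, hpf⟩ := hbd
    set t := act gen e.2.1 with ht
    set h := act gen e.2.2.1 with hh
    have htv : vE * t = t * h := by
      have h' := eq_of_eqG (lt_app hlt (lt_eight lt_v)) (lt_app (lt_eight hlh) hlt) htv'
      rw [act_append, act_append] at h'
      exact h'
    have hmem : t⁻¹ * x ∈ subH := stab_zero.1 (by
      rw [map_mul, Equiv.Perm.mul_apply, map_inv, Equiv.Perm.inv_def, Equiv.symm_apply_eq]
      exact Fin.ext (hp.trans (by rw [ht, phi_act hlt]; exact ht0.symm)))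
    set m : subH := ⟨t⁻¹ * x, hmem⟩
    have hm : act hGen e.2.2.1 * m = m * act hGen vW := by
      apply Subtype.ext
      rw [Subgroup.coe_mul, Subgroup.coe_mul, hGen_act lt_v, hGen_act hlh]
      show h * (t⁻¹ * x) = t⁻¹ * x * vE
      rw [mul_assoc t⁻¹ x, hxv, ← mul_assoc t⁻¹ vE, ← mul_assoc]
      congr 1
      rw [eq_inv_mul_iff_mul_eq, ← mul_assoc, ← htv, mul_inv_cancel_right]
    set P : Fin planeTab.n := ⟨e.2.2.2, hpl⟩ with hP
    set Q := planeHom m⁻¹ P with hQ
    have hPfix : planeHom (act hGen e.2.2.1) P = P :=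
      Fin.ext ((realised_plane.act_apply hlh P).trans hpf)
    have hvQ : planeHom (act hGen vW) Q = Q := by
      have e2 : act hGen vW * m⁻¹ = m⁻¹ * act hGen e.2.2.1 := by
        rw [eq_inv_mul_iff_mul_eq, ← mul_assoc, ← hm, mul_inv_cancel_right]
      rw [hQ, ← Equiv.Perm.mul_apply, ← map_mul, e2, map_mul, Equiv.Perm.mul_apply, hPfix]
    exact v_free Q.val Q.isLt ((realised_plane.act_apply lt_v Q).symm.trans (congrArg Fin.val hvQ))

/-! ## Extension from the three elements -/

theorem lt_three {w : List ℕ} (hw : ∀ g ∈ w, g < 8) (hw' : ∀ g ∈ invWord w, g < 8) :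
    ∀ p ∈ three w, ∀ g ∈ p, g < 8 := by
  intro p hp
  simp only [three, List.mem_cons, List.not_mem_nil, or_false] at hp
  rcases hp with rfl | rfl | rfl | rfl | rfl | rfl
  exacts [lt_eight lt_u, lt_eight lt_v, hw, lt_eight (lt_six_of _ (by simp)),
    lt_eight (lt_six_of _ (by simp)), hw']

/-- Automorphisms agreeing on the three elements are equal. -/
theorem ext_three {α β : MulAut G} (hu : α uE = β uE) (hv : α vE = β vE) (hw : α wE = β wE) :
    α = β := by
  set S := MonoidHom.eqLocus α.toMonoidHom β.toMonoidHom with hS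
  have hmem : ∀ a, act gen ((three wW).getD a []) ∈ S := by
    intro a
    rcases a with _ | _ | _ | _ | _ | _ | a
    · exact hu
    · exact hv
    · exact hw
    · show act gen (invWord uW) ∈ S
      rw [act_invWord (lt_eight lt_u)]; exact S.inv_mem hu
    · show act gen (invWord vW) ∈ S
      rw [act_invWord (lt_eight lt_v)]; exact S.inv_mem hv
    · show act gen (invWord wW) ∈ S
      rw [act_invWord lt_w]; exact S.inv_mem hw
    · exact S.one_mem
  have htop : S = ⊤ := by
    rw [eq_top_iff, ← closure_all, genGrp, Subgroup.closure_le]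
    rintro _ ⟨_, hw', rfl⟩
    obtain ⟨g, hg, rfl⟩ := List.mem_map.1 hw'
    rw [List.mem_range] at hg
    rw [← eq_of_eqG (lt_expand' (lt_three lt_w lt_winv) _)
      (fun a ha => by rw [List.mem_singleton.1 ha]; omega) (gens_ok g hg), act_expand]
    exact act_mem_of hmem _
  refine MulEquiv.ext fun x => ?_
  have : x ∈ S := by rw [htop]; trivial
  exact this

/-! ## The outer automorphism -/

/-- The images of the letters. -/
def imgGen (g : ℕ) : G := act gen (imgWords.getD g [])

theorem imgGen_inv {g : ℕ} (hg : g < 8) : imgGen (invIx g) = (imgGen g)⁻¹ := by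
  have h7 : imgGen 7 * imgGen 6 = 1 := by
    have h := eq_of_eqG (lt_app (lt_img 6) (lt_img 7)) lt_nil imgs_inv.1
    rw [act_append, act_nil] at h
    exact h
  have hsq : ∀ a < 6, imgGen a * imgGen a = 1 := fun a ha => by
    have h := eq_of_eqG (lt_rep (lt_img a) 2) lt_nil
      (List.all_eq_true.1 imgs_inv.2 a (List.mem_range.2 ha))
    rw [act_repWord, act_nil, pow_two] at h
    exact h
  interval_cases g
  iterate 6 exact eq_inv_of_mul_eq_one_right (hsq _ (by norm_num))
  · exact eq_inv_of_mul_eq_one_left h7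
  · exact eq_inv_of_mul_eq_one_right h7

theorem lift_imgGen (L : List (ON.Gen × Bool)) :
    FreeGroup.lift (fun x => imgGen (genIx x)) (FreeGroup.mk L) =
      act imgGen (L.map letter).reverse := by
  induction L with
  | nil =>
    rw [← FreeGroup.one_eq_mk, map_one]
    rfl
  | cons p L ih =>
    obtain ⟨x, b⟩ := p
    rw [show FreeGroup.mk ((x, b) :: L) = FreeGroup.mk [(x, b)] * FreeGroup.mk L from rfl, map_mul,
      ih, List.map_cons, List.reverse_cons, act_append, act_cons, act_nil, one_mul]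
    congr 1
    cases b
    · have e : FreeGroup.mk [(x, false)] = (FreeGroup.of x)⁻¹ := rfl
      rw [e, map_inv, FreeGroup.lift_apply_of]
      exact (imgGen_inv (by cases x <;> decide)).symm
    · exact FreeGroup.lift_apply_of

theorem img_relators : ∀ r ∈ presRels, act imgGen r = 1 := by
  intro r hr
  have h := List.all_eq_true.1 imgs_rels r hr
  simp only [Bool.and_eq_true] at h
  have e := eq_of_eqG (lt_expand' (fun w hw => lt_eight_of w (by simp [hw])) r) lt_nil h.2
  rw [act_expand, act_nil] at e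
  exact e

/-- The endomorphism given by the images. -/
def alphaHom : G →* G :=
  PresentedGroup.toGroup (f := fun x => imgGen (genIx x)) fun r hr => by
    rw [← FreeGroup.mk_toWord (x := r), lift_imgGen]
    exact img_relators _ (List.mem_map.2 ⟨r, relList_mem.2 hr, rfl⟩)

theorem alphaHom_gen {g : ℕ} (hg : g < 8) : alphaHom (gen g) = imgGen g := by
  have key : ∀ x : ON.Gen, alphaHom (PresentedGroup.of x) = imgGen (genIx x) :=
    fun x => PresentedGroup.toGroup.of _
  by_cases h7 : g = 7
  · subst h7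
    show alphaHom (PresentedGroup.of ON.Gen.g)⁻¹ = _
    rw [map_inv, key]
    exact (imgGen_inv (g := 6) (by norm_num)).symm
  · rw [show gen g = PresentedGroup.of (genAt g) from if_neg h7, key]
    congr 1
    interval_cases g <;> first | rfl | exact absurd rfl h7

theorem alpha_act {w : List ℕ} (hw : ∀ g ∈ w, g < 8) :
    alphaHom (act gen w) = act gen (PresCert.expand imgWords w) := by
  rw [map_act, act_expand]
  exact act_congr' fun a ha => alphaHom_gen (hw a ha)

theorem alpha_bij : Function.Bijective alphaHom := by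
  haveI := simple
  refine Finite.injective_iff_bijective.1 ((MonoidHom.ker_eq_bot_iff _).1 ?_)
  rcases (MonoidHom.normal_ker alphaHom).eq_bot_or_eq_top with h | h
  · exact h
  exfalso
  have e : act gen uW ∈ alphaHom.ker := by rw [h]; trivial
  have himg : ∀ w ∈ imgWords, ∀ g ∈ w, g < 8 := fun w hw => lt_eight_of w (by simp [hw])
  rw [MonoidHom.mem_ker, alpha_act (lt_eight lt_u),
    eq_of_eqG (lt_expand' himg _) (lt_eight lt_u) imgs_move.1] at e
  have h19 := u_order
  rw [uE, e, orderOf_one] at h19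
  exact absurd h19 (by norm_num)

/-- The outer automorphism. -/
noncomputable def alpha : MulAut G := MulEquiv.ofBijective alphaHom alpha_bij

theorem alpha_eval : alpha uE = uE ∧ alpha vE = vE ∧ alpha wE = wE⁻¹ := by
  have himg : ∀ w ∈ imgWords, ∀ g ∈ w, g < 8 := fun w hw => lt_eight_of w (by simp [hw])
  refine ⟨?_, ?_, ?_⟩
  · show alphaHom (act gen uW) = _
    rw [alpha_act (lt_eight lt_u), eq_of_eqG (lt_expand' himg _) (lt_eight lt_u) imgs_move.1]
    rfl
  · show alphaHom (act gen vW) = _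
    rw [alpha_act (lt_eight lt_v), eq_of_eqG (lt_expand' himg _) (lt_eight lt_v) imgs_move.2.1]
    rfl
  · show alphaHom (act gen wW) = _
    rw [alpha_act lt_w, eq_of_eqG (lt_expand' himg _) lt_winv imgs_move.2.2, act_invWord lt_w]
    rfl

theorem alpha_outer (g : G) : MulAut.conj g ≠ alpha := by
  intro h
  obtain ⟨au, av, aw⟩ := alpha_eval
  rw [← h, MulAut.conj_apply, mul_inv_eq_iff_eq_mul] at au av aw
  obtain ⟨k, rfl⟩ := u_cent au
  rw [vu_pow] at av
  have hk : uE ^ k = uE ^ (8 * k) := mul_right_cancel av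
  rw [← pow_mod_orderOf, u_order, ← pow_mod_orderOf (n := 8 * k), u_order] at hk
  have hlt : ∀ n, n % 19 < orderOf uE := fun n => by rw [u_order]; exact Nat.mod_lt _ (by norm_num)
  have h2 := pow_injOn_Iio_orderOf (hlt k) (hlt (8 * k)) hk
  have hk0 : uE ^ k = 1 := orderOf_dvd_iff_pow_eq_one.1 (by rw [u_order]; omega)
  rw [hk0, one_mul, mul_one] at aw
  refine w_sq ?_
  rw [pow_two]
  exact eq_inv_iff_mul_eq_one.1 aw

/-- A normalised automorphism fixes or inverts the third element. -/
theorem normalised (z : Cfsg.Out G) : ∃ δ : MulAut G, QuotientGroup.mk δ = z ∧ δ uE = uE ∧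
    δ vE = vE ∧ (δ wE = wE ∨ δ wE = wE⁻¹) := by
  haveI : Fact (Nat.Prime 19) := ⟨by norm_num⟩
  obtain ⟨α, rfl⟩ := QuotientGroup.mk_surjective z
  have step : ∀ (β : MulAut G) (g : G),
      (QuotientGroup.mk (MulAut.conj g * β) : Cfsg.Out G) = QuotientGroup.mk β := fun β g => by
    rw [QuotientGroup.mk_mul, (QuotientGroup.eq_one_iff (N := Cfsg.Inn G) (MulAut.conj g)).2
      (MonoidHom.mem_range.2 ⟨g, rfl⟩), one_mul]
  obtain ⟨g, k, hk, hg⟩ := MathieuOut.exists_conj_zpowers
    (show ¬ 19 ^ 2 ∣ Nat.card G by rw [card_ON]; norm_num) u_order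
    (show orderOf (α uE) = 19 by rw [MulEquiv.orderOf_eq, u_order])
  set β := MulAut.conj g * α with hβ
  have hβu : β uE = uE ^ k := hg
  have hr : β vE * uE = uE ^ 8 * β vE := by
    have hcop : Nat.Coprime k (orderOf uE) := by
      rw [u_order]; exact ((Nat.Prime.coprime_iff_not_dvd (by norm_num)).2 hk).symm
    obtain ⟨j, hj⟩ := exists_pow_eq_self_of_coprime hcop
    rw [← hj, ← hβu, ← map_pow, ← map_mul, ← map_pow, ← map_mul]
    congr 1
    rw [vu_pow, ← pow_mul, mul_comm 8 j]
  obtain ⟨a, ha⟩ := normaliser hr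
  set γ := MulAut.conj (uE ^ a) * β with hγ
  have hγv : γ vE = vE := ha
  have hγu : γ uE = uE ^ k := by
    show uE ^ a * β uE * (uE ^ a)⁻¹ = uE ^ k
    rw [hβu, ← pow_add, Nat.add_comm, pow_add, mul_inv_cancel_right]
  obtain ⟨l, hl⟩ := reps ⟨k % 19, Nat.mod_lt _ (by norm_num)⟩
    (fun h => hk (Nat.dvd_of_mod_eq_zero h))
  set k' := 8 ^ l.val * (k % 19) % 19 with hk'
  have hk124 : k' = 1 ∨ k' = 2 ∨ k' = 4 := hl
  set δ := MulAut.conj (vE ^ l.val) * γ with hδ
  have hδv : δ vE = vE := by
    show vE ^ l.val * γ vE * (vE ^ l.val)⁻¹ = vE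
    rw [hγv, ← pow_succ, pow_succ', mul_inv_cancel_right]
  have hδu : δ uE = uE ^ k' := by
    show vE ^ l.val * γ uE * (vE ^ l.val)⁻¹ = uE ^ k'
    rw [hγu, vpow_u, mul_inv_cancel_right, ← pow_mod_orderOf, u_order, hk', Nat.mul_mod_mod]
  have hδw : δ wE = wE ∨ δ wE = wE⁻¹ := by
    refine w_cases ?_ ?_ fun h => w_sq (δ.injective ?_)
    · rw [← hδv, ← map_mul, ← map_mul, vw]
    · rw [← map_pow, w_pow, map_one]
    · rw [map_pow, h, map_one]
  have h11 : (uE * wE) ^ 11 = 1 := by
    have e := eq_of_eqG (lt_rep (lt_app lt_w (lt_eight lt_u)) 11) lt_nil order_uw.1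
    rw [act_repWord, act_append, act_nil] at e
    exact e
  have himg : (uE ^ k' * δ wE) ^ 11 = 1 := by
    rw [← hδu, ← map_mul, ← map_pow, h11, map_one]
  have hk1 : k' = 1 := by
    by_contra hne
    have hm : k' ∈ [2, 4] := by
      rcases hk124 with h | h | h
      · exact absurd h hne
      · simp [h]
      · simp [h]
    have hb := List.all_eq_true.1 order_uw.2 k' hm
    simp only [Bool.and_eq_true, Bool.not_eq_true'] at hb
    rcases hδw with h | h <;> rw [h] at himg
    · have e := eqG_of_eq (lt_rep (lt_app lt_w (lt_rep (lt_eight lt_u) k')) 11) lt_nil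
        (by rw [act_repWord, act_append, act_repWord, act_nil]; exact himg)
      rw [hb.1] at e
      exact Bool.noConfusion e
    · have e := eqG_of_eq (lt_rep (lt_app lt_winv (lt_rep (lt_eight lt_u) k')) 11) lt_nil
        (by rw [act_repWord, act_append, act_repWord, act_nil, act_invWord lt_w]; exact himg)
      rw [hb.2] at e
      exact Bool.noConfusion e
  rw [hk1, pow_one] at hδu
  exact ⟨δ, by rw [hδ, step, hγ, step, hβ, step], hδu, hδv, hδw⟩

/-- The outer automorphism group has two elements. -/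
theorem card_out : Nat.card (Cfsg.Out G) = 2 := by
  classical
  refine le_antisymm ?_ (MathieuOut.two_le_card_out alpha alpha_outer)
  refine le_trans (Nat.card_le_card_of_surjective
    (fun b : Bool => if b then (QuotientGroup.mk alpha : Cfsg.Out G) else 1) fun z => ?_) (by simp)
  obtain ⟨δ, rfl, hu, hv, hw⟩ := normalised z
  obtain ⟨au, av, aw⟩ := alpha_eval
  rcases hw with h | h
  · exact ⟨false, by rw [ext_three (α := δ) (β := 1) hu hv h]; rfl⟩
  · exact ⟨true, by
      rw [ext_three (α := δ) (β := alpha) (hu.trans au.symm) (hv.trans av.symm)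
        (h.trans aw.symm)]
      rfl⟩

end CfsgLib.ONanP.Out
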