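import Cfsg.Prelude.Def_Spor_ON
import Cfsg.Agent.Lib.PresCert.Bound

/-!
# The presented O'Nan group on numbered letters

The letters 0, …, 5 are the six involutions, 6 is the further generator and 7 its inverse.
-/

set_option autoImplicit false
set_option maxRecDepth 100000

namespace CfsgLib.ONanP

open CfsgLib.PresCert Cfsg.Spor

/-- The number of a generator. -/
def genIx : ON.Gen → ℕ
  | .a => 0
  | .b => 1
  | .c => 2
  | .d => 3
  | .e => 4
  | .f => 5
  | .g => 6

/-- The number of the inverse letter. -/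
def invIx : ℕ → ℕ
  | 6 => 7
  | 7 => 6
  | i => i

/-- The generator of a letter. -/
def genAt : ℕ → ON.Gen
  | 0 => .a
  | 1 => .b
  | 2 => .c
  | 3 => .d
  | 4 => .e
  | 5 => .f
  | _ => .g

/-- The letters of a syllable. -/
def letter (p : ON.Gen × Bool) : ℕ := if p.2 then genIx p.1 else invIx (genIx p.1)

/-- The relators as a list. -/
def relList : List (FreeGroup ON.Gen) :=
  (coxNodes ON.edges).flatMap (fun x => (coxNodes ON.edges).map fun y =>
    (FreeGroup.of x * FreeGroup.of y) ^ coxLabel ON.edges x y) ++ ON.extra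

/-- The relators as words in the letters. -/
def presRels : List (List ℕ) := relList.map fun r => (r.toWord.map letter).reverse

/-- The set of relators. -/
abbrev relSet : Set (FreeGroup ON.Gen) := coxRelators ON.edges ∪ {r | r ∈ ON.extra}

/-- The element of a letter. -/
def gen (i : ℕ) : Cfsg.Spor.ON :=
  if i = 7 then (PresentedGroup.of ON.Gen.g)⁻¹ else PresentedGroup.of (genAt i)

theorem relList_mem {r : FreeGroup ON.Gen} : r ∈ relList ↔ r ∈ relSet := by
  simp only [relList, List.mem_append, List.mem_flatMap, List.mem_map, coxRelators,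
    Set.mem_union, Set.mem_ofPred_eq]
  constructor
  · rintro (⟨x, hx, y, hy, rfl⟩ | h)
    · exact Or.inl ⟨x, hx, y, hy, rfl⟩
    · exact Or.inr h
  · rintro (⟨x, hx, y, hy, rfl⟩ | h)
    · exact Or.inl ⟨x, hx, y, hy, rfl⟩
    · exact Or.inr h

theorem relList_one {r : FreeGroup ON.Gen} (h : r ∈ relList) : PresentedGroup.mk relSet r = 1 :=
  PresentedGroup.mk_eq_one_iff.2 (Subgroup.subset_normalClosure (relList_mem.1 h))

theorem node (x : ON.Gen) (hx : x ≠ .g) : x ∈ coxNodes ON.edges := by
  cases x <;> first | exact absurd rfl hx | decide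

theorem of_sq (x : ON.Gen) (hx : x ≠ .g) :
    (PresentedGroup.of x : Cfsg.Spor.ON) * PresentedGroup.of x = 1 := by
  have h := relList_one (r := (FreeGroup.of x * FreeGroup.of x) ^ coxLabel ON.edges x x) (by
    simp only [relList, List.mem_append, List.mem_flatMap, List.mem_map]
    exact Or.inl ⟨x, node x hx, x, node x hx, rfl⟩)
  simpa [coxLabel, PresentedGroup.of] using h

theorem gen_ix (x : ON.Gen) : gen (genIx x) = PresentedGroup.of x := by
  cases x <;> simp [gen, genIx, genAt]

theorem gen_inv : ∀ i, i < 8 → gen i * gen (invIx i) = 1 := by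
  intro i hi
  interval_cases i
  iterate 6 (exact of_sq _ (by decide))
  · simp [gen, invIx, genAt]
  · simp [gen, invIx, genAt]

theorem gen_sq {i : ℕ} (hi : i < 6) : gen i * gen i = 1 := by
  have h := gen_inv i (by omega)
  interval_cases i <;> exact h

theorem invIx_lt : ∀ i, i < 8 → invIx i < 8 ∧ invIx (invIx i) = i := by
  intro i hi
  interval_cases i <;> simp [invIx]

theorem gen_invIx {i : ℕ} (hi : i < 8) : gen (invIx i) = (gen i)⁻¹ :=
  eq_inv_of_mul_eq_one_right (gen_inv i hi)

theorem mk_eq_act (L : List (ON.Gen × Bool)) :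
    PresentedGroup.mk relSet (FreeGroup.mk L) = act gen (L.map letter).reverse := by
  induction L with
  | nil =>
    rw [← FreeGroup.one_eq_mk, map_one]
    rfl
  | cons p L ih =>
    obtain ⟨x, b⟩ := p
    rw [show FreeGroup.mk ((x, b) :: L) = FreeGroup.mk [(x, b)] * FreeGroup.mk L from rfl, map_mul,
      ih, List.map_cons, List.reverse_cons, act_append, act_cons, act_nil, one_mul]
    congr 1
    cases b
    · have e : FreeGroup.mk [(x, false)] = (FreeGroup.of x)⁻¹ := rfl
      rw [e, map_inv]
      show (PresentedGroup.of x : Cfsg.Spor.ON)⁻¹ = gen (invIx (genIx x))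
      rw [gen_invIx (by cases x <;> decide), gen_ix]
    · exact (gen_ix x).symm

theorem rels_one {w : List ℕ} (hw : w ∈ presRels) : act gen w = 1 := by
  obtain ⟨r, hr, rfl⟩ := List.mem_map.1 hw
  rw [← mk_eq_act, FreeGroup.mk_toWord, relList_one hr]

/-- The word of the inverse. -/
def invWord (w : List ℕ) : List ℕ := (w.map invIx).reverse

theorem act_invWord : ∀ {w : List ℕ}, (∀ g ∈ w, g < 8) → act gen (invWord w) = (act gen w)⁻¹
  | [], _ => by simp [invWord, act_nil]
  | g :: w, hw => by
    rw [invWord, List.map_cons, List.reverse_cons, act_append, act_cons, act_cons, act_nil,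
      one_mul, mul_inv_rev, gen_invIx (hw g (by simp))]
    congr 1
    exact act_invWord fun a ha => hw a (by simp [ha])

theorem invWord_lt {w : List ℕ} (hw : ∀ g ∈ w, g < 8) : ∀ g ∈ invWord w, g < 8 := by
  intro g hg
  obtain ⟨a, ha, rfl⟩ := List.mem_map.1 (List.mem_reverse.1 hg)
  exact (invIx_lt a (hw a ha)).1

theorem closure_all : genGrp ((List.range 7).map fun g => [g]) gen = ⊤ := by
  rw [eq_top_iff, ← PresentedGroup.closure_range_of, Subgroup.closure_le]
  rintro _ ⟨x, rfl⟩
  refine Subgroup.subset_closure ⟨[genIx x], ?_, ?_⟩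
  · exact List.mem_map.2 ⟨_, List.mem_range.2 (by cases x <;> decide), rfl⟩
  · rw [act_cons, act_nil, one_mul, gen_ix]

/-- The words of the six involutions. -/
def singles : List (List ℕ) := (List.range 6).map fun g => [g]

/-- The subgroup generated by the six involutions. -/
def subH : Subgroup Cfsg.Spor.ON := genGrp singles gen

theorem gen_mem_subH {i : ℕ} (hi : i < 6) : gen i ∈ subH :=
  Subgroup.subset_closure ⟨[i], List.mem_map.2 ⟨i, List.mem_range.2 hi, rfl⟩,
    by rw [act_cons, act_nil, one_mul]⟩

theorem act_mem_subH {w : List ℕ} (hw : ∀ g ∈ w, g < 6) : act gen w ∈ subH := by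
  induction w with
  | nil => exact one_mem _
  | cons g w ih =>
    rw [act_cons]
    exact mul_mem (ih fun a ha => hw a (by simp [ha])) (gen_mem_subH (hw g (by simp)))

theorem map_closure_eq : (Subgroup.closure ({ON.a, ON.b, ON.c, ON.d, ON.e, ON.f} :
    Set (FreeGroup ON.Gen))).map (PresentedGroup.mk relSet) = subH := by
  have key : ∀ x : ON.Gen, PresentedGroup.mk relSet (FreeGroup.of x) = gen (genIx x) :=
    fun x => (gen_ix x).symm
  apply le_antisymm
  · rw [MonoidHom.map_closure, Subgroup.closure_le]
    rintro _ ⟨r, hr, rfl⟩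
    simp only [Set.mem_insert_iff, Set.mem_singleton_iff] at hr
    rcases hr with rfl | rfl | rfl | rfl | rfl | rfl <;>
      exact (key _) ▸ gen_mem_subH (by decide)
  · refine (Subgroup.closure_le _).2 ?_
    rintro m ⟨w, hw, rfl⟩
    obtain ⟨i, hi, rfl⟩ := List.mem_map.1 hw
    rw [act_cons, act_nil, one_mul]
    have hi' : i < 6 := List.mem_range.1 hi
    refine ⟨FreeGroup.of (genAt i), Subgroup.subset_closure ?_, ?_⟩
    · interval_cases i <;> simp [genAt]
    · rw [key]
      interval_cases i <;> rfl

end CfsgLib.ONanP
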