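import Cfsg.Agent.Lib.ONanP.ColData0
import Cfsg.Agent.Lib.ONanP.ColData1
import Cfsg.Agent.Lib.ONanP.ColData2
import Cfsg.Agent.Lib.ONanP.ColData3

/-!
# The relations at a point of the table
-/

set_option autoImplicit false
set_option maxRecDepth 100000

namespace CfsgLib.ONanP

/-- The image of a point under a letter. -/
noncomputable def cimg (g i : Nat) : Nat :=
  Bool.rec (motive := fun _ => Nat)
    (Bool.rec (motive := fun _ => Nat)
      (Bool.rec (motive := fun _ => Nat) (col7 i) (col6 i) (Nat.beq g 6))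
      (Bool.rec (motive := fun _ => Nat) (col5 i) (col4 i) (Nat.beq g 4)) (Nat.blt g 6))
    (Bool.rec (motive := fun _ => Nat)
      (Bool.rec (motive := fun _ => Nat) (col3 i) (col2 i) (Nat.beq g 2))
      (Bool.rec (motive := fun _ => Nat) (col1 i) (col0 i) (Nat.beq g 0)) (Nat.blt g 2))
    (Nat.blt g 4)

/-- An involution at a point. -/
noncomputable def invAt (c : Nat → Nat) (i : Nat) : Bool := Nat.blt (c i) 122760 && Nat.beq (c (c i)) i

/-- The relations at a point. -/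
noncomputable def pointOk (i : Nat) : Bool :=
  invAt col0 i &&
  invAt col1 i &&
  invAt col2 i &&
  invAt col3 i &&
  invAt col4 i &&
  invAt col5 i &&
  Nat.blt (col6 i) 122760 &&
  Nat.blt (col7 i) 122760 &&
  Nat.beq (col7 (col6 i)) i &&
  Nat.beq (col6 (col7 i)) i &&
  Nat.beq (col2 (col0 i)) (col0 (col2 i)) &&
  Nat.beq (col3 (col0 i)) (col0 (col3 i)) &&
  Nat.beq (col4 (col0 i)) (col0 (col4 i)) &&
  Nat.beq (col5 (col0 i)) (col0 (col5 i)) &&
  Nat.beq (col3 (col1 i)) (col1 (col3 i)) &&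
  Nat.beq (col4 (col1 i)) (col1 (col4 i)) &&
  Nat.beq (col5 (col1 i)) (col1 (col5 i)) &&
  Nat.beq (col4 (col2 i)) (col2 (col4 i)) &&
  Nat.beq (col5 (col2 i)) (col2 (col5 i)) &&
  Nat.beq (col5 (col3 i)) (col3 (col5 i)) &&
  Nat.beq (col0 (col1 (col0 i))) (col1 (col0 (col1 i))) &&
  Nat.beq (col1 (col2 (col1 i))) (col2 (col1 (col2 i))) &&
  Nat.beq (col3 (col4 (col3 i))) (col4 (col3 (col4 i))) &&
  Nat.beq (col4 (col5 (col4 i))) (col5 (col4 (col5 i))) &&
  Nat.beq (col0 (col5 (col7 (col7 i)))) i &&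
  Nat.beq (col0 (col5 (col3 (col2 (col3 (col2 (col3 (col2 (col3 (col2 i)))))))))) i &&
  Nat.beq (col2 (col7 (col3 (col7 (col3 (col2 (col3 (col6 (col3 (col6 i)))))))))) i &&
  Nat.beq (col3 (col7 (col2 (col7 (col2 (col3 (col2 (col6 (col2 (col6 i)))))))))) i &&
  Nat.beq (col1 (col2 (col3 (col6 (col1 (col2 (col3 (col6 (col1 (col2 (col3 (col6 (col1 (col2 (col3 (col6 (col1 (col2 (col3 (col6 i)))))))))))))))))))) i &&
  Nat.beq (col6 (col1 (col2 (col6 (col2 (col1 (col6 (col1 (col2 (col6 (col2 i))))))))))) i &&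
  Nat.beq (col6 (col4 (col3 (col6 (col3 (col4 (col6 (col4 (col3 (col6 (col3 i))))))))))) i

/-- The relations at a block of 1000 points. -/
noncomputable def tabBlock (b : Nat) : Bool :=
  (List.range 1000).all fun j => !(Nat.blt (1000 * b + j) 122760) || pointOk (1000 * b + j)

end CfsgLib.ONanP
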