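import Cfsg.Agent.Lib.PresCert.Fast
import Cfsg.Agent.Lib.ONanP.TabFun

/-!
# The table on 122760 points and the check at a point
-/

set_option autoImplicit false
set_option maxRecDepth 100000

namespace CfsgLib.ONanP

open CfsgLib.PresCert

/-- The table. -/
noncomputable def tab : Fast.Tab where
  ng := 8
  n := 122760
  img := cimg

end CfsgLib.ONanP
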