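import Cfsg.Agent.Lib.ONanP.OutDefs

/-!
# Kernel checks of the fixed points, part 0
-/

set_option autoImplicit false
set_option maxRecDepth 100000
set_option maxHeartbeats 0

namespace CfsgLib.ONanP.Out

theorem u_scan0 : uBlock 0 = true := by decide +kernel

theorem v_scan0 : vBlock 0 = true := by decide +kernel

theorem u_scan1 : uBlock 1 = true := by decide +kernel

theorem v_scan1 : vBlock 1 = true := by decide +kernel

theorem u_scan2 : uBlock 2 = true := by decide +kernel

theorem v_scan2 : vBlock 2 = true := by decide +kernel

theorem u_scan3 : uBlock 3 = true := by decide +kernel

theorem v_scan3 : vBlock 3 = true := by decide +kernel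

theorem u_scan4 : uBlock 4 = true := by decide +kernel

theorem v_scan4 : vBlock 4 = true := by decide +kernel

theorem u_scan5 : uBlock 5 = true := by decide +kernel

theorem v_scan5 : vBlock 5 = true := by decide +kernel

theorem u_scan6 : uBlock 6 = true := by decide +kernel

theorem v_scan6 : vBlock 6 = true := by decide +kernel

theorem u_scan7 : uBlock 7 = true := by decide +kernel

theorem v_scan7 : vBlock 7 = true := by decide +kernel

theorem u_scan8 : uBlock 8 = true := by decide +kernel

theorem v_scan8 : vBlock 8 = true := by decide +kernel

theorem u_scan9 : uBlock 9 = true := by decide +kernel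

theorem v_scan9 : vBlock 9 = true := by decide +kernel

theorem u_scan10 : uBlock 10 = true := by decide +kernel

theorem v_scan10 : vBlock 10 = true := by decide +kernel

theorem u_scan11 : uBlock 11 = true := by decide +kernel

theorem v_scan11 : vBlock 11 = true := by decide +kernel

theorem u_scan12 : uBlock 12 = true := by decide +kernel

theorem v_scan12 : vBlock 12 = true := by decide +kernel

theorem u_scan13 : uBlock 13 = true := by decide +kernel

theorem v_scan13 : vBlock 13 = true := by decide +kernel

theorem u_scan14 : uBlock 14 = true := by decide +kernel

theorem v_scan14 : vBlock 14 = true := by decide +kernel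

theorem u_scan15 : uBlock 15 = true := by decide +kernel

theorem v_scan15 : vBlock 15 = true := by decide +kernel

theorem u_scan16 : uBlock 16 = true := by decide +kernel

theorem v_scan16 : vBlock 16 = true := by decide +kernel

theorem u_scan17 : uBlock 17 = true := by decide +kernel

theorem v_scan17 : vBlock 17 = true := by decide +kernel

theorem u_scan18 : uBlock 18 = true := by decide +kernel

theorem v_scan18 : vBlock 18 = true := by decide +kernel

theorem u_scan19 : uBlock 19 = true := by decide +kernel

theorem v_scan19 : vBlock 19 = true := by decide +kernel

theorem u_scan20 : uBlock 20 = true := by decide +kernel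

theorem v_scan20 : vBlock 20 = true := by decide +kernel

theorem u_scan21 : uBlock 21 = true := by decide +kernel

theorem v_scan21 : vBlock 21 = true := by decide +kernel

theorem u_scan22 : uBlock 22 = true := by decide +kernel

theorem v_scan22 : vBlock 22 = true := by decide +kernel

theorem u_scan23 : uBlock 23 = true := by decide +kernel

theorem v_scan23 : vBlock 23 = true := by decide +kernel

theorem u_scan24 : uBlock 24 = true := by decide +kernel

theorem v_scan24 : vBlock 24 = true := by decide +kernel

theorem u_scan25 : uBlock 25 = true := by decide +kernel

theorem v_scan25 : vBlock 25 = true := by decide +kernel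

theorem u_scan26 : uBlock 26 = true := by decide +kernel

theorem v_scan26 : vBlock 26 = true := by decide +kernel

theorem u_scan27 : uBlock 27 = true := by decide +kernel

theorem v_scan27 : vBlock 27 = true := by decide +kernel

theorem u_scan28 : uBlock 28 = true := by decide +kernel

theorem v_scan28 : vBlock 28 = true := by decide +kernel

theorem u_scan29 : uBlock 29 = true := by decide +kernel

theorem v_scan29 : vBlock 29 = true := by decide +kernel

theorem u_scan30 : uBlock 30 = true := by decide +kernel

theorem v_scan30 : vBlock 30 = true := by decide +kernel

end CfsgLib.ONanP.Out
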