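import Cfsg.Agent.Lib.ONanP.Subgroups
import Cfsg.Agent.Lib.ONanP.Closure

/-!
# The O'Nan group as a permutation group of degree 122760
-/

set_option autoImplicit false
set_option maxRecDepth 100000

namespace CfsgLib.ONanP

theorem p₀_val : p₀.val = 0 := by
  rw [p₀, rootPt_val (by norm_num)]
  decide +kernel

theorem exists_perm_group : ∃ H : Subgroup (Equiv.Perm (Fin tab.n)), Cfsg.IsON H ∧
    MulAction.IsPretransitive H (Fin tab.n) ∧
    Nat.card (MulAction.stabilizer H p₀) = 3753792 ∧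
    (∃ K : Subgroup H, Cfsg.IsJ1 K) ∧ (∃ K : Subgroup H, Cfsg.IsM11 K) := by
  let e : Cfsg.Spor.ON ≃* phi.range := MonoidHom.ofInjective phi_injective
  haveI := isON.1
  have hsub : ∀ (c : ℕ), (∃ K : Subgroup Cfsg.Spor.ON, IsSimpleGroup K ∧ Nat.card K = c) →
      ∃ K : Subgroup phi.range, IsSimpleGroup K ∧ Nat.card K = c := by
    rintro c ⟨K, hK, hc⟩
    haveI := hK
    exact ⟨K.map e.toMonoidHom, MulEquiv.isSimpleGroup (K.equivMapOfInjective _ e.injective).symm,
      (Nat.card_congr (K.equivMapOfInjective _ e.injective).toEquiv).symm.trans hc⟩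
  refine ⟨phi.range, ⟨MulEquiv.isSimpleGroup e.symm, ?_⟩, ⟨fun i j => ?_⟩, ?_,
    hsub _ exists_jan, hsub _ exists_math⟩
  · rw [← Nat.card_congr e.toEquiv, card_ON]
  · obtain ⟨m, hm⟩ := phi_transitive i j
    exact ⟨⟨phi m, m, rfl⟩, hm⟩
  · have h : subH.map e.toMonoidHom = MulAction.stabilizer phi.range p₀ := by
      ext x
      obtain ⟨m, rfl⟩ := e.surjective x
      rw [MulAction.mem_stabilizer_iff]
      show e m ∈ subH.map e.toMonoidHom ↔ phi m p₀ = p₀
      rw [stab_zero, Subgroup.mem_map]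
      exact ⟨fun ⟨a, ha, he⟩ => e.injective he ▸ ha, fun hm => ⟨m, hm, rfl⟩⟩
    rw [← h]
    exact (Nat.card_congr (subH.equivMapOfInjective e.toMonoidHom e.injective).toEquiv).symm.trans card_subH

end CfsgLib.ONanP
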