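import Cfsg.Agent.Lib.ONanP.Forests
import Cfsg.Agent.Lib.ONanP.HBound
import Cfsg.Agent.Lib.ONanP.CountFun

/-!
# The subgroup of the six involutions and its point stabilisers
-/

set_option autoImplicit false
set_option maxRecDepth 100000

namespace CfsgLib.ONanP

open CfsgLib.PresCert Cfsg.Spor

theorem hRels_gen : HRels gen := by
  intro w hw
  have key : certURels.all (fun v => presRels.contains v) = true := by decide +kernel
  exact rels_one (List.contains_iff_mem.1 (List.all_eq_true.1 key w hw))

theorem subH_finite : Finite subH ∧ Nat.card subH ≤ 3753792 := hBound hRels_gen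

/-- The table for the six involutions. -/
noncomputable abbrev tabH : Fast.Tab where
  ng := 6
  n := tab.n
  img := tab.img

/-- The letters in the subgroup. -/
def hGen (k : ℕ) : subH := if hk : k < 6 then ⟨gen k, gen_mem_subH hk⟩ else 1

/-- The restricted action. -/
noncomputable def phiH : subH →* Equiv.Perm (Fin tabH.n) := phi.comp subH.subtype

theorem realisedH : Fast.Realised hGen tabH phiH := by
  refine ⟨fun k i hk hi => realised.lt k i (show k < 8 by have : k < 6 := hk; omega) hi,
    fun k hk i => ?_⟩
  have hk' : k < 6 := hk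
  rw [show phiH (hGen k) = phi (gen k) by
    show phi ((hGen k : subH) : Cfsg.Spor.ON) = _
    rw [hGen, dif_pos hk']]
  exact realised.app k (show k < 8 by omega) i

theorem hGen_act : ∀ {w : List ℕ}, (∀ g ∈ w, g < 6) →
    ((act hGen w : subH) : Cfsg.Spor.ON) = act gen w
  | [], _ => rfl
  | g :: w, hw => by
    rw [act_cons, act_cons, Subgroup.coe_mul, hGen_act fun a ha => hw a (by simp [ha]), hGen,
      dif_pos (hw g (by simp))]

theorem point_orbit {k : ℕ} (hk : k < 5) :
    orbitCount k * Nat.card (Fast.fixSub phiH [orbitRoot k]) ≤ Nat.card subH := by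
  haveI := subH_finite.1
  letI : MulAction subH (Fin tabH.n) := MulAction.compHom _ phiH
  set i : Fin tabH.n := rootPt k with hi
  have hval : i.val = orbitRoot k := rootPt_val hk
  have horb : orbitCount k ≤ (MulAction.orbit subH i).ncard := by
    classical
    rw [orbitCount, ← List.toFinset_card_of_nodup (List.nodup_range.filter _),
      ← Set.ncard_coe_finset]
    refine le_trans ?_ (Set.ncard_image_le (f := fun q : Fin tabH.n => q.val)
      (Set.toFinite (MulAction.orbit subH i)))
    refine Set.ncard_le_ncard ?_ (Set.toFinite _)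
    intro v hv
    simp only [Finset.mem_coe, List.mem_toFinset, List.mem_filter, List.mem_range,
      Nat.beq_eq] at hv
    obtain ⟨m, hm, hmv⟩ := orbit_reach ⟨v, hv.1⟩
    simp only [hv.2] at hmv
    exact ⟨⟨v, hv.1⟩, ⟨⟨m, hm⟩, hmv⟩, rfl⟩
  have h2 := Nat.card_congr (MulAction.orbitProdStabilizerEquivGroup subH i)
  rw [Nat.card_prod, Nat.card_coe_set_eq] at h2
  have hst : Nat.card (MulAction.stabilizer subH i) =
      Nat.card (Fast.fixSub phiH [orbitRoot k]) := by
    refine Nat.card_congr (Equiv.subtypeEquivRight fun m => ?_)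
    rw [MulAction.mem_stabilizer_iff, Fast.mem_fixSub]
    refine ⟨fun h j hj => ?_, fun h => h i (List.mem_singleton.2 hval)⟩
    obtain rfl : j = i := Fin.ext ((List.mem_singleton.1 hj).trans hval.symm)
    exact h
  rw [← h2, hst]
  exact Nat.mul_le_mul_right _ horb

theorem levels_checks :
    Fast.levelsOk tabH [orbitRoot 1] levels1 = true ∧
    Fast.levelsOk tabH [orbitRoot 2] levels2 = true ∧
    Fast.levelsOk tabH [orbitRoot 3] levels3 = true ∧
    Fast.levelsOk tabH [orbitRoot 4] levels4 = true ∧
    (levels1.map fun l => l.pts.length).prod = 64 ∧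
    (levels2.map fun l => l.pts.length).prod = 672 ∧
    (levels3.map fun l => l.pts.length).prod = 72 ∧
    (levels4.map fun l => l.pts.length).prod = 588 ∧
    base = orbitRoot 2 :: levels2.map Fast.Level.base := by
  decide +kernel

theorem counts : orbitCount 0 = 1 ∧ orbitCount 1 = 58653 ∧ orbitCount 2 = 5586 ∧
    orbitCount 3 = 52136 ∧ orbitCount 4 = 6384 := by
  have h := orbitCount_values
  simpa using h

theorem stab_card_le {k c s : ℕ} (hk : k < 5) (hc : orbitCount k = c) (hcs : c * s = 3753792)
    (h0 : 0 < c) : Nat.card (Fast.fixSub phiH [orbitRoot k]) ≤ s := by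
  have h := (point_orbit hk).trans subH_finite.2
  rw [hc, ← hcs] at h
  exact Nat.le_of_mul_le_mul_left h h0

theorem tight2 : Nat.card (Fast.fixSub phiH [orbitRoot 2]) = 672 ∧
    Fast.fixSub phiH base = ⊥ := by
  haveI := subH_finite.1
  obtain ⟨-, l2, -, -, -, p2, -, -, hb⟩ := levels_checks
  have h := Fast.base_tight realisedH l2
    (p2 ▸ stab_card_le (by norm_num) counts.2.2.1 (by norm_num) (by norm_num))
  rw [p2] at h
  rw [hb]
  exact h

theorem card_subH : Nat.card subH = 3753792 := by
  have h := point_orbit (k := 2) (by norm_num)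
  rw [tight2.1, counts.2.2.1] at h
  exact le_antisymm subH_finite.2 h

/-- An element of the subgroup fixing the base points is trivial. -/
theorem eq_of_base {m m' : Cfsg.Spor.ON} (hm : m ∈ subH) (hm' : m' ∈ subH)
    (h : ∀ i : Fin tab.n, i.val ∈ base → phi m i = phi m' i) : m = m' := by
  have h1 : (⟨m⁻¹ * m', mul_mem (inv_mem hm) hm'⟩ : subH) ∈ Fast.fixSub phiH base := by
    intro i hi
    show phi (m⁻¹ * m') i = i
    rw [map_mul, Equiv.Perm.mul_apply, ← h i hi, ← Equiv.Perm.mul_apply, ← map_mul,
      inv_mul_cancel, map_one, Equiv.Perm.one_apply]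
  rw [tight2.2, Subgroup.mem_bot] at h1
  exact eq_of_inv_mul_eq_one (congrArg Subtype.val h1)

/-- The stabiliser of a root lies in any subgroup containing its level generators. -/
theorem stab_le {k c s : ℕ} {ls : List Fast.Level} {S : Subgroup Cfsg.Spor.ON} (hk : k < 5)
    (hls : Fast.levelsOk tabH [orbitRoot k] ls = true)
    (hprod : (ls.map fun l => l.pts.length).prod = s) (hc : orbitCount k = c)
    (hcs : c * s = 3753792) (h0 : 0 < c) (hg : ∀ l ∈ ls, ∀ w ∈ l.gens, act gen w ∈ S)
    {m : Cfsg.Spor.ON} (hm : m ∈ subH) (hfix : phi m (rootPt k) = rootPt k) : m ∈ S := by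
  haveI := subH_finite.1
  have hle := hprod ▸ stab_card_le hk hc hcs h0
  have hletters : ∀ l ∈ ls, ∀ w ∈ l.gens, ∀ g ∈ w, g < 6 := by
    suffices ∀ (fixed : List ℕ) (ls : List Fast.Level), Fast.levelsOk tabH fixed ls = true →
        ∀ l ∈ ls, ∀ w ∈ l.gens, ∀ g ∈ w, g < 6 from this _ ls hls
    intro fixed ls
    induction ls generalizing fixed with
    | nil => intro _ l hl; exact absurd hl List.not_mem_nil
    | cons a as ih =>
      intro h l hl
      simp only [Fast.levelsOk, Bool.and_eq_true] at h
      rcases List.mem_cons.1 hl with rfl | hl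
      · intro w hw g hgw
        have h1 := h.1
        simp only [Fast.levelOk, Bool.and_eq_true, List.all_eq_true, Nat.blt_eq] at h1
        exact (h1.1.1.1.1.1 w hw).1 g hgw
      · exact ih _ h.2 l hl
  have hS := Fast.fixSub_le_of_gens realisedH (S := S.comap subH.subtype) hls
    (fun l hl w hw => by
      show ((act hGen w : subH) : Cfsg.Spor.ON) ∈ S
      rw [hGen_act (hletters l hl w hw)]
      exact hg l hl w hw)
    (by rw [(Fast.base_tight realisedH hls hle).2]; exact bot_le) hle
  exact hS (show (⟨m, hm⟩ : subH) ∈ Fast.fixSub phiH [orbitRoot k] from fun i hi => by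
    obtain rfl : i = rootPt k := Fin.ext ((List.mem_singleton.1 hi).trans (rootPt_val hk).symm)
    exact hfix)

end CfsgLib.ONanP
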