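import Cfsg.Agent.Lib.ONanP.SubModel
import Cfsg.Agent.Lib.Golay.J1
import Cfsg.Agent.Lib.Golay.Dodecad

/-!
# Simple subgroups of orders 175560 and 7920 of the presented O'Nan group
-/

set_option autoImplicit false
set_option maxRecDepth 100000

namespace CfsgLib.ONanP

open CfsgLib.PresCert CfsgLib.Golay
open scoped MatrixGroups

/-- The words for the three letters of a pair. -/
def pairWord (y : List ℕ) : ℕ → List ℕ
  | 0 => [0]
  | 1 => y
  | _ => invWord y

theorem gen_zero_ne : gen 0 ≠ 1 := by
  intro h
  obtain ⟨i, hi, hne⟩ : ∃ i, i < 122760 ∧ tab.walk i [0] ≠ i := ⟨7, by norm_num, by decide +kernel⟩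
  apply hne
  rw [← phi_act (w := [0]) (by decide) ⟨i, hi⟩, act_cons, act_nil, one_mul, h, map_one,
    Equiv.Perm.one_apply]

theorem pair_inv {y : List ℕ} (hy : y.all (fun g => Nat.blt g 8) = true) :
    act gen (pairWord y 1) * act gen (pairWord y 2) = 1 := by
  show act gen y * act gen (invWord y) = 1
  rw [act_invWord (by simpa [List.all_eq_true] using hy), mul_inv_cancel]

/-! ### The first subgroup -/

/-- The code of a model letter. -/
def janCode (g : ℕ) : ℕ := janCodes.getD g J1.oneM

/-- The code of a word in the model letters. -/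
def janEval : List ℕ → ℕ
  | [] => J1.oneM
  | g :: w => J1.mulM (janEval w) (janCode g)

/-- The paired generators. -/
noncomputable def janGen (g : ℕ) : Cfsg.Spor.ON × GL (Fin 7) (ZMod 11) :=
  (act gen (pairWord janWord g), J1.val (janCode g))

/-- The letters of the intermediate subgroup as words. -/
def midWord : ℕ → List ℕ
  | 0 => janU
  | 1 => janV
  | _ => Paired.invW iv3 janV

theorem jan_checks : janWord.all (fun g => Nat.blt g 8) = true ∧ J1.okM (janCode 0) = true ∧
    J1.okM (janCode 1) = true ∧ J1.okM (janCode 2) = true ∧ janEval [0, 0] = J1.oneM ∧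
    janEval [2, 1] = J1.oneM ∧ oneWord [0, 0] = true ∧
    certJRels.all (fun w => w.all (fun g => Nat.blt g 3) && oneWord (w.flatMap (pairWord janWord)) &&
      Nat.beq (janEval w) J1.oneM) = true ∧
    certLRels.all (fun v => let w := v.flatMap midWord
      w.all (fun g => Nat.blt g 3) && oneWord (w.flatMap (pairWord janWord)) &&
      Nat.beq (janEval w) J1.oneM) = true ∧
    (janBack.map janEval) = [J1.codeX, J1.codeY] ∧
    janBack.all (fun w => w.all fun g => Nat.blt g 3) = true ∧
    janV.all (fun g => Nat.blt g 3) = true := by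
  decide +kernel

theorem janCode_ok : ∀ g, g < 3 → J1.okM (janCode g) = true := by
  obtain ⟨-, a, b, c, -⟩ := jan_checks
  intro g hg
  interval_cases g
  exacts [a, b, c]

theorem janEval_spec : ∀ {w : List ℕ}, (∀ g ∈ w, g < 3) →
    J1.okM (janEval w) = true ∧ act (fun g => J1.val (janCode g)) w = J1.val (janEval w)
  | [], _ => ⟨J1.ok_one', by rw [act_nil, janEval, J1.val_one']⟩
  | g :: w, hw => by
    obtain ⟨h1, h2⟩ := janEval_spec (w := w) fun a ha => hw a (by simp [ha])
    have hg := janCode_ok g (hw g (by simp))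
    exact ⟨J1.ok_mul' _ _ h1 hg, by rw [act_cons, h2, janEval, J1.val_mul' _ _ h1 hg]⟩

theorem janGen_word {w : List ℕ} (hw : ∀ g ∈ w, g < 3)
    (h1 : oneWord (w.flatMap (pairWord janWord)) = true) (h2 : janEval w = J1.oneM) :
    act janGen w = 1 := by
  rw [act_prod]
  refine Prod.ext ?_ ?_
  · show act (fun g => act gen (pairWord janWord g)) w = 1
    rw [act_flatMap, oneWord_sound h1]
  · show act (fun g => J1.val (janCode g)) w = 1
    rw [(janEval_spec hw).2, h2, J1.val_one']

theorem jan_trio : Trio janGen := by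
  obtain ⟨hy, -, -, -, h0, h1, ha, -⟩ := jan_checks
  refine ⟨?_, ?_⟩
  · have := janGen_word (w := [0, 0]) (by decide) ha h0
    simpa [act_cons, act_nil] using this
  · refine Prod.ext (pair_inv hy) ?_
    have := (janEval_spec (w := [2, 1]) (by decide)).2
    rw [h1, J1.val_one'] at this
    simpa [act_cons, act_nil, janGen] using this

theorem jan_rels : (∀ w ∈ certJRels, act janGen w = 1) ∧
    ∀ w ∈ certLRels, act (midGen janGen) w = 1 := by
  obtain ⟨-, -, -, -, -, -, -, hJ, hL, -, -, hV⟩ := jan_checks
  simp only [List.all_eq_true, Bool.and_eq_true, Nat.blt_eq, Nat.beq_eq] at hJ hL hV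
  refine ⟨fun w hw => janGen_word (hJ w hw).1.1 (hJ w hw).1.2 (hJ w hw).2, fun v hv => ?_⟩
  have e : midGen janGen = fun g => act janGen (midWord g) := by
    funext g
    match g with
    | 0 => rfl
    | 1 => rfl
    | g + 2 =>
      show (act janGen janV)⁻¹ = act janGen (Paired.invW iv3 janV)
      obtain ⟨⟨hg, -⟩, -⟩ := sub_cert_words
      exact (Paired.act_invW (D := certJ) (fun a ha => jan_trio.inv a (hg ▸ ha))
        (fun a ha => hg.symm ▸ hV a ha)).symm
  rw [e, act_flatMap]
  exact janGen_word (hL v hv).1.1 (hL v hv).1.2 (hL v hv).2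

theorem exists_jan : ∃ K : Subgroup Cfsg.Spor.ON, IsSimpleGroup K ∧ Nat.card K = 175560 := by
  haveI : Finite J1.grpJ1 := Nat.finite_of_card_ne_zero (by rw [J1.card_grpJ1]; norm_num)
  obtain ⟨-, -, -, -, -, -, -, -, -, hback, hlt, -⟩ := jan_checks
  simp only [List.all_eq_true, Nat.blt_eq] at hlt
  have hb := jan_bound jan_trio jan_rels.1 jan_rels.2
  rw [← J1.card_grpJ1]
  refine sub_of_model janGen J1.grpJ1 ?_ (by rwa [J1.card_grpJ1]) J1.grpJ1_simple gen_zero_ne
  rw [J1.grpJ1_eq, Subgroup.closure_le]
  have key : ∀ c ∈ janBack.map janEval,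
      J1.val c ∈ (genGrp three janGen).map (MonoidHom.snd Cfsg.Spor.ON _) := by
    intro c hc
    obtain ⟨w, hw, rfl⟩ := List.mem_map.1 hc
    refine ⟨act janGen w, ?_, ?_⟩
    · clear hb hback hc
      have hw3 := hlt w hw
      clear hw
      induction w with
      | nil => exact one_mem _
      | cons g w ih =>
        rw [act_cons]
        refine mul_mem (ih fun a ha => hw3 a (by simp [ha])) (Subgroup.subset_closure ⟨[g], ?_, ?_⟩)
        · have : g < 3 := hw3 g (by simp)
          interval_cases g <;> decide
        · rw [act_cons, act_nil, one_mul]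
    · rw [act_prod]
      exact (janEval_spec (hlt w hw)).2
  rintro _ (rfl | rfl)
  · exact key _ (by rw [hback]; simp)
  · exact key _ (by rw [hback]; simp)

/-! ### The second subgroup -/

/-- The list of a model letter. -/
def mathPerm (g : ℕ) : List ℕ := mathPerms.getD g (List.range 24)

/-- The list of a word in the model letters. -/
def mathEval : List ℕ → List ℕ
  | [] => List.range 24
  | g :: w => compL (mathEval w) (mathPerm g)

/-- All tails of a word give valid lists. -/
def mathOk : List ℕ → Bool
  | [] => validL 24 (List.range 24)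
  | g :: w => Nat.blt g 3 && validL 24 (mathPerm g) && validL 24 (compL (mathEval w) (mathPerm g)) &&
      mathOk w

/-- The paired generators. -/
noncomputable def mathGen (g : ℕ) : Cfsg.Spor.ON × Equiv.Perm Cfsg.GolayPt :=
  (act gen (pairWord mathWord g), permOf ptEquiv (mathPerm g))

theorem mathEval_spec : ∀ {w : List ℕ}, mathOk w = true →
    validL 24 (mathEval w) = true ∧
      act (fun g => permOf ptEquiv (mathPerm g)) w = permOf ptEquiv (mathEval w)
  | [], h => ⟨h, by rw [act_nil, mathEval, permOf_id ptEquiv h]⟩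
  | g :: w, h => by
    simp only [mathOk, Bool.and_eq_true] at h
    obtain ⟨⟨⟨-, hg⟩, hv⟩, hrest⟩ := h
    obtain ⟨h1, h2⟩ := mathEval_spec hrest
    exact ⟨hv, by rw [act_cons, h2, mathEval, permOf_comp ptEquiv h1 hg hv]⟩

theorem math_checks : mathWord.all (fun g => Nat.blt g 8) = true ∧
    (certMRels ++ [[0, 0], [2, 1]]).all (fun w => mathOk w &&
      oneWord (w.flatMap (pairWord mathWord)) && decide (mathEval w = List.range 24)) = true ∧
    mathBack.map mathEval = m11ChainGens ∧ mathBack.all mathOk = true := by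
  decide +kernel

theorem mathGen_word {w : List ℕ} (hw : w ∈ certMRels ++ [[0, 0], [2, 1]]) : act mathGen w = 1 := by
  have h := List.all_eq_true.1 math_checks.2.1 w hw
  simp only [Bool.and_eq_true, decide_eq_true_eq] at h
  obtain ⟨⟨h1, h2⟩, h3⟩ := h
  rw [act_prod]
  refine Prod.ext ?_ ?_
  · show act (fun g => act gen (pairWord mathWord g)) w = 1
    rw [act_flatMap, oneWord_sound h2]
  · show act (fun g => permOf ptEquiv (mathPerm g)) w = 1
    rw [(mathEval_spec h1).2, h3, permOf_id ptEquiv (by decide +kernel)]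

theorem math_trio : Trio mathGen := by
  refine ⟨?_, ?_⟩
  · simpa [act_cons, act_nil] using mathGen_word (w := [0, 0]) (by simp)
  · simpa [act_cons, act_nil] using mathGen_word (w := [2, 1]) (by simp)

theorem exists_math : ∃ K : Subgroup Cfsg.Spor.ON, IsSimpleGroup K ∧ Nat.card K = 7920 := by
  haveI : Finite Cfsg.Spor.M11 := Nat.finite_of_card_ne_zero (by rw [card_M11]; norm_num)
  obtain ⟨-, -, hback, hok⟩ := math_checks
  simp only [List.all_eq_true] at hok
  have hb := math_bound math_trio fun w hw => mathGen_word (List.mem_append_left _ hw)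
  rw [← card_M11]
  refine sub_of_model mathGen Cfsg.Spor.M11 ?_ (by rwa [card_M11]) M11_simple gen_zero_ne
  have key : ∀ L ∈ m11ChainGens, permOf ptEquiv L ∈
      (genGrp three mathGen).map (MonoidHom.snd Cfsg.Spor.ON _) := by
    intro L hL
    rw [← hback] at hL
    obtain ⟨w, hw, rfl⟩ := List.mem_map.1 hL
    refine ⟨act mathGen w, ?_, ?_⟩
    · clear hL hb
      have h := hok w hw
      clear hw
      induction w with
      | nil => exact one_mem _
      | cons g w ih =>
        simp only [mathOk, Bool.and_eq_true, Nat.blt_eq] at h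
        obtain ⟨⟨⟨hg, -⟩, -⟩, hrest⟩ := h
        rw [act_cons]
        refine mul_mem (ih hrest) (Subgroup.subset_closure ⟨[g], ?_, ?_⟩)
        · interval_cases g <;> decide
        · rw [act_cons, act_nil, one_mul]
    · rw [act_prod]
      exact (mathEval_spec (hok w hw)).2
  conv_lhs => rw [← M11_eq_fixNums]
  exact chain_le ptEquiv Cfsg.Spor.M12 _ (chainCheck_ok m11Chain_check) m11Chain_reps m11Chain_cover
    (chainCheck_reps _ _ m11Chain_check key)

end CfsgLib.ONanP
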