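import Cfsg.Agent.Lib.ONanP.TabFun

/-!
# Checks of the table, part 1
-/

set_option autoImplicit false
set_option maxRecDepth 100000

namespace CfsgLib.ONanP

theorem tabBlock4 : tabBlock 4 = true := by decide +kernel

theorem tabBlock5 : tabBlock 5 = true := by decide +kernel

theorem tabBlock6 : tabBlock 6 = true := by decide +kernel

theorem tabBlock7 : tabBlock 7 = true := by decide +kernel

end CfsgLib.ONanP
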