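import Cfsg.Agent.Lib.ONanP.TabFun

/-!
# Checks of the table, part 13
-/

set_option autoImplicit false
set_option maxRecDepth 100000

namespace CfsgLib.ONanP

theorem tabBlock52 : tabBlock 52 = true := by decide +kernel

theorem tabBlock53 : tabBlock 53 = true := by decide +kernel

theorem tabBlock54 : tabBlock 54 = true := by decide +kernel

theorem tabBlock55 : tabBlock 55 = true := by decide +kernel

end CfsgLib.ONanP
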