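import Cfsg.Agent.Lib.ONanP.TabFun

/-!
# Checks of the table, part 18
-/

set_option autoImplicit false
set_option maxRecDepth 100000

namespace CfsgLib.ONanP

theorem tabBlock72 : tabBlock 72 = true := by decide +kernel

theorem tabBlock73 : tabBlock 73 = true := by decide +kernel

theorem tabBlock74 : tabBlock 74 = true := by decide +kernel

theorem tabBlock75 : tabBlock 75 = true := by decide +kernel

end CfsgLib.ONanP
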