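import Cfsg.Agent.Lib.ONanP.TabFun

/-!
# Checks of the table, part 25
-/

set_option autoImplicit false
set_option maxRecDepth 100000

namespace CfsgLib.ONanP

theorem tabBlock100 : tabBlock 100 = true := by decide +kernel

theorem tabBlock101 : tabBlock 101 = true := by decide +kernel

theorem tabBlock102 : tabBlock 102 = true := by decide +kernel

theorem tabBlock103 : tabBlock 103 = true := by decide +kernel

end CfsgLib.ONanP
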