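import Cfsg.Agent.Lib.ONanP.Tab
import Cfsg.Agent.Lib.ONanP.TabCheck0
import Cfsg.Agent.Lib.ONanP.TabCheck1
import Cfsg.Agent.Lib.ONanP.TabCheck2
import Cfsg.Agent.Lib.ONanP.TabCheck3
import Cfsg.Agent.Lib.ONanP.TabCheck4
import Cfsg.Agent.Lib.ONanP.TabCheck5
import Cfsg.Agent.Lib.ONanP.TabCheck6
import Cfsg.Agent.Lib.ONanP.TabCheck7
import Cfsg.Agent.Lib.ONanP.TabCheck8
import Cfsg.Agent.Lib.ONanP.TabCheck9
import Cfsg.Agent.Lib.ONanP.TabCheck10
import Cfsg.Agent.Lib.ONanP.TabCheck11
import Cfsg.Agent.Lib.ONanP.TabCheck12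
import Cfsg.Agent.Lib.ONanP.TabCheck13
import Cfsg.Agent.Lib.ONanP.TabCheck14
import Cfsg.Agent.Lib.ONanP.TabCheck15
import Cfsg.Agent.Lib.ONanP.TabCheck16
import Cfsg.Agent.Lib.ONanP.TabCheck17
import Cfsg.Agent.Lib.ONanP.TabCheck18
import Cfsg.Agent.Lib.ONanP.TabCheck19
import Cfsg.Agent.Lib.ONanP.TabCheck20
import Cfsg.Agent.Lib.ONanP.TabCheck21
import Cfsg.Agent.Lib.ONanP.TabCheck22
import Cfsg.Agent.Lib.ONanP.TabCheck23
import Cfsg.Agent.Lib.ONanP.TabCheck24
import Cfsg.Agent.Lib.ONanP.TabCheck25
import Cfsg.Agent.Lib.ONanP.TabCheck26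
import Cfsg.Agent.Lib.ONanP.TabCheck27
import Cfsg.Agent.Lib.ONanP.TabCheck28
import Cfsg.Agent.Lib.ONanP.TabCheck29
import Cfsg.Agent.Lib.ONanP.TabCheck30

/-!
# All blocks of the table
-/

set_option autoImplicit false
set_option maxRecDepth 100000

namespace CfsgLib.ONanP

theorem tab_blocks : ∀ b < 123, tabBlock b = true := by
  intro b hb
  interval_cases b
  exact tabBlock0
  exact tabBlock1
  exact tabBlock2
  exact tabBlock3
  exact tabBlock4
  exact tabBlock5
  exact tabBlock6
  exact tabBlock7
  exact tabBlock8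
  exact tabBlock9
  exact tabBlock10
  exact tabBlock11
  exact tabBlock12
  exact tabBlock13
  exact tabBlock14
  exact tabBlock15
  exact tabBlock16
  exact tabBlock17
  exact tabBlock18
  exact tabBlock19
  exact tabBlock20
  exact tabBlock21
  exact tabBlock22
  exact tabBlock23
  exact tabBlock24
  exact tabBlock25
  exact tabBlock26
  exact tabBlock27
  exact tabBlock28
  exact tabBlock29
  exact tabBlock30
  exact tabBlock31
  exact tabBlock32
  exact tabBlock33
  exact tabBlock34
  exact tabBlock35
  exact tabBlock36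
  exact tabBlock37
  exact tabBlock38
  exact tabBlock39
  exact tabBlock40
  exact tabBlock41
  exact tabBlock42
  exact tabBlock43
  exact tabBlock44
  exact tabBlock45
  exact tabBlock46
  exact tabBlock47
  exact tabBlock48
  exact tabBlock49
  exact tabBlock50
  exact tabBlock51
  exact tabBlock52
  exact tabBlock53
  exact tabBlock54
  exact tabBlock55
  exact tabBlock56
  exact tabBlock57
  exact tabBlock58
  exact tabBlock59
  exact tabBlock60
  exact tabBlock61
  exact tabBlock62
  exact tabBlock63
  exact tabBlock64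
  exact tabBlock65
  exact tabBlock66
  exact tabBlock67
  exact tabBlock68
  exact tabBlock69
  exact tabBlock70
  exact tabBlock71
  exact tabBlock72
  exact tabBlock73
  exact tabBlock74
  exact tabBlock75
  exact tabBlock76
  exact tabBlock77
  exact tabBlock78
  exact tabBlock79
  exact tabBlock80
  exact tabBlock81
  exact tabBlock82
  exact tabBlock83
  exact tabBlock84
  exact tabBlock85
  exact tabBlock86
  exact tabBlock87
  exact tabBlock88
  exact tabBlock89
  exact tabBlock90
  exact tabBlock91
  exact tabBlock92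
  exact tabBlock93
  exact tabBlock94
  exact tabBlock95
  exact tabBlock96
  exact tabBlock97
  exact tabBlock98
  exact tabBlock99
  exact tabBlock100
  exact tabBlock101
  exact tabBlock102
  exact tabBlock103
  exact tabBlock104
  exact tabBlock105
  exact tabBlock106
  exact tabBlock107
  exact tabBlock108
  exact tabBlock109
  exact tabBlock110
  exact tabBlock111
  exact tabBlock112
  exact tabBlock113
  exact tabBlock114
  exact tabBlock115
  exact tabBlock116
  exact tabBlock117
  exact tabBlock118
  exact tabBlock119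
  exact tabBlock120
  exact tabBlock121
  exact tabBlock122

end CfsgLib.ONanP
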